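import Cfsg.Agent.ExtraNine.Model

/-!
# Finite facts about the two kinds of singular vectors

`sP = 1` is a pure vector, `sR = 65` a singular vector of rank two. `v4` lists the common part
of the possible elementary groups of order eight, `fix` the possible fixed elements of those.
-/

set_option autoImplicit false
set_option maxRecDepth 100000
set_option synthInstance.maxSize 100000

namespace CfsgLib.ExtraNine

/-- The data at a singular vector. -/
structure Rep where
  /-- the vector -/
  s : ℕ
  /-- an element of order three fixing it -/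
  k : List ℕ
  /-- a basis of the orthogonal hyperplane -/
  wb : List ℕ
  /-- the common part -/
  v4 : List (List ℕ)
  /-- the fixed elements -/
  fix : List (List ℕ)
  /-- a basis of the totally singular subspace -/
  es : List ℕ
  /-- a second vector of the same kind, outside the subspace -/
  w : ℕ
  /-- an element taking `s` to `w` -/
  m : List ℕ

/-- A transvection on both copies of `U`. -/
def fTrans : List ℕ := [1, 3, 4, 8, 16, 48, 64, 128]
/-- The product of `mT` and `fTrans`. -/
def fBoth : List ℕ := [1, 3, 4, 8, 17, 51, 68, 136]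
/-- The fixed element at the rank two vector. -/
def fRank : List ℕ := [1, 6, 4, 9, 16, 96, 64, 144]

/-- The pure vector. -/
def repP : Rep where
  s := 1
  k := [1, 2, 8, 12, 16, 32, 128, 192]
  wb := [1, 2, 4, 8, 16, 64, 128]
  v4 := [[1, 7, 4, 9, 16, 112, 64, 144], [1, 11, 5, 8, 16, 176, 80, 128],
    [1, 15, 5, 9, 16, 240, 80, 144]]
  fix := [fTrans, mT, fBoth]
  es := [1, 4, 8, 16]
  w := 2
  m := mD1

/-- The rank two vector. -/
def repR : Rep where
  s := 65
  k := mul (mul mC mD2) (mul mU mD1)
  wb := [1, 2, 4, 16, 64, 128, 40]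
  v4 := [[1, 3, 4, 12, 16, 48, 64, 192], [1, 6, 4, 13, 16, 96, 64, 208],
    [1, 7, 4, 9, 16, 112, 64, 144]]
  fix := [fRank]
  es := [1, 4, 16, 64]
  w := 40
  m := mul mD1 (mul mG mD1)

namespace Rep

variable (r : Rep)

/-- The displacement of the hyperplane basis. -/
def img (A : List ℕ) : List ℕ := r.wb.map fun w => app A w ^^^ w

/-- Conditions on one element of `A`. -/
def good (A : List ℕ) : Bool :=
  A != one8 && mul A A == one8 && (r.img A).all fun a => qv a == 0 &&
    (r.img A).all (fun b => bv a b == 0) && (app A a ^^^ a == 0 || app A a ^^^ a == r.s)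

/-- Conditions on two elements of `A`. -/
def compat (A B : List ℕ) : Bool :=
  mul A B == mul B A && (r.img A).all fun a =>
    (r.img B).all (fun b => bv a b == 0) && (app B a ^^^ a == 0 || app B a ^^^ a == r.s)

/-- Conjugation by `k`. -/
def cjk (A : List ℕ) : List ℕ := mul r.k (mul A (mul r.k r.k))

/-- The conditions on an element of `A`, using that `A` is invariant under `k`. -/
def surv (A : List ℕ) : Bool :=
  r.good A && r.good (r.cjk A) && r.compat A (r.cjk A)

/-- All candidates. -/
def cand : List (List ℕ) :=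
  r.v4 ++ r.fix ++ r.v4.flatMap fun v => r.fix.map fun f => mul v f

/-- The group generated by the common part and `f`, without the identity. -/
def grp (f : List ℕ) : List (List ℕ) := r.v4 ++ [f] ++ r.v4.map fun v => mul v f

/-- The totally singular subspace. -/
def es' : List ℕ := spanList r.es

/-- Everything needed about the representative. -/
structure Facts : Prop where
  s_mem : r.s < 256 ∧ r.s ≠ 0 ∧ qv r.s = 0
  k_cube : mul r.k (mul r.k r.k) = one8 ∧ app r.k r.s = r.s
  wb_perp : ∀ w ∈ r.wb, w < 256 ∧ bv w r.s = 0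
  wb_span : ∀ n, n < 256 → bv n r.s = 0 → n ∈ spanList r.wb
  surv_cand : ∀ A ∈ stabList r.s, r.surv A = true → A ∈ r.cand
  moved : ∀ A ∈ r.cand, A ∈ r.fix ∨ mul A (r.cjk A) ∈ r.v4
  v4_orbit : ∀ v ∈ r.v4, ∀ u ∈ r.v4, u = v ∨ u = r.cjk v ∨ u = r.cjk (r.cjk v)
  fix_of_coset : ∀ v ∈ r.v4, ∀ f ∈ r.fix, mul v (mul v f) = f
  fixed_unique : ∀ f ∈ r.fix, ∀ A ∈ r.grp f, r.cjk A = A → A = f
  es_eq : ∀ f ∈ r.fix, ∀ e ∈ r.es', e ∈ spanList (((f :: r.v4).flatMap r.img).dedup)
  es_card : r.es'.length = 16 ∧ r.es'.Nodup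
  w_mem : r.w < 256 ∧ app r.m r.s = r.w ∧ bv r.w r.s = 0 ∧ r.w ∉ r.es'
  w_fixed : ∀ A ∈ stabList r.s, app A r.w ^^^ r.w ∈ r.es'

end Rep

theorem factsP : repP.Facts := by
  constructor <;> decide +kernel

theorem factsR : repR.Facts := by
  constructor <;> decide +kernel

/-- The transvection case fails the symmetry of the commutator pairing. -/
theorem trans_facts : (∀ w ∈ repP.wb, app fTrans w ^^^ w = 0 ∨ app fTrans w ^^^ w = 1) ∧
    ∃ v ∈ repP.v4, app v 2 ^^^ 2 ≠ 0 ∧ app v 2 ^^^ 2 ≠ 1 := by
  decide +kernel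

/-- The subspace of `U` common to `es` and its image under `mD1`, with `1` adjoined. -/
def t8 : List ℕ := [0, 1, 4, 5, 8, 9, 12, 13]

theorem t8_sub : ∀ e ∈ t8, ∃ x ∈ repP.es', ∃ i ∈ [0, 1],
    e = x ^^^ i ∧ x ∈ repP.es'.map (app mD1) := by
  decide +kernel

theorem both_singular : ∀ n, n < 256 → app fBoth n = n → qv n = 0 → n ∈ t8 := by
  decide +kernel

theorem tau_fixed : ∀ n, n < 256 → app mT n = n → n < 16 := by
  decide +kernel

theorem rank_fixed : ∀ n, n < 256 → app fRank n = n →
    n ∈ spanList (one8.map fun i => app fRank i ^^^ i) := by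
  decide +kernel

theorem tau_image : ∀ n, n < 256 → app mT n = n →
    n ∈ spanList (one8.map fun i => app mT i ^^^ i) := by
  decide +kernel

theorem pair_transport : app mG repP.s = 4 ∧ app mG repP.w = 8 ∧ 4 ∈ t8 ∧ 8 ∈ t8 := by
  decide +kernel

/-- The odd order maps used for transitivity on `U`. -/
def oddGens : List (List ℕ) := [mD1, mD2, mul mU mD1]

theorem odd_orders : mul mD1 (mul mD1 mD1) = one8 ∧ mul mD2 (mul mD2 mD2) = one8 ∧
    (let u := mul mU mD1; mul u (mul u (mul u (mul u u))) = one8) := by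
  decide +kernel

theorem oddGens_transitive : ∀ x, x < 16 → x ≠ 0 →
    x ∈ reach ((oddGens.map fun g => mul g g).map app) [1] 8 := by
  decide +kernel

theorem oddGens_comm : ∀ g ∈ oddGens, mul g mT = mul mT g := by
  decide +kernel

theorem span_t8 : ∀ x, x < 16 → x ∈ spanList [1, 4, 8, app mD1 1] := by
  decide +kernel

theorem c_rank : mul mC fRank = mul fRank mC ∧
    (∀ e ∈ repR.es', app mC e ∈ repR.es') ∧
    app (mul mC mC) 65 ≠ 65 ∧ app (mul mC mC) 65 ≠ 0 := by
  decide +kernel

end CfsgLib.ExtraNine
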