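import Cfsg.Agent.ExtraNine.Check

/-!
# Finite facts: orbits, the three copies of `U`, uniqueness of the last generator
-/

set_option autoImplicit false
set_option maxRecDepth 100000
set_option synthInstance.maxSize 100000

namespace CfsgLib.ExtraNine

/-- The `k`-th copy of the vector `p` of `U`. -/
def copy : ℕ → ℕ → ℕ
  | 0, p => p
  | k + 1, p => app mC (copy k p)

/-- The orbit of a vector under the generators. -/
def orbit (s : ℕ) : List ℕ := reach (gens.map app) [s] 8

theorem orbits : (∀ n, n < 256 → n ≠ 0 → qv n = 0 → n ∈ orbit 1 ∨ n ∈ orbit 65) ∧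
    (orbit 1).length = 45 ∧ (orbit 1).Nodup ∧ (orbit 65).length = 90 ∧ (orbit 65).Nodup := by
  decide +kernel

theorem orbit_one : (∀ k < 3, ∀ p < 16, p ≠ 0 → copy k p ∈ orbit 1) ∧
    ∀ n ∈ orbit 1, ∃ k < 3, ∃ p < 16, n = copy k p := by
  decide +kernel

theorem gens_beta : ∀ g ∈ gens, ∀ i ∈ one8, ∀ j ∈ one8,
    bv (app g i) (app g j) = bv i j ∧ qv (app g i) = qv i := by
  decide +kernel

/-- Two vectors in different copies with sum in a copy have the same point. -/
theorem copy_sum : ∀ k < 3, ∀ l < 3, ∀ p < 16, ∀ r < 16, k ≠ l → p ≠ 0 → r ≠ 0 → p ≠ r →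
    ∀ i < 3, ∀ t < 16, copy i t ≠ copy k p ^^^ copy l r := by
  decide +kernel

/-- The matrix sending the eigenvector `19` to `n` and commuting as the last generator does. -/
def uMat (n : ℕ) : List ℕ :=
  let c := app mC
  let n1 := app mG n
  let n2 := app mG n1
  let n3 := app mG n2
  let a := n ^^^ n2
  let b := c n ^^^ c (c n2)
  let d := n3 ^^^ n1
  let e := c n3 ^^^ c (c n1)
  [a, b, d, e, c a, c b, c d, c e]

theorem uMat_unique : ∀ n, n < 256 → mul (uMat n) (uMat n) = one8 →
    (let u := mul (uMat n) mD1; mul u (mul u (mul u (mul u u))) = one8) →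
    (let u := mul (uMat n) mD2; mul u (mul u (mul u (mul u u))) = one8) →
    (let u := mul (uMat n) (mul mD1 mD2); mul u (mul u u) = one8) → uMat n = mU := by
  decide +kernel

/-- The projections to the four weight lines. -/
def projs : List (ℕ → ℕ) :=
  [(mD1, mC), (mD1, mul mC mC), (mD2, mC), (mD2, mul mC mC)].map fun ab n =>
    app ab.1 (app ab.1 n ^^^ n) ^^^ app ab.2 (app ab.1 n ^^^ n)

/-- The twelve nonzero vectors on the weight lines. -/
def lines : List ℕ := reach [app mC, app mG] [19] 5

theorem projs_line : ∀ n, n < 256 → n ≠ 0 → ∃ i < 4, (projs.getD i id) n ∈ lines := by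
  decide +kernel

theorem lines_back : ∀ n ∈ lines, 19 ∈ reach [app mC, app mG] [n] 5 := by
  decide +kernel

end CfsgLib.ExtraNine
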