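import Cfsg.Agent.ExtraNine.Trivial
import Cfsg.Agent.ExtraNine.Struct

/-!
# Coordinates: `Q / Z(Q)` is `2 ⊗ 4`
-/

set_option autoImplicit false
set_option linter.style.haveILetI false

namespace CfsgLib.ExtraNine

universe u v

local notation "A6" => alternatingGroup (Fin 6)

/-! ### Linearity in coordinates -/

theorem bit_xor (a b i : ℕ) : (bit (a ^^^ b) i : ZMod 2) = bit a i + bit b i := by
  have h : bit (a ^^^ b) i = (bit a i + bit b i) % 2 := by
    unfold bit
    rw [Nat.xor_div_two_pow, Nat.xor_mod_two_eq, Nat.add_mod]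
  rw [h, ZMod.natCast_mod, Nat.cast_add]

/-- `beta` over the field of two elements. -/
def betaF (x y : ℕ) : ZMod 2 := (beta x y : ZMod 2)

theorem betaF_eq (x y : ℕ) : betaF x y = (bit x 1 : ZMod 2) * bit y 0 + bit x 0 * bit y 1 +
    bit x 3 * bit y 2 + bit x 2 * bit y 3 := by
  rw [betaF, beta, ZMod.natCast_mod]
  push_cast
  ring

theorem betaF_xor_left (x x' y : ℕ) : betaF (x ^^^ x') y = betaF x y + betaF x' y := by
  simp only [betaF_eq, bit_xor]; ring

theorem betaF_xor_right (x y y' : ℕ) : betaF x (y ^^^ y') = betaF x y + betaF x y' := by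
  simp only [betaF_eq, bit_xor]; ring

/-- `qv` over the field of two elements. -/
def qF (n : ℕ) : ZMod 2 := (qv n : ZMod 2)

/-- `bv` over the field of two elements. -/
def bF (n m : ℕ) : ZMod 2 := (bv n m : ZMod 2)

theorem bF_eq (n m : ℕ) :
    bF n m = betaF (n % 16) (m / 16) + betaF (m % 16) (n / 16) := by
  rw [bF, bv, ZMod.natCast_mod, Nat.cast_add]; rfl

theorem mod16_xor (a b : ℕ) : (a ^^^ b) % 16 = a % 16 ^^^ b % 16 :=
  Nat.xor_mod_two_pow (n := 4)

theorem div16_xor (a b : ℕ) : (a ^^^ b) / 16 = a / 16 ^^^ b / 16 :=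
  Nat.xor_div_two_pow (n := 4)

theorem bF_xor_left (a a' b : ℕ) : bF (a ^^^ a') b = bF a b + bF a' b := by
  simp only [bF_eq, mod16_xor, div16_xor, betaF_xor_left, betaF_xor_right]; ring

theorem bF_xor_right (a b b' : ℕ) : bF a (b ^^^ b') = bF a b + bF a b' := by
  simp only [bF_eq, mod16_xor, div16_xor, betaF_xor_left, betaF_xor_right]; ring

theorem qF_xor (a b : ℕ) : qF (a ^^^ b) = qF a + qF b + bF a b := by
  show betaF ((a ^^^ b) % 16) ((a ^^^ b) / 16) =
    betaF (a % 16) (a / 16) + betaF (b % 16) (b / 16) + _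
  rw [bF_eq, mod16_xor, div16_xor, betaF_xor_left, betaF_xor_right, betaF_xor_right]; ring

theorem mem_span_one8 : ∀ n, n < 256 → n ∈ spanList one8 := by decide +kernel

theorem spanList_lt (l : List ℕ) (h : ∀ v ∈ l, v < 256) : ∀ n ∈ spanList l, n < 256 :=
  spanList_induction (· < 256) (by norm_num) (fun _ _ ha hb => Nat.xor_lt_two_pow (n := 8) ha hb)
    l h

theorem span_eigen : ∀ n, n < 256 → n ∈ spanList [19, 76, 18, 72, 33, 132, 49, 196] := by
  decide +kernel

theorem uMat_lt : ∀ n, n < 256 → ∀ v ∈ uMat n, v < 256 := by decide +kernel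

theorem nineteen_projs : ∀ i < 4, ∀ n, n < 256 →
    (projs.getD i id) n = app ([mD1, mD1, mD2, mD2].getD i [])
      (app ([mD1, mD1, mD2, mD2].getD i []) n ^^^ n) ^^^
      app ([mC, mul mC mC, mC, mul mC mC].getD i [])
        (app ([mD1, mD1, mD2, mD2].getD i []) n ^^^ n) := by
  decide +kernel

theorem basic_orbit : (∀ n ∈ [1, 2, 4, 5, 6, 8, 3, 9, 10, 12, 16, 32, 64, 128, 48, 80, 96, 144,
      160, 192, 17, 34, 68, 136, 51], n ∈ orbit 1) ∧
    ∀ n ∈ [1 + 16 * 4, 1 + 16 * 8, 1 + 16 * 12, 2 + 16 * 4, 2 + 16 * 8, 4 + 16 * 1, 4 + 16 * 2,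
      8 + 16 * 1, 8 + 16 * 2, 5 + 16 * 10], n ∈ orbit 65 := by
  decide +kernel

variable {G : Type u} [Group G] {L : Type v} [Group L] {S : Shape G L}

open Shape

/-! ### The coordinate map -/

/-- The linear map with given values on the basis. -/
def psi : List S.Vec → ℕ → S.Vec
  | [], _ => 0
  | v :: vs, n => (if n % 2 = 1 then v else 0) + psi vs (n / 2)

theorem psi_xor : ∀ (e : List S.Vec) (a b : ℕ), psi e (a ^^^ b) = psi e a + psi e b
  | [], _, _ => by simp [psi]
  | v :: vs, a, b => by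
    simp only [psi]
    rw [Nat.xor_div_two, psi_xor vs]
    have h : (a ^^^ b) % 2 = (a % 2 + b % 2) % 2 := by
      rw [Nat.xor_mod_two_eq, Nat.add_mod]
    rcases Nat.mod_two_eq_zero_or_one a with ha | ha <;>
      rcases Nat.mod_two_eq_zero_or_one b with hb | hb
    · simp [h, ha, hb]
    · simp [h, ha, hb]; abel
    · simp [h, ha, hb]; abel
    · simp [h, ha, hb]
      calc psi vs (a / 2) + psi vs (b / 2)
          = (v + v) + (psi vs (a / 2) + psi vs (b / 2)) := by rw [add_self', zero_add]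
        _ = _ := by abel

theorem psi_zero : ∀ e : List S.Vec, psi e 0 = 0
  | [] => rfl
  | v :: vs => by simp [psi, psi_zero vs]

/-- `σ` has matrix `M`. -/
def Mod (e : List S.Vec) (σ : L) (M : List ℕ) : Prop :=
  ∀ n, n < 256 → S.act σ (psi e n) = psi e (app M n)

/-- The elementary properties of the generators. -/
structure Core (t : Quad) : Prop where
  d1_cube : t.d1 ^ 3 = 1
  d2_cube : t.d2 ^ 3 = 1
  d_comm : t.d1 * t.d2 = t.d2 * t.d1
  g_four : t.g ^ 4 = 1
  g_d1 : t.g * t.d1 = t.d2 * t.g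
  g_d2 : t.g * t.d2 = t.d1⁻¹ * t.g
  u_g : t.u * t.g = t.g⁻¹ * t.u
  u_sq : t.u * t.u = 1
  five1 : (t.u * t.d1) ^ 5 = 1
  five2 : (t.u * t.d2) ^ 5 = 1
  three : (t.u * (t.d1 * t.d2)) ^ 3 = 1
  gen : ∀ H : Subgroup A6, t.d1 ∈ H → t.d2 ∈ H → t.g ∈ H → t.u ∈ H → H = ⊤

theorem coreA : Core quadA where
  d1_cube := relA.d1_cube
  d2_cube := relA.d2_cube
  d_comm := relA.d_comm
  g_four := relA.g_four
  g_d1 := relA.g_d1
  g_d2 := relA.g_d2
  u_g := relA.u_g
  u_sq := relA.u_sq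
  five1 := relA.five1
  five2 := relA.five2
  three := relA.three
  gen := fun _ => quadA_gen

theorem coreB : Core quadB where
  d1_cube := relB.d1_cube
  d2_cube := relB.d2_cube
  d_comm := relB.d_comm
  g_four := relB.g_four
  g_d1 := relB.g_d1
  g_d2 := relB.g_d2
  u_g := relB.u_g
  u_sq := relB.u_sq
  five1 := relB.five1
  five2 := relB.five2
  three := relB.three
  gen := fun _ => quadB_gen

/-- Coordinates on `Q / Z(Q)` adapted to `3 × A₆`. -/
structure Frame {G : Type u} [Group G] {L : Type v} [Group L] (S : Shape G L) where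
  /-- the basis -/
  e : List S.Vec
  /-- the generators -/
  t : Quad
  gen : ∀ H : Subgroup A6, t.d1 ∈ H → t.d2 ∈ H → t.g ∈ H → t.u ∈ H → H = ⊤
  inj : ∀ n, n < 256 → psi e n = 0 → n = 0
  surj : ∀ v, ∃ n, n < 256 ∧ psi e n = v
  modC : Mod e S.c mC
  mod1 : Mod e (S.ι t.d1) mD1
  mod2 : Mod e (S.ι t.d2) mD2
  modG : Mod e (S.ι t.g) mG
  modU : Mod e (S.ι t.u) mU

theorem mod_mul {e : List S.Vec} {σ τ : L} {M N : List ℕ} (h1 : Mod e σ M) (h2 : Mod e τ N)
    (hN : ∀ v ∈ N, v < 256) : Mod e (σ * τ) (mul M N) := by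
  intro n hn
  rw [act_mul, h2 n hn, h1 _ (app_lt N hN n), app_mul]

theorem gens_lt : ∀ M ∈ gens, ∀ v ∈ M, v < 256 := by decide +kernel

/-- Existence of coordinates, given an eigenvector. -/
theorem exists_frame_of_vector [Finite G] {t : Quad} (ht : Core t) {v : S.Vec} (hv : V2 S v)
    (hv0 : v ≠ 0) (h2 : S.act (S.ι t.d2) v = v) (h1 : S.act (S.ι t.d1) v = S.act S.c v) :
    Nonempty (Frame S) := by
  have cc : ∀ {u}, V2 S u → S.act S.c (S.act S.c u) = u + S.act S.c u := fun {u} hu =>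
    (eq_of_add_eq_zero hu).symm
  set g : S.Vec → S.Vec := fun u => S.act (S.ι t.g) u with hg
  have hgc : ∀ u, g (S.act S.c u) = S.act S.c (g u) := fun u => (c_ι _ u).symm
  have hgV : ∀ {u}, V2 S u → V2 S (g u) := fun {u} hu => by
    rw [V2, ← hgc, ← hgc, hg, ← map_add, ← map_add, hu, map_zero]
  have hg4 : ∀ u, g (g (g (g u))) = u := fun u => by
    simp only [hg, ← act_mul, ← map_mul]
    rw [show t.g * (t.g * (t.g * t.g)) = t.g ^ 4 by simp [pow_succ, mul_assoc], ht.g_four, map_one,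
      act_one]
  have hi : ∀ {a : A6}, a ^ 3 = 1 → ∀ u, S.act (S.ι a⁻¹) u = S.act (S.ι a) (S.act (S.ι a) u) :=
    fun {a} ha u => by
      rw [inv_eq_of_mul_eq_one_right (show a * (a * a) = 1 by rw [← pow_three]; exact ha),
        map_mul, act_mul]
  have hd1g : ∀ u, S.act (S.ι t.d1) (g u) = g (S.act (S.ι t.d2) (S.act (S.ι t.d2) u)) := by
    intro u
    rw [← hi ht.d2_cube]
    show S.act (S.ι t.d1) (S.act (S.ι t.g) u) = S.act (S.ι t.g) (S.act (S.ι t.d2⁻¹) u)
    rw [← act_mul, ← act_mul, ← map_mul, ← map_mul,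
      show t.d1 * t.g = t.g * t.d2⁻¹ by
        calc t.d1 * t.g = t.d1 * (t.g * t.d2) * t.d2⁻¹ := by group
          _ = t.g * t.d2⁻¹ := by rw [ht.g_d2]; group]
  have hd2g : ∀ u, S.act (S.ι t.d2) (g u) = g (S.act (S.ι t.d1) u) := fun u => by
    show S.act (S.ι t.d2) (S.act (S.ι t.g) u) = S.act (S.ι t.g) (S.act (S.ι t.d1) u)
    rw [← act_mul, ← act_mul, ← map_mul, ← map_mul, ht.g_d1]
  have hcι : ∀ (a : A6) u, S.act (S.ι a) (S.act S.c u) = S.act S.c (S.act (S.ι a) u) :=
    fun a u => (c_ι a u).symm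
  obtain ⟨w, hw⟩ : ∃ w, w = S.act S.c v := ⟨_, rfl⟩
  obtain ⟨v1, hv1⟩ : ∃ w, w = g v := ⟨_, rfl⟩
  obtain ⟨v2, hv2⟩ : ∃ w, w = g v1 := ⟨_, rfl⟩
  obtain ⟨v3, hv3⟩ : ∃ w, w = g v2 := ⟨_, rfl⟩
  have hV1 : V2 S v1 := hv1 ▸ hgV hv
  have hV2 : V2 S v2 := hv2 ▸ hgV hV1
  have hV3 : V2 S v3 := hv3 ▸ hgV hV2
  set c : S.Vec → S.Vec := fun u => S.act S.c u with hc
  let e : List S.Vec := [v + v2, c v + c (c v2), v1 + v3, c v1 + c (c v3),
    c (v + v2), c (c v + c (c v2)), c (v1 + v3), c (c v1 + c (c v3))]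
  have hpe : psi e 19 = v ∧ psi e 76 = v1 ∧ psi e 18 = v2 ∧ psi e 72 = v3 ∧
      psi e 33 = c v ∧ psi e 132 = c v1 ∧ psi e 49 = c v2 ∧ psi e 196 = c v3 := by
    have two : ∀ u : S.Vec, (2 : ℕ) • u = 0 := fun u => by rw [two_nsmul]; exact add_self' u
    have three : ∀ u : S.Vec, (3 : ℕ) • u = u := fun u => by
      rw [succ_nsmul, two, zero_add]
    have three' : ∀ u : S.Vec, (3 : ℤ) • u = u := fun u => by
      rw [show (3 : ℤ) = 2 + 1 by norm_num, add_zsmul, two_zsmul, add_self', zero_add, one_zsmul]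
    refine ⟨?_, ?_, ?_, ?_, ?_, ?_, ?_, ?_⟩ <;>
      (norm_num [e, psi, hc, map_add, cc hv, cc hV1, cc hV2, cc hV3]
       abel_nf
       simp [two, three, three', two_zsmul, add_self'])
  obtain ⟨p0, p1, p2, p3, q0, q1, q2, q3⟩ := hpe
  -- criterion
  have crit : ∀ (σ : L) (M : List ℕ),
      (∀ k ∈ [19, 76, 18, 72, 33, 132, 49, 196], S.act σ (psi e k) = psi e (app M k)) →
      Mod e σ M := by
    intro σ M h n hn
    refine spanList_induction (fun n => S.act σ (psi e n) = psi e (app M n))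
      (by simp [psi_zero, app_zero]) ?_ _ h n (span_eigen n hn)
    intro a b ha hb
    simp only [psi_xor, app_xor, map_add, ha, hb]
  have critι : ∀ (a : A6) (M : List ℕ) (r : Fin 4 → S.Vec),
      S.act (S.ι a) v = r 0 → S.act (S.ι a) v1 = r 1 → S.act (S.ι a) v2 = r 2 →
      S.act (S.ι a) v3 = r 3 →
      psi e (app M 19) = r 0 → psi e (app M 76) = r 1 → psi e (app M 18) = r 2 →
      psi e (app M 72) = r 3 → psi e (app M 33) = c (r 0) → psi e (app M 132) = c (r 1) →
      psi e (app M 49) = c (r 2) → psi e (app M 196) = c (r 3) → Mod e (S.ι a) M := by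
    intro a M r a0 a1 a2 a3 b0 b1 b2 b3 c0 c1 c2 c3
    refine crit _ _ fun k hk => ?_
    simp only [List.mem_cons, List.not_mem_nil, or_false] at hk
    rcases hk with rfl | rfl | rfl | rfl | rfl | rfl | rfl | rfl
    · rw [p0, a0, b0]
    · rw [p1, a1, b1]
    · rw [p2, a2, b2]
    · rw [p3, a3, b3]
    · rw [q0, hc, hcι, a0, c0]
    · rw [q1, hc, hcι, a1, c1]
    · rw [q2, hc, hcι, a2, c2]
    · rw [q3, hc, hcι, a3, c3]
  have hcr : ∀ u, V2 S u → c (c u) = u + c u := fun u hu => cc hu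
  have modC : Mod e S.c mC := by
    refine crit _ _ fun k hk => ?_
    simp only [List.mem_cons, List.not_mem_nil, or_false] at hk
    have hx : ∀ a b, psi e (a ^^^ b) = psi e a + psi e b := psi_xor e
    rcases hk with rfl | rfl | rfl | rfl | rfl | rfl | rfl | rfl
    · rw [p0, show app mC 19 = 33 by rfl, q0]
    · rw [p1, show app mC 76 = 132 by rfl, q1]
    · rw [p2, show app mC 18 = 49 by rfl, q2]
    · rw [p3, show app mC 72 = 196 by rfl, q3]
    · rw [q0, show app mC 33 = 19 ^^^ 33 by rfl, hx, p0, q0]; exact hcr v hv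
    · rw [q1, show app mC 132 = 76 ^^^ 132 by rfl, hx, p1, q1]; exact hcr v1 hV1
    · rw [q2, show app mC 49 = 18 ^^^ 49 by rfl, hx, p2, q2]; exact hcr v2 hV2
    · rw [q3, show app mC 196 = 72 ^^^ 196 by rfl, hx, p3, q3]; exact hcr v3 hV3
  have mod1 : Mod e (S.ι t.d1) mD1 := by
    refine critι _ _ ![c v, v1, v2 + c v2, v3] (by simpa using h1) ?_ ?_ ?_ ?_ ?_ ?_ ?_ ?_ ?_ ?_ ?_
    · show _ = v1
      rw [hv1, hd1g, h2, h2]
    · show _ = v2 + c v2
      rw [← hcr v2 hV2, hv2, hd1g, hv1, hd2g, hd2g, h1, hcι, h1, hgc, hgc, hgc, hgc]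
    · show _ = v3
      rw [hv3, hd1g, hv2, hd2g, hd2g, hv1, hd1g, hd1g, h2, h2, h2, h2]
    all_goals simp [show app mD1 19 = 33 by rfl, show app mD1 76 = 76 by rfl,
      show app mD1 18 = 18 ^^^ 49 by rfl, show app mD1 72 = 72 by rfl,
      show app mD1 33 = 19 ^^^ 33 by rfl, show app mD1 132 = 132 by rfl,
      show app mD1 49 = 18 by rfl, show app mD1 196 = 196 by rfl, -Nat.reduceXor,
      psi_xor, p0, p1, p2, p3, q0, q1, q2, q3, hcr v hv, hcr v1 hV1, hcr v2 hV2, hcr v3 hV3,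
      hc, map_add, cc hv, cc hV2]
    all_goals (abel_nf; simp [two_nsmul, two_zsmul, add_self'])
  have mod2 : Mod e (S.ι t.d2) mD2 := by
    refine critι _ _ ![v, c v1, v2, v3 + c v3] (by simpa using h2) ?_ ?_ ?_ ?_ ?_ ?_ ?_ ?_ ?_ ?_ ?_
    · show _ = c v1
      rw [hv1, hd2g, h1, hgc]
    · show _ = v2
      rw [hv2, hd2g, hv1, hd1g, h2, h2]
    · show _ = v3 + c v3
      rw [← hcr v3 hV3, hv3, hd2g, hv2, hd1g, hv1, hd2g, hd2g, h1, hcι, h1, hgc, hgc, hgc, hgc,
        hgc, hgc]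
    all_goals simp [show app mD2 19 = 19 by rfl, show app mD2 76 = 132 by rfl,
      show app mD2 18 = 18 by rfl, show app mD2 72 = 72 ^^^ 196 by rfl,
      show app mD2 33 = 33 by rfl, show app mD2 132 = 76 ^^^ 132 by rfl,
      show app mD2 49 = 49 by rfl, show app mD2 196 = 72 by rfl, -Nat.reduceXor,
      psi_xor, p0, p1, p2, p3, q0, q1, q2, q3, hcr v hv, hcr v1 hV1, hcr v2 hV2, hcr v3 hV3,
      hc, map_add, cc hV1, cc hV3]
    all_goals (abel_nf; simp [two_nsmul, two_zsmul, add_self'])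
  have modG : Mod e (S.ι t.g) mG := by
    refine critι _ _ ![v1, v2, v3, v] hv1.symm hv2.symm hv3.symm
      (by show g v3 = v; rw [hv3, hv2, hv1]; exact hg4 v) ?_ ?_ ?_ ?_ ?_ ?_ ?_ ?_
    all_goals simp [show app mG 19 = 76 by rfl, show app mG 76 = 18 by rfl,
      show app mG 18 = 72 by rfl, show app mG 72 = 19 by rfl, show app mG 33 = 132 by rfl,
      show app mG 132 = 49 by rfl, show app mG 49 = 196 by rfl, show app mG 196 = 33 by rfl,
      p0, p1, p2, p3, q0, q1, q2, q3]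
  -- injectivity
  have inj : ∀ n, n < 256 → psi e n = 0 → n = 0 := by
    intro n hn h0
    by_contra hne
    obtain ⟨i, hi4, hline⟩ := projs_line n hn hne
    have hz : ∀ (σ : L) (M : List ℕ), Mod e σ M → ∀ m, m < 256 → psi e m = 0 →
        psi e (app M m) = 0 := fun σ M hM m hm h => by rw [← hM m hm, h, map_zero]
    have hm0 : (projs.getD i id) n < 256 ∧ psi e ((projs.getD i id) n) = 0 := by
      rw [nineteen_projs i hi4 n hn]
      obtain ⟨σ, M, hM, hMl, hMe⟩ : ∃ σ M, Mod e σ M ∧ (∀ v ∈ M, v < 256) ∧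
          [mD1, mD1, mD2, mD2].getD i [] = M := by
        rcases i with _ | _ | _ | _ | i
        exacts [⟨_, _, mod1, gens_lt _ (by simp [gens]), rfl⟩,
          ⟨_, _, mod1, gens_lt _ (by simp [gens]), rfl⟩, ⟨_, _, mod2, gens_lt _ (by simp [gens]), rfl⟩,
          ⟨_, _, mod2, gens_lt _ (by simp [gens]), rfl⟩, by omega]
      have hCl := gens_lt mC (by simp [gens])
      obtain ⟨τ, N, hN, hNl, hNe⟩ : ∃ τ N, Mod e τ N ∧ (∀ v ∈ N, v < 256) ∧
          [mC, mul mC mC, mC, mul mC mC].getD i [] = N := by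
        have hCC : ∀ v ∈ mul mC mC, v < 256 := fun v hv => by
          obtain ⟨a, -, rfl⟩ := List.mem_map.mp hv
          exact app_lt _ hCl _
        rcases i with _ | _ | _ | _ | i
        exacts [⟨_, _, modC, hCl, rfl⟩, ⟨_, _, mod_mul modC modC hCl, hCC, rfl⟩,
          ⟨_, _, modC, hCl, rfl⟩, ⟨_, _, mod_mul modC modC hCl, hCC, rfl⟩, by omega]
      rw [hMe, hNe]
      have hk : app M n ^^^ n < 256 := Nat.xor_lt_two_pow (n := 8) (app_lt M hMl n) hn
      have hk0 : psi e (app M n ^^^ n) = 0 := by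
        rw [psi_xor, hz σ M hM n hn h0, h0, add_zero]
      exact ⟨Nat.xor_lt_two_pow (n := 8) (app_lt M hMl _) (app_lt N hNl _),
        by rw [psi_xor, hz σ M hM _ hk hk0, hz τ N hN _ hk hk0, add_zero]⟩
    have h19 := reach_induction [app mC, app mG] [(projs.getD i id) n]
      (fun m => m < 256 ∧ psi e m = 0) (by simpa using hm0)
      (by
        intro f hf m hm
        simp only [List.mem_cons, List.not_mem_nil, or_false] at hf
        rcases hf with rfl | rfl
        · exact ⟨app_lt _ (gens_lt _ (by simp [gens])) _, hz _ _ modC m hm.1 hm.2⟩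
        · exact ⟨app_lt _ (gens_lt _ (by simp [gens])) _, hz _ _ modG m hm.1 hm.2⟩)
      5 19 (lines_back _ hline)
    exact hv0 (p0.symm.trans h19.2)
  have surj : ∀ x : S.Vec, ∃ n, n < 256 ∧ psi e n = x := by
    have hinj : Function.Injective fun n : Fin 256 => psi e n.1 := by
      intro a b hab
      have h := inj (a.1 ^^^ b.1) (Nat.xor_lt_two_pow (n := 8) a.2 b.2) (by
        rw [psi_xor]; exact (congrArg (· + psi e b.1) hab).trans (add_self' _))
      exact Fin.ext (Nat.xor_eq_zero_iff.mp h)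
    have hb := (Nat.bijective_iff_injective_and_card _).mpr ⟨hinj, by
      rw [card_vec, Nat.card_eq_fintype_card, Fintype.card_fin]⟩
    intro x
    obtain ⟨n, hn⟩ := hb.2 x
    exact ⟨n.1, n.2, hn⟩
  -- the last generator
  obtain ⟨n, hn, hun⟩ := surj (S.act (S.ι t.u) v)
  have hUg : ∀ u, S.act (S.ι t.u) (g u) = g (g (g (S.act (S.ι t.u) u))) := fun u => by
    simp only [hg, ← act_mul, ← map_mul]
    rw [ht.u_g, inv_eq_of_mul_eq_one_right
      (show t.g * (t.g * (t.g * t.g)) = 1 by rw [← ht.g_four]; simp [pow_succ, mul_assoc])]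
    simp only [mul_assoc]
  have hgn : ∀ m, m < 256 → g (psi e m) = psi e (app mG m) := modG
  have hcn : ∀ m, m < 256 → c (psi e m) = psi e (app mC m) := modC
  have modU' : Mod e (S.ι t.u) (uMat n) := by
    have lG : ∀ m, app mG m < 256 := app_lt _ (gens_lt _ (by simp [gens]))
    have lC : ∀ m, app mC m < 256 := app_lt _ (gens_lt _ (by simp [gens]))
    obtain ⟨n1, hn1⟩ : ∃ m, m = app mG n := ⟨_, rfl⟩
    obtain ⟨n2, hn2⟩ : ∃ m, m = app mG n1 := ⟨_, rfl⟩
    obtain ⟨n3, hn3⟩ : ∃ m, m = app mG n2 := ⟨_, rfl⟩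
    have g1 : g (psi e n) = psi e n1 := hn1 ▸ hgn n hn
    have g2 : g (psi e n1) = psi e n2 := hn2 ▸ hgn n1 (hn1 ▸ lG n)
    have g3 : g (psi e n2) = psi e n3 := hn3 ▸ hgn n2 (hn2 ▸ lG n1)
    have g0 : g (psi e n3) = psi e n := by rw [← g3, ← g2, ← g1, hg4]
    have u1 : S.act (S.ι t.u) v1 = psi e n3 := by rw [hv1, hUg, ← hun, g1, g2, g3]
    have u2 : S.act (S.ι t.u) v2 = psi e n2 := by rw [hv2, hUg, u1, g0, g1, g2]
    have u3 : S.act (S.ι t.u) v3 = psi e n1 := by rw [hv3, hUg, u2, g3, g0, g1]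
    have hUn : uMat n = [n ^^^ n2, app mC n ^^^ app mC (app mC n2), n3 ^^^ n1,
        app mC n3 ^^^ app mC (app mC n1), app mC (n ^^^ n2),
        app mC (app mC n ^^^ app mC (app mC n2)), app mC (n3 ^^^ n1),
        app mC (app mC n3 ^^^ app mC (app mC n1))] := by rw [hn3, hn2, hn1]; rfl
    intro m hm
    refine spanList_induction (fun m => S.act (S.ι t.u) (psi e m) = psi e (app (uMat n) m))
      (by simp [psi_zero, app_zero])
      (fun a b ha hb => by simp only [psi_xor, app_xor, map_add, ha, hb]) _ ?_ m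
      (mem_span_one8 m hm)
    intro k hk
    have hn' := hn1 ▸ lG n
    have hn2' := hn2 ▸ lG n1
    have hn3' := hn3 ▸ lG n2
    have lx : n ^^^ n2 < 256 := Nat.xor_lt_two_pow (n := 8) hn hn2'
    have ly : app mC n ^^^ app mC (app mC n2) < 256 := Nat.xor_lt_two_pow (n := 8) (lC _) (lC _)
    have lz : n3 ^^^ n1 < 256 := Nat.xor_lt_two_pow (n := 8) hn3' hn'
    have lw : app mC n3 ^^^ app mC (app mC n1) < 256 := Nat.xor_lt_two_pow (n := 8) (lC _) (lC _)
    have E1 : S.act (S.ι t.u) (v + v2) = psi e (n ^^^ n2) := by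
      rw [map_add, u2, ← hun, psi_xor]
    have E2 : S.act (S.ι t.u) (c v + c (c v2)) =
        psi e (app mC n ^^^ app mC (app mC n2)) := by
      simp only [hc, map_add, hcι, u2, ← hun]
      rw [psi_xor, ← hcn n hn, ← hcn _ (lC n2), ← hcn n2 hn2']
    have E3 : S.act (S.ι t.u) (v1 + v3) = psi e (n3 ^^^ n1) := by
      rw [map_add, u1, u3, psi_xor]
    have E4 : S.act (S.ι t.u) (c v1 + c (c v3)) =
        psi e (app mC n3 ^^^ app mC (app mC n1)) := by
      simp only [hc, map_add, hcι, u1, u3]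
      rw [psi_xor, ← hcn n3 hn3', ← hcn _ (lC n1), ← hcn n1 hn']
    have E5 : ∀ (x : S.Vec) (a : ℕ), a < 256 → S.act (S.ι t.u) x = psi e a →
        S.act (S.ι t.u) (c x) = psi e (app mC a) := fun x a ha hx => by
      rw [← hcn a ha]
      simp only [hc, hcι, hx]
    simp only [one8, List.mem_cons, List.not_mem_nil, or_false] at hk
    rw [hUn]
    rcases hk with rfl | rfl | rfl | rfl | rfl | rfl | rfl | rfl
    · simpa [e, psi, app] using E1
    · simpa [e, psi, app] using E2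
    · simpa [e, psi, app] using E3
    · simpa [e, psi, app] using E4
    · simpa [e, psi, app] using E5 _ _ lx E1
    · simpa [e, psi, app] using E5 _ _ ly E2
    · simpa [e, psi, app] using E5 _ _ lz E3
    · simpa [e, psi, app] using E5 _ _ lw E4
  have hrel : ∀ (σ : L) (M : List ℕ), Mod e σ M → σ = 1 → M.length = 8 → (∀ v ∈ M, v < 256) →
      M = one8 := by
    intro σ M hM hσ hlen hl
    have h : ∀ m, m < 256 → app M m = m := fun m hm => by
      have h := hM m hm
      rw [hσ, act_one] at h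
      refine Nat.xor_eq_zero_iff.mp
        (inj _ (Nat.xor_lt_two_pow (n := 8) (app_lt M hl m) hm) ?_)
      rw [psi_xor, ← h, add_self']
    match M, hlen with
    | [a, b, c', d, e', f, g', h'], _ =>
      have := h 1 (by norm_num)
      have := h 2 (by norm_num)
      have := h 4 (by norm_num)
      have := h 8 (by norm_num)
      have := h 16 (by norm_num)
      have := h 32 (by norm_num)
      have := h 64 (by norm_num)
      have := h 128 (by norm_num)
      simp_all [app, one8]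
  have hlt : ∀ {M : List ℕ}, (∀ v ∈ M, v < 256) → ∀ N : List ℕ, ∀ v ∈ mul M N, v < 256 := by
    intro M hM N v hv
    obtain ⟨a, -, rfl⟩ := List.mem_map.mp hv
    exact app_lt _ hM _
  have hlU := uMat_lt n hn
  have hl1 := gens_lt mD1 (by simp [gens])
  have hl2 := gens_lt mD2 (by simp [gens])
  have hU : uMat n = mU := by
    have hlu : (uMat n).length = 8 := rfl
    refine uMat_unique n hn ?_ ?_ ?_ ?_
    · refine hrel _ _ (mod_mul modU' modU' hlU) ?_ rfl (hlt hlU _)
      rw [← map_mul, ht.u_sq, map_one]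
    · refine hrel _ _ (mod_mul (mod_mul modU' mod1 hl1) (mod_mul (mod_mul modU' mod1 hl1)
        (mod_mul (mod_mul modU' mod1 hl1) (mod_mul (mod_mul modU' mod1 hl1)
          (mod_mul modU' mod1 hl1) (hlt hlU _)) (hlt (hlt hlU _) _)) (hlt (hlt hlU _) _))
          (hlt (hlt hlU _) _)) ?_ rfl (hlt (hlt hlU _) _)
      simp only [← map_mul]
      rw [show t.u * t.d1 * (t.u * t.d1 * (t.u * t.d1 * (t.u * t.d1 * (t.u * t.d1)))) =
        (t.u * t.d1) ^ 5 by simp [pow_succ, mul_assoc], ht.five1, map_one]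
    · refine hrel _ _ (mod_mul (mod_mul modU' mod2 hl2) (mod_mul (mod_mul modU' mod2 hl2)
        (mod_mul (mod_mul modU' mod2 hl2) (mod_mul (mod_mul modU' mod2 hl2)
          (mod_mul modU' mod2 hl2) (hlt hlU _)) (hlt (hlt hlU _) _)) (hlt (hlt hlU _) _))
          (hlt (hlt hlU _) _)) ?_ rfl (hlt (hlt hlU _) _)
      simp only [← map_mul]
      rw [show t.u * t.d2 * (t.u * t.d2 * (t.u * t.d2 * (t.u * t.d2 * (t.u * t.d2)))) =
        (t.u * t.d2) ^ 5 by simp [pow_succ, mul_assoc], ht.five2, map_one]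
    · have m12 := mod_mul mod1 mod2 hl2
      refine hrel _ _ (mod_mul (mod_mul modU' m12 (hlt hl1 _)) (mod_mul (mod_mul modU' m12
        (hlt hl1 _)) (mod_mul modU' m12 (hlt hl1 _)) (hlt hlU _)) (hlt (hlt hlU _) _))
          ?_ rfl (hlt (hlt hlU _) _)
      simp only [← map_mul]
      rw [show t.u * (t.d1 * t.d2) * (t.u * (t.d1 * t.d2) * (t.u * (t.d1 * t.d2))) =
        (t.u * (t.d1 * t.d2)) ^ 3 by simp [pow_succ, mul_assoc], ht.three, map_one]
  exact ⟨⟨e, t, ht.gen, inj, surj, modC, mod1, mod2, modG, hU ▸ modU'⟩⟩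

/-- In the nontrivial case coordinates exist. -/
theorem exists_frame [Finite G] (h : ∃ a v, V2 S v ∧ S.act (S.ι a) v ≠ v) :
    Nonempty (Frame S) := by
  obtain ⟨a₀, v₀, hv₀, hne⟩ := h
  have hι : ∀ (a : A6) u, V2 S u → V2 S (S.act (S.ι a) u) := fun a u hu => by
    rw [V2, c_ι, c_ι, ← map_add, ← map_add, hu, map_zero]
  -- `d1` moves some vector
  obtain ⟨x, hx, hxd⟩ : ∃ x, V2 S x ∧ S.act (S.ι quadA.d1) x ≠ x := by
    by_contra! hd
    let H : Subgroup A6 :=
      { carrier := {a | ∀ x, V2 S x → S.act (S.ι a) x = x}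
        one_mem' := fun x _ => by rw [map_one, act_one]
        mul_mem' := fun {a b} ha hb x hx => by rw [map_mul, act_mul, hb x hx, ha x hx]
        inv_mem' := fun {a} ha x hx => by
          conv_lhs => rw [← ha x hx]
          rw [← act_mul, ← map_mul, inv_mul_cancel, map_one, act_one] }
    have hd1 : quadA.d1 ∈ H := hd
    have hd2 : quadA.d2 ∈ H := by
      intro x hx
      have h := hd _ (hι quadA.g⁻¹ x hx)
      have e : quadA.d2 = quadA.g * quadA.d1 * quadA.g⁻¹ := by rw [relA.g_d1]; group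
      rw [e, map_mul, act_mul, map_mul, act_mul, h, ← act_mul, ← map_mul, mul_inv_cancel, map_one,
        act_one]
    haveI := alt_six_simple
    have hN : H.Normal := ⟨fun a ha b x hx => by
      rw [map_mul, act_mul, map_mul, act_mul, ha _ (hι b⁻¹ x hx), ← act_mul, ← map_mul,
        mul_inv_cancel, map_one, act_one]⟩
    rcases hN.eq_bot_or_eq_top with e | e
    · exact relA.d1_ne (by simpa [e] using hd1)
    · exact hne ((e ▸ Subgroup.mem_top a₀ : a₀ ∈ H) v₀ hv₀)
  set T := S.ι quadA.d1 with hTdef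
  set F := S.ι quadA.d2 with hFdef
  have hT : T * T * T = 1 := by
    rw [hTdef, ← map_mul, ← map_mul, ← pow_three', relA.d1_cube, map_one]
  have hF : F * F * F = 1 := by
    rw [hFdef, ← map_mul, ← map_mul, ← pow_three', relA.d2_cube, map_one]
  have hTF : T * F = F * T := by rw [hTdef, hFdef, ← map_mul, relA.d_comm, map_mul]
  have hcT : S.c * T = T * S.c := S.c_comm _
  have hcF : S.c * F = F * S.c := S.c_comm _
  let K : L → S.Vec → Prop := fun σ u => u + S.act σ u + S.act σ (S.act σ u) = 0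
  have hKc : ∀ (σ : L), (S.c * σ = σ * S.c) → ∀ u, K σ u → K σ (S.act S.c u) := fun σ h u hu => by
    show _ + _ + _ = (0 : S.Vec)
    rw [← act_comm h, ← act_comm h, ← map_add, ← map_add, hu, map_zero]
  obtain ⟨y, hy0, ⟨hyc, hyT⟩, -, hyk⟩ := exists_eigen S.c_cube hT hcT
    (fun u => V2 S u ∧ K T u)
    (fun a b ha hb => ⟨V2_add ha.1 hb.1, by
      show _ + _ + _ = (0 : S.Vec)
      rw [map_add, map_add]
      calc _ = (a + S.act T a + S.act T (S.act T a)) + (b + S.act T b + S.act T (S.act T b)) := by abel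
        _ = 0 := by rw [ha.2, hb.2, add_zero]⟩)
    (fun a ha => ⟨V2_c ha.1, hKc T hcT a ha.2⟩)
    (fun a ha => ⟨hι _ a ha.1, by
      show _ + _ + _ = (0 : S.Vec)
      rw [← map_add, ← map_add, ha.2, map_zero]⟩)
    (x := S.act T x + x)
    ⟨V2_add (hι _ x hx) hx, by
      show _ + _ + _ = (0 : S.Vec)
      rw [map_add, map_add, act_cube hT]
      calc _ = (S.act T x + S.act T x) + (x + x) +
          (S.act T (S.act T x) + S.act T (S.act T x)) := by abel
        _ = 0 := by simp only [add_self', add_zero]⟩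
    (fun e => hxd (eq_of_add_eq_zero e)) (V2_add (hι _ x hx) hx)
  obtain ⟨hy2, hyne, -, -⟩ := line_cases hT hyT hy0
  have hyk' : S.act T y = S.act S.c y ∨ S.act T y = S.act S.c (S.act S.c y) := by
    rcases hyk with h | h | h
    · exact absurd h hyne
    · right
      conv_rhs => rw [← h, c_cube']
    · left
      conv_rhs => rw [← h, c_cube']
  obtain ⟨w, hw0, ⟨hwc, hwT⟩, -, hwF⟩ := exists_eigen S.c_cube hF hcF
    (fun u => V2 S u ∧ (S.act T u = S.act S.c u ∧ S.act T y = S.act S.c y ∨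
      S.act T u = S.act S.c (S.act S.c u) ∧ S.act T y = S.act S.c (S.act S.c y)))
    (fun a b ha hb => ⟨V2_add ha.1 hb.1, by
      obtain ⟨-, hc2, -, -⟩ := line_cases S.c_cube hyc hy0
      rcases ha.2 with ⟨h1, h2⟩ | ⟨h1, h2⟩ <;> rcases hb.2 with ⟨h3, h4⟩ | ⟨h3, h4⟩
      · left; exact ⟨by rw [map_add, map_add, h1, h3], h2⟩
      · exact absurd (act_injective S.c (h4.symm.trans h2)) hc2
      · exact absurd (act_injective S.c (h2.symm.trans h4)) hc2
      · right; exact ⟨by rw [map_add, map_add, map_add, h1, h3], h2⟩⟩)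
    (fun a ha => ⟨V2_c ha.1, ha.2.imp
      (fun h => ⟨by rw [act_comm hcT.symm, h.1], h.2⟩)
      (fun h => ⟨by rw [act_comm hcT.symm, h.1], h.2⟩)⟩)
    (fun a ha => ⟨hι _ a ha.1, ha.2.imp
      (fun h => ⟨by rw [act_comm hTF, h.1, act_comm hcF.symm], h.2⟩)
      (fun h => ⟨by rw [act_comm hTF, h.1, act_comm hcF.symm, act_comm hcF.symm], h.2⟩)⟩)
    (x := y) ⟨hyc, hyk'.imp (fun h => ⟨h, h⟩) (fun h => ⟨h, h⟩)⟩ hy0 hyc
  have hwT' : S.act T w = S.act S.c w ∨ S.act T w = S.act S.c (S.act S.c w) :=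
    hwT.imp And.left And.left
  have hwF' : S.act F w = w ∨ S.act F w = S.act S.c w ∨ S.act F w = S.act S.c (S.act S.c w) := by
    rcases hwF with h | h | h
    · exact Or.inl h
    · refine Or.inr (Or.inr ?_)
      conv_rhs => rw [← h, c_cube']
    · refine Or.inr (Or.inl ?_)
      conv_rhs => rw [← h, c_cube']
  -- normalisation of the weight
  have norm : ∀ (t : Quad), Core t → ∀ w, V2 S w → w ≠ 0 → S.act (S.ι t.d2) w = w →
      (S.act (S.ι t.d1) w = S.act S.c w ∨ S.act (S.ι t.d1) w = S.act S.c (S.act S.c w)) →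
      Nonempty (Frame S) := by
    intro t ht w hw hw0 h2 h1
    rcases h1 with h1 | h1
    · exact exists_frame_of_vector ht hw hw0 h2 h1
    · have hgg : (S.ι (t.g * t.g)) = S.ι (t.g * t.g) := rfl
      have e1 : t.d1 * (t.g * t.g) = t.g * t.g * t.d1⁻¹ := by
        have h2' : t.d1 * t.g = t.g * t.d2⁻¹ := by
          calc t.d1 * t.g = t.d1 * (t.g * t.d2) * t.d2⁻¹ := by group
            _ = t.g * t.d2⁻¹ := by rw [ht.g_d2]; group
        have h1' : t.d2⁻¹ * t.g = t.g * t.d1⁻¹ := by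
          calc t.d2⁻¹ * t.g = t.d2⁻¹ * (t.g * t.d1) * t.d1⁻¹ := by group
            _ = t.g * t.d1⁻¹ := by rw [ht.g_d1]; group
        calc t.d1 * (t.g * t.g) = (t.d1 * t.g) * t.g := (mul_assoc _ _ _).symm
          _ = t.g * (t.d2⁻¹ * t.g) := by rw [h2', mul_assoc]
          _ = _ := by rw [h1', mul_assoc]
      have e2 : t.d2 * (t.g * t.g) = t.g * t.g * t.d2⁻¹ := by
        have h1' : t.d2 * t.g = t.g * t.d1 := ht.g_d1.symm
        calc t.d2 * (t.g * t.g) = (t.d2 * t.g) * t.g := (mul_assoc _ _ _).symm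
          _ = t.g * (t.d1 * (t.g * t.d2)) * t.d2⁻¹ := by rw [h1']; group
          _ = _ := by rw [ht.g_d2]; group
      refine exists_frame_of_vector ht (hι (t.g * t.g) w hw)
        (fun e => hw0 (act_injective _ (e.trans (map_zero _).symm))) ?_ ?_
      · rw [← act_mul, ← map_mul, e2, map_mul, act_mul]
        congr 1
        conv_lhs => rw [← h2]
        rw [← act_mul, ← map_mul, inv_mul_cancel, map_one, act_one]
      · rw [← act_mul, ← map_mul, e1, map_mul, act_mul, c_ι]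
        congr 1
        apply act_injective (S.ι t.d1)
        rw [← act_mul, ← map_mul, mul_inv_cancel, map_one, act_one, ← c_ι, h1, c_cube']
  rcases hwF' with hF0 | hF1
  · exact norm quadA coreA w hwc hw0 hF0 hwT'
  · have hb1 : ∀ u, S.act (S.ι quadB.d1) u = S.act T (S.act F u) := fun u => by
      rw [relB.base.1, map_mul, act_mul]
    have hb2 : ∀ u, S.act (S.ι quadB.d2) u = S.act T (S.act T (S.act F u)) := fun u => by
      rw [relB.base.2.1, map_mul, act_mul, inv_eq_of_mul_eq_one_right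
        (show quadA.d1 * (quadA.d1 * quadA.d1) = 1 by rw [← pow_three]; exact relA.d1_cube),
        map_mul, act_mul]
    have cT : ∀ u, S.act T (S.act S.c u) = S.act S.c (S.act T u) := fun u => act_comm hcT.symm u
    have hgvec : S.act (S.ι quadB.d1) w = w → (S.act (S.ι quadB.d2) w = S.act S.c w ∨
        S.act (S.ι quadB.d2) w = S.act S.c (S.act S.c w)) → Nonempty (Frame S) := by
      intro hd1 hd2
      have h2 := coreB.g_d1
      have e1 : quadB.d1 * quadB.g = quadB.g * quadB.d2⁻¹ := by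
        calc quadB.d1 * quadB.g = quadB.d1 * (quadB.g * quadB.d2) * quadB.d2⁻¹ := by group
          _ = quadB.g * quadB.d2⁻¹ := by rw [coreB.g_d2]; group
      refine norm quadB coreB _ (hι quadB.g w hwc)
        (fun e => hw0 (act_injective _ (e.trans (map_zero _).symm))) ?_ ?_
      · rw [← act_mul, ← map_mul, ← h2, map_mul, act_mul, hd1]
      · simp only [c_ι]
        rw [← act_mul, ← map_mul, e1, map_mul, act_mul]
        refine Or.imp (congrArg _) (congrArg _) ?_
        rcases hd2 with h | h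
        · right
          apply act_injective (S.ι quadB.d2)
          rw [← act_mul, ← map_mul, mul_inv_cancel, map_one, act_one, ← c_ι, ← c_ι, h, c_cube']
        · left
          apply act_injective (S.ι quadB.d2)
          rw [← act_mul, ← map_mul, mul_inv_cancel, map_one, act_one, ← c_ι, h, c_cube']
    rcases hwT' with hT1 | hT1 <;> rcases hF1 with hF1 | hF1
    · refine norm quadB coreB w hwc hw0 ?_ (Or.inr ?_) <;>
        simp only [hb1, hb2, hF1, cT, hT1, c_cube']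
    · refine hgvec ?_ (Or.inl ?_) <;> simp only [hb1, hb2, hF1, cT, hT1, c_cube']
    · refine hgvec ?_ (Or.inr ?_) <;> simp only [hb1, hb2, hF1, cT, hT1, c_cube']
    · refine norm quadB coreB w hwc hw0 ?_ (Or.inl ?_) <;>
        simp only [hb1, hb2, hF1, cT, hT1, c_cube']

namespace Frame

variable (F : Frame S)

theorem two_cases : ∀ a b : ZMod 2, (a + b = 0 ∨ b + a = 0) → b = a := by decide

theorem psi_inj {a b : ℕ} (ha : a < 256) (hb : b < 256) (h : psi F.e a = psi F.e b) : a = b :=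
  Nat.xor_eq_zero_iff.mp (F.inj _ (Nat.xor_lt_two_pow (n := 8) ha hb) (by
    rw [psi_xor, h, add_self']))

theorem mod_gens : ∀ M ∈ gens, ∃ σ, Mod F.e σ M := by
  intro M hM
  simp only [gens, List.mem_cons, List.not_mem_nil, or_false] at hM
  rcases hM with rfl | rfl | rfl | rfl | rfl
  exacts [⟨_, F.mod1⟩, ⟨_, F.mod2⟩, ⟨_, F.modG⟩, ⟨_, F.modU⟩, ⟨_, F.modC⟩]

theorem q_orbit {s : ℕ} (hs : s < 256) : ∀ n ∈ orbit s,
    n < 256 ∧ S.q (psi F.e n) = S.q (psi F.e s) := by
  refine reach_induction _ _ _ (by simp [hs]) ?_ 8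
  intro f hf m hm
  obtain ⟨M, hM, rfl⟩ := List.mem_map.mp hf
  obtain ⟨σ, hσ⟩ := F.mod_gens M hM
  exact ⟨app_lt M (gens_lt M hM) m, by rw [← hσ m hm.1, q_act, hm.2]⟩

theorem B_q (a b : ℕ) : S.B (psi F.e a) (psi F.e b) =
    S.q (psi F.e (a ^^^ b)) + S.q (psi F.e a) + S.q (psi F.e b) := by
  rw [psi_xor]; rfl

theorem forms [Finite G] :
    (∀ n, n < 256 → S.q (psi F.e n) = qF n) ∧
    ∀ a b, a < 256 → b < 256 → S.B (psi F.e a) (psi F.e b) = bF a b := by
  obtain ⟨h1, h65⟩ := basic_orbit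
  have P : ∀ n ∈ [1, 2, 4, 5, 6, 8, 3, 9, 10, 12, 16, 32, 64, 128, 48, 80, 96, 144,
      160, 192, 17, 34, 68, 136, 51], S.q (psi F.e n) = S.q (psi F.e 1) := fun n hn =>
    (F.q_orbit (by norm_num) n (h1 n hn)).2
  have R : ∀ n ∈ [1 + 16 * 4, 1 + 16 * 8, 1 + 16 * 12, 2 + 16 * 4, 2 + 16 * 8, 4 + 16 * 1,
      4 + 16 * 2, 8 + 16 * 1, 8 + 16 * 2, 5 + 16 * 10],
      S.q (psi F.e n) = S.q (psi F.e 65) := fun n hn =>
    (F.q_orbit (by norm_num) n (h65 n hn)).2
  have hp1 : S.q (psi F.e 1) = 0 := by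
    have e := B_add_right (S := S) (psi F.e 1) (psi F.e 2) (psi F.e 4)
    rw [← psi_xor, F.B_q, F.B_q, F.B_q, show 1 ^^^ (2 ^^^ 4) = 7 by rfl,
      show (2 ^^^ 4 : ℕ) = 6 by rfl, show (1 ^^^ 2 : ℕ) = 3 by rfl, show (1 ^^^ 4 : ℕ) = 5 by rfl,
      P 3 (by simp), P 2 (by simp), P 5 (by simp), P 4 (by simp), P 6 (by simp)] at e
    have h7 : S.q (psi F.e 7) = S.q (psi F.e 1) :=
      (F.q_orbit (by norm_num) 7 (by decide +kernel)).2
    rw [h7] at e
    generalize S.q (psi F.e 1) = r at e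
    revert e r
    decide
  have P0 : ∀ n ∈ [1, 2, 4, 5, 6, 8, 3, 9, 10, 12, 16, 32, 64, 128, 48, 80, 96, 144,
      160, 192, 17, 34, 68, 136, 51], S.q (psi F.e n) = 0 := fun n hn => (P n hn).trans hp1
  have hp65 : S.q (psi F.e 65) = 0 := by
    have e := B_add_right (S := S) (psi F.e 1) (psi F.e 64) (psi F.e 128)
    rw [← psi_xor, F.B_q, F.B_q, F.B_q, show 1 ^^^ (64 ^^^ 128) = 1 + 16 * 12 by rfl,
      show (64 ^^^ 128 : ℕ) = 192 by rfl, show (1 ^^^ 64 : ℕ) = 1 + 16 * 4 by rfl,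
      show (1 ^^^ 128 : ℕ) = 1 + 16 * 8 by rfl, R (1 + 16 * 12) (by simp),
      R (1 + 16 * 4) (by simp), R (1 + 16 * 8) (by simp),
      P0 1 (by simp), P0 64 (by simp), P0 128 (by simp), P0 192 (by simp)] at e
    generalize S.q (psi F.e 65) = r at e
    revert e r
    decide
  have R0 : ∀ n ∈ [1 + 16 * 4, 1 + 16 * 8, 1 + 16 * 12, 2 + 16 * 4, 2 + 16 * 8, 4 + 16 * 1,
      4 + 16 * 2, 8 + 16 * 1, 8 + 16 * 2, 5 + 16 * 10],
      S.q (psi F.e n) = 0 := fun n hn => (R n hn).trans hp65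
  have z : ∀ a b, a ∈ one8 → b ∈ one8 → a ^^^ b ∈ [1, 2, 4, 5, 6, 8, 3, 9, 10, 12, 16, 32, 64,
      128, 48, 80, 96, 144, 160, 192, 17, 34, 68, 136, 51, 1 + 16 * 4, 1 + 16 * 8, 1 + 16 * 12,
      2 + 16 * 4, 2 + 16 * 8, 4 + 16 * 1, 4 + 16 * 2, 8 + 16 * 1, 8 + 16 * 2] →
      S.B (psi F.e a) (psi F.e b) = 0 := by
    intro a b ha hb hab
    have hq : ∀ x ∈ one8, S.q (psi F.e x) = 0 := by
      intro x hx
      simp only [one8, List.mem_cons, List.not_mem_nil, or_false] at hx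
      rcases hx with rfl | rfl | rfl | rfl | rfl | rfl | rfl | rfl <;> exact P0 _ (by simp)
    rw [F.B_q, hq a ha, hq b hb, add_zero, add_zero]
    simp only [List.mem_cons, List.not_mem_nil, or_false] at hab
    rcases hab with e | e | e | e | e | e | e | e | e | e | e | e | e | e | e | e | e | e | e | e |
      e | e | e | e | e | e | e | e | e | e | e | e | e | e <;> rw [e] <;>
      first | (apply P0; simp; done) | (apply R0; simp; done)
  -- the remaining value
  obtain ⟨r, hr⟩ : ∃ r, r = S.B (psi F.e 1) (psi F.e 32) := ⟨_, rfl⟩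
  have zz : ∀ a b, a ∈ one8 → b ∈ one8 → bv a b = 0 → S.B (psi F.e a) (psi F.e b) = 0 := by
    have h0 : ∀ a ∈ one8, ∀ b ∈ one8, bv a b = 0 → a ≠ b → a ^^^ b ∈ [1, 2, 4, 5, 6, 8, 3, 9, 10,
        12, 16, 32, 64, 128, 48, 80, 96, 144, 160, 192, 17, 34, 68, 136, 51, 1 + 16 * 4,
        1 + 16 * 8, 1 + 16 * 12, 2 + 16 * 4, 2 + 16 * 8, 4 + 16 * 1, 4 + 16 * 2, 8 + 16 * 1,
        8 + 16 * 2] := by decide +kernel
    intro a b ha hb hab
    by_cases hne : a = b
    · rw [hne]; exact B_self _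
    exact z a b ha hb (h0 a ha b hb hab hne)
  have h2 : S.B (psi F.e 2) (psi F.e 16) = r := by
    have e : S.B (psi F.e 3) (psi F.e 48) = 0 := by
      rw [F.B_q, show (3 ^^^ 48 : ℕ) = 51 by rfl, P0 51 (by simp), P0 3 (by simp),
        P0 48 (by simp), add_zero, add_zero]
    rw [show (3 : ℕ) = 1 ^^^ 2 by rfl, show (48 : ℕ) = 16 ^^^ 32 by rfl, psi_xor, psi_xor,
      B_add_left, B_add_right, B_add_right, zz 1 16 (by simp [one8]) (by simp [one8]) rfl,
      zz 2 32 (by simp [one8]) (by simp [one8]) rfl, ← hr] at e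
    generalize S.B (psi F.e 2) (psi F.e 16) = r' at e ⊢
    exact two_cases _ _ (Or.inl (by simpa using e))
  have h4 : S.B (psi F.e 4) (psi F.e 128) = r := by
    have e : S.B (psi F.e 5) (psi F.e 160) = 0 := by
      rw [F.B_q, show (5 ^^^ 160 : ℕ) = 5 + 16 * 10 by rfl, R0 _ (by simp), P0 5 (by simp),
        P0 160 (by simp), add_zero, add_zero]
    rw [show (5 : ℕ) = 1 ^^^ 4 by rfl, show (160 : ℕ) = 32 ^^^ 128 by rfl, psi_xor, psi_xor,
      B_add_left, B_add_right, B_add_right, zz 1 128 (by simp [one8]) (by simp [one8]) rfl,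
      zz 4 32 (by simp [one8]) (by simp [one8]) rfl, ← hr] at e
    generalize S.B (psi F.e 4) (psi F.e 128) = r' at e ⊢
    exact two_cases _ _ (Or.inl (by simpa using e))
  have h8 : S.B (psi F.e 8) (psi F.e 64) = r := by
    have e : S.B (psi F.e 12) (psi F.e 192) = 0 := by
      rw [F.B_q, P0 12 (by simp), P0 192 (by simp),
        (F.q_orbit (by norm_num) (12 ^^^ 192) (show (12 ^^^ 192 : ℕ) ∈ orbit 1 by decide +kernel)).2,
        hp1, add_zero, add_zero]
    rw [show (12 : ℕ) = 4 ^^^ 8 by rfl, show (192 : ℕ) = 64 ^^^ 128 by rfl, psi_xor, psi_xor,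
      B_add_left, B_add_right, B_add_right, zz 4 64 (by simp [one8]) (by simp [one8]) rfl,
      zz 8 128 (by simp [one8]) (by simp [one8]) rfl, h4] at e
    generalize S.B (psi F.e 8) (psi F.e 64) = r' at e ⊢
    exact two_cases _ _ (Or.inl (by simpa using e))
  have hall : ∀ a ∈ one8, ∀ b ∈ one8, S.B (psi F.e a) (psi F.e b) = r * bF a b := by
    intro a ha b hb
    by_cases hab : bv a b = 0
    · rw [zz a b ha hb hab, bF, hab, Nat.cast_zero, mul_zero]
    · have hb1 : bF a b = 1 := by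
        have h2 : bv a b < 2 := Nat.mod_lt _ (by norm_num)
        have : bv a b = 1 := by omega
        rw [bF, this, Nat.cast_one]
      have h0 : ∀ a ∈ one8, ∀ b ∈ one8, bv a b ≠ 0 →
          (a = 1 ∧ b = 32) ∨ (a = 32 ∧ b = 1) ∨ (a = 2 ∧ b = 16) ∨ (a = 16 ∧ b = 2) ∨
          (a = 4 ∧ b = 128) ∨ (a = 128 ∧ b = 4) ∨ (a = 8 ∧ b = 64) ∨ (a = 64 ∧ b = 8) := by
        decide +kernel
      have hcases := h0 a ha b hb hab
      rw [hb1, mul_one]
      rcases hcases with ⟨rfl, rfl⟩ | ⟨rfl, rfl⟩ | ⟨rfl, rfl⟩ | ⟨rfl, rfl⟩ | ⟨rfl, rfl⟩ |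
        ⟨rfl, rfl⟩ | ⟨rfl, rfl⟩ | ⟨rfl, rfl⟩
      exacts [hr.symm, (B_symm _ _).trans hr.symm, h2, (B_symm _ _).trans h2, h4,
        (B_symm _ _).trans h4, h8, (B_symm _ _).trans h8]
  have hB : ∀ a b, a < 256 → b < 256 → S.B (psi F.e a) (psi F.e b) = r * bF a b := by
    intro a b ha hb
    refine spanList_induction (fun a => S.B (psi F.e a) (psi F.e b) = r * bF a b) ?_ ?_ one8 ?_
      a (mem_span_one8 a ha)
    · rw [psi_zero, B_zero_left, show bF 0 b = 0 by
        have := bF_xor_left 0 0 b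
        rw [Nat.xor_self] at this
        exact left_eq_add.mp this, mul_zero]
    · intro x y hx hy
      rw [psi_xor, B_add_left, hx, hy, bF_xor_left, mul_add]
    · intro x hx
      refine spanList_induction (fun b => S.B (psi F.e x) (psi F.e b) = r * bF x b) ?_ ?_ one8
        (fun y hy => hall x hx y hy) b (mem_span_one8 b hb)
      · rw [psi_zero, B_zero_right, show bF x 0 = 0 by
          have := bF_xor_right x 0 0
          rw [Nat.xor_self] at this
          exact left_eq_add.mp this, mul_zero]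
      · intro y y' hy hy'
        rw [psi_xor, B_add_right, hy, hy', bF_xor_right, mul_add]
  have hr1 : r = 1 := by
    rcases (show ∀ r : ZMod 2, r = 0 ∨ r = 1 by decide) r with e | e
    · exfalso
      have hne : psi F.e 1 ≠ 0 := fun h => one_ne_zero (F.inj 1 (by norm_num) h)
      obtain ⟨w, hw⟩ := exists_B_one hne
      obtain ⟨b, hb, rfl⟩ := F.surj w
      rw [hB 1 b (by norm_num) hb, e, zero_mul] at hw
      exact zero_ne_one hw
    · exact e
  have hBfin : ∀ a b, a < 256 → b < 256 → S.B (psi F.e a) (psi F.e b) = bF a b :=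
    fun a b ha hb => by rw [hB a b ha hb, hr1, one_mul]
  refine ⟨fun n hn => ?_, hBfin⟩
  have hlt : n < 256 ∧ S.q (psi F.e n) = qF n := by
    refine spanList_induction (fun n => n < 256 ∧ S.q (psi F.e n) = qF n) ⟨by norm_num, ?_⟩ ?_ one8
      ?_ n (mem_span_one8 n hn)
    · rw [psi_zero, show qF 0 = 0 by rfl, ← pr_one (S := S), q_pr S.Q.one_mem]
      simp
    · rintro x y ⟨hx, hx'⟩ ⟨hy, hy'⟩
      exact ⟨Nat.xor_lt_two_pow (n := 8) hx hy,
        by rw [psi_xor, q_add, hx', hy', hBfin x y hx hy, qF_xor]⟩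
    · intro x hx
      simp only [one8, List.mem_cons, List.not_mem_nil, or_false] at hx
      rcases hx with rfl | rfl | rfl | rfl | rfl | rfl | rfl | rfl <;>
        exact ⟨by norm_num, P0 _ (by simp)⟩
  exact hlt.2

theorem reach_all {s n : ℕ} (hs : s < 256) (hn : n ∈ orbit s) :
    ∃ σ : L, S.act σ (psi F.e s) = psi F.e n := by
  have := reach_induction (gens.map app) [s]
    (fun m => m < 256 ∧ ∃ σ : L, S.act σ (psi F.e s) = psi F.e m)
    (by simpa [hs] using ⟨1, act_one _⟩) (by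
      rintro f hf m ⟨hm, σ, hσ⟩
      obtain ⟨M, hM, rfl⟩ := List.mem_map.mp hf
      obtain ⟨τ, hτ⟩ := F.mod_gens M hM
      exact ⟨app_lt M (gens_lt M hM) m, τ * σ, by rw [act_mul, hσ, hτ m hm]⟩) 8 n hn
  exact this.2

end Frame

end CfsgLib.ExtraNine
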