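import Cfsg.Agent.ExtraNine.Frame

/-!
# Matrices of the elements of `L` and the two kinds of pairs
-/

set_option autoImplicit false
set_option linter.style.haveILetI false
set_option maxRecDepth 100000
set_option synthInstance.maxSize 100000

namespace CfsgLib.ExtraNine

universe u v

theorem copy_three : ∀ p, p < 16 → copy 0 p ^^^ copy 1 p ^^^ copy 2 p = 0 := by decide +kernel

theorem copy_beta : ∀ k < 3, ∀ a, a < 16 → ∀ b, b < 16 →
    bv (copy k a) (copy (k + 1) b) = beta a b ∧ bv (copy k a) (copy (k + 2) b) = beta a b := by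
  decide +kernel

theorem copy_lt : ∀ k < 5, ∀ a, a < 16 → copy k a < 256 := by decide +kernel

theorem pis_copy : ∀ k < 3, ∀ a, a < 16 → app (pis.getD k []) a = copy k a ∧
    app (pis.getD k []) (16 * a) = copy (k + 1) a ∧ app (pis.getD (k + 3) []) a = copy k a ∧
    app (pis.getD (k + 3) []) (16 * a) = copy (k + 2) a := by
  decide +kernel

theorem pis_lt : ∀ M ∈ pis, ∀ v ∈ M, v < 256 := by decide +kernel

theorem small_list : (∀ f ∈ repP.fix, (one8 :: repP.grp f).Nodup) ∧
    (∀ f ∈ repR.fix, (one8 :: repR.grp f).Nodup) ∧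
    (∀ M ∈ one8 :: (repP.cand ++ repR.cand ++ [repP.k, repP.m, repR.k, repR.m]),
      (∀ v ∈ M, v < 256) ∧ M.length = 8) ∧
    repP.fix.length ≤ 3 ∧ repR.fix.length ≤ 3 ∧ repP.v4.length = 3 ∧ repR.v4.length = 3 ∧
    1 ∈ orbit 1 ∧ 65 ∈ orbit 65 := by
  decide +kernel

theorem t8_int : ∀ x ∈ [0, 4, 8, 12], x ∈ repP.es' ∧ x ∈ repP.es'.map (app mD1) := by
  decide +kernel

variable {G : Type u} [Group G] {L : Type v} [Group L] {S : Shape G L}

open Shape

namespace Frame

variable (F : Frame S)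

/-- Matrices are determined by the map. -/
theorem mat_unique {σ : L} {M N : List ℕ} (hM : Mod F.e σ M) (hN : Mod F.e σ N)
    (lM : ∀ v ∈ M, v < 256) (lN : ∀ v ∈ N, v < 256) (nM : M.length = 8) (nN : N.length = 8) :
    M = N := by
  have h : ∀ m, m < 256 → app M m = app N m := fun m hm =>
    F.psi_inj (app_lt M lM m) (app_lt N lN m) ((hM m hm).symm.trans (hN m hm))
  match M, nM, N, nN with
  | [a, b, c, d, e, f, g, k], _, [a', b', c', d', e', f', g', k'], _ =>
    have := h 1 (by norm_num)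
    have := h 2 (by norm_num)
    have := h 4 (by norm_num)
    have := h 8 (by norm_num)
    have := h 16 (by norm_num)
    have := h 32 (by norm_num)
    have := h 64 (by norm_num)
    have := h 128 (by norm_num)
    simp_all [app]

theorem mod_one : Mod F.e 1 one8 := fun n hn => by
  rw [act_one, app_one8 n hn]
where app_one8 : ∀ n, n < 256 → app one8 n = n := by decide +kernel

theorem act_ext {σ τ : L} {M : List ℕ} (h1 : Mod F.e σ M) (h2 : Mod F.e τ M) : σ = τ := by
  have h : σ⁻¹ * τ = 1 := eq_one_of_act (S := S) fun v => by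
    obtain ⟨n, hn, rfl⟩ := F.surj v
    rw [act_mul, h2 n hn, ← h1 n hn, act_inv_act]
  exact (inv_mul_eq_one.mp h)

/-- The pure vectors. -/
def Pure (v : S.Vec) : Prop := ∃ n ∈ orbit 1, psi F.e n = v

theorem gens_copy : ∀ M ∈ gens, ∀ k < 3, ∀ p < 16, p ≠ 0 →
    ∃ k' < 3, ∃ p' < 16, p' ≠ 0 ∧ app M (copy k p) = copy k' p' := by decide +kernel

theorem copy_zero : ∀ k < 3, copy k 0 = 0 := by decide +kernel

theorem zero_not_orbit : (0 : ℕ) ∉ orbit 1 := by decide +kernel

theorem pure_gens : ∀ M ∈ gens, ∀ n ∈ orbit 1, app M n ∈ orbit 1 := by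
  intro M hM n hn
  obtain ⟨k, hk, p, hp, rfl⟩ := orbit_one.2 n hn
  have hp0 : p ≠ 0 := by
    rintro rfl
    exact zero_not_orbit (copy_zero k hk ▸ hn)
  obtain ⟨k', hk', p', hp', hp0', e⟩ := gens_copy M hM k hk p hp hp0
  rw [e]
  exact orbit_one.1 k' hk' p' hp' hp0' 

theorem pure_ι (a : ↥(alternatingGroup (Fin 6))) :
    ∀ v, F.Pure v → F.Pure (S.act (S.ι a) v) := by
  let H : Submonoid ↥(alternatingGroup (Fin 6)) :=
    { carrier := {a | ∀ v, F.Pure v → F.Pure (S.act (S.ι a) v)}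
      one_mem' := fun v hv => by rwa [map_one, act_one]
      mul_mem' := fun {a b} ha hb v hv => by rw [map_mul, act_mul]; exact ha _ (hb v hv) }
  let H' : Subgroup ↥(alternatingGroup (Fin 6)) :=
    { H with
      inv_mem' := fun {x} hx => by
        have e : x⁻¹ = x ^ (orderOf x - 1) := by
          refine inv_eq_of_mul_eq_one_right ?_
          rw [← pow_succ', Nat.sub_add_cancel (orderOf_pos x), pow_orderOf_eq_one]
        rw [e]
        exact H.pow_mem hx _ }
  have hmem : ∀ (x : ↥(alternatingGroup (Fin 6))) M, M ∈ gens → Mod F.e (S.ι x) M → x ∈ H' := by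
    rintro x M hM hmod v ⟨n, hn, rfl⟩
    exact ⟨_, pure_gens M hM n hn, (hmod n (F.q_orbit (by norm_num) n hn).1).symm⟩
  have h : H' = ⊤ := F.gen H' (hmem _ _ (by simp [gens]) F.mod1) (hmem _ _ (by simp [gens]) F.mod2)
    (hmem _ _ (by simp [gens]) F.modG) (hmem _ _ (by simp [gens]) F.modU)
  exact (h ▸ Subgroup.mem_top a : a ∈ H')

theorem pure_c : ∀ v, F.Pure v → F.Pure (S.act S.c v) := by
  rintro v ⟨n, hn, rfl⟩
  exact ⟨_, pure_gens mC (by simp [gens]) n hn, (F.modC n (F.q_orbit (by norm_num) n hn).1).symm⟩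

/-- Every element of `L` preserves the pure vectors. -/
theorem pure_act [Finite G] (σ : L) : ∀ v, F.Pure v → F.Pure (S.act σ v) := by
  obtain ⟨horb, h1, h2, h3, h4⟩ := orbits
  have h11 : (1 : ℕ) ∈ orbit 1 := small_list.2.2.2.2.2.2.2.1
  have h55 : (65 : ℕ) ∈ orbit 65 := small_list.2.2.2.2.2.2.2.2
  let T : S.Vec → Prop := fun w => F.Pure (S.act σ⁻¹ w)
  have hT : ∀ M ∈ gens, ∀ n, n < 256 → T (psi F.e n) → T (psi F.e (app M n)) := by
    intro M hM n hn hw
    have key : ∀ b : ↥(alternatingGroup (Fin 6)), Mod F.e (S.ι b) M →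
        T (psi F.e (app M n)) := fun b hb => by
      obtain ⟨b', hb'⟩ := S.ι_normal σ⁻¹ b
      show F.Pure _
      rw [← hb n hn, ← act_mul, show σ⁻¹ * S.ι b = S.ι b' * σ⁻¹ by rw [← hb']; group, act_mul]
      exact F.pure_ι b' _ hw
    simp only [gens, List.mem_cons, List.not_mem_nil, or_false] at hM
    rcases hM with rfl | rfl | rfl | rfl | rfl
    · exact key _ F.mod1
    · exact key _ F.mod2
    · exact key _ F.modG
    · exact key _ F.modU
    · show F.Pure _
      rw [← F.modC n hn]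
      rcases S.c_normal σ⁻¹ with e | e
      · rw [← act_mul, e, act_mul]
        exact F.pure_c _ hw
      · rw [← act_mul, e, act_mul, act_mul]
        exact F.pure_c _ (F.pure_c _ hw)
  obtain ⟨n, hn, hσn⟩ := F.surj (S.act σ (psi F.e 1))
  have hTn : T (psi F.e n) := by
    show F.Pure _
    rw [hσn, act_inv_act]
    exact ⟨1, h11, rfl⟩
  have hcl : ∀ m ∈ orbit n, m < 256 ∧ T (psi F.e m) := by
    refine reach_induction (gens.map app) [n] (fun m => m < 256 ∧ T (psi F.e m))
      (by simp [hn, hTn]) ?_ 8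
    rintro f hf m ⟨hm, hm'⟩
    obtain ⟨M, hM, rfl⟩ := List.mem_map.mp hf
    exact ⟨app_lt M (gens_lt M hM) m, hT M hM m hm hm'⟩
  obtain ⟨hq, -⟩ := F.forms
  have hn0 : n ≠ 0 := by
    rintro rfl
    rw [psi_zero] at hσn
    exact one_ne_zero (F.inj 1 (by norm_num) (act_injective σ (hσn.symm.trans (map_zero _).symm)))
  have hqn : qv n = 0 := by
    have h : qF n = 0 := by
      rw [← hq n hn, hσn, q_act, hq 1 (by norm_num)]
      decide +kernel
    have h2 : qv n < 2 := Nat.mod_lt _ (by norm_num)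
    interval_cases hv : qv n
    · rfl
    · rw [qF, hv] at h; exact absurd h (by decide)
  have hn1 : n ∈ orbit 1 := by
    rcases horb n hn hn0 hqn with h | h
    · exact h
    exfalso
    -- the orbit of `n` has ninety elements, mapped injectively to the forty five pure ones
    have h90 : ∀ m ∈ orbit 65, m < 256 ∧ T (psi F.e m) := by
      have h65 : (65 : ℕ) < 256 ∧ T (psi F.e 65) := by
        refine ⟨by norm_num, (reach_induction (gens.map app) [65]
          (fun m => m < 256 ∧ (T (psi F.e m) → T (psi F.e 65))) (by simp) ?_ 8 n h).2 hTn⟩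
        rintro f hf m ⟨hm, hm'⟩
        obtain ⟨M, hM, rfl⟩ := List.mem_map.mp hf
        refine ⟨app_lt M (gens_lt M hM) m, fun hT' => hm' ?_⟩
        have hit : ∀ k, (app M)^[k] (app M m) < 256 ∧ T (psi F.e ((app M)^[k] (app M m))) := by
          intro k
          induction k with
          | zero => exact ⟨app_lt M (gens_lt M hM) m, hT'⟩
          | succ k ih =>
            rw [Function.iterate_succ_apply']
            exact ⟨app_lt M (gens_lt M hM) _, hT M hM _ ih.1 ih.2⟩
        have := (hit 11).2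
        rwa [← Function.iterate_succ_apply, pow_gens M hM m hm] at this
      refine reach_induction (gens.map app) [65] (fun m => m < 256 ∧ T (psi F.e m))
        (by simp [h65.1, h65.2]) ?_ 8
      rintro f hf m ⟨hm, hm'⟩
      obtain ⟨M, hM, rfl⟩ := List.mem_map.mp hf
      exact ⟨app_lt M (gens_lt M hM) m, hT M hM m hm hm'⟩
    choose g hg hge using fun m : Fin (orbit 65).length =>
      (h90 _ (List.getElem_mem (l := orbit 65) m.2)).2
    have hinj : Function.Injective fun m => (⟨(orbit 1).idxOf (g m),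
        List.idxOf_lt_length_iff.mpr (hg m)⟩ : Fin (orbit 1).length) := by
      intro a b e
      have e1 : g a = g b := (List.idxOf_inj (hg a)).mp (congrArg Fin.val e)
      have e2 : (orbit 65)[a.1] = (orbit 65)[b.1] :=
        F.psi_inj (h90 _ (List.getElem_mem a.2)).1 (h90 _ (List.getElem_mem b.2)).1
          (act_injective σ⁻¹ (by rw [← hge a, ← hge b, e1]))
      exact Fin.ext ((List.Nodup.getElem_inj_iff h4).mp e2)
    have h5 := Nat.card_le_card_of_injective _ hinj
    rw [Nat.card_eq_fintype_card, Nat.card_eq_fintype_card, Fintype.card_fin, Fintype.card_fin,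
      h1, h3] at h5
    omega
  intro v hv
  obtain ⟨m, hm, rfl⟩ := hv
  obtain ⟨τ, hτ⟩ := F.reach_all (by norm_num) hm
  -- the pure vectors form one orbit of the normal subgroup
  have key : ∀ m ∈ orbit 1, m < 256 ∧ F.Pure (S.act σ (psi F.e m)) := by
    refine reach_induction (gens.map app) [1] (fun m => m < 256 ∧ F.Pure (S.act σ (psi F.e m)))
      (by simp only [List.mem_singleton]; rintro x rfl; exact ⟨by norm_num, n, hn1, hσn⟩) ?_ 8
    rintro f hf m ⟨hm, hm'⟩
    obtain ⟨M, hM, rfl⟩ := List.mem_map.mp hf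
    refine ⟨app_lt M (gens_lt M hM) m, ?_⟩
    have key : ∀ b : ↥(alternatingGroup (Fin 6)), Mod F.e (S.ι b) M →
        F.Pure (S.act σ (psi F.e (app M m))) := fun b hb => by
      obtain ⟨b', hb'⟩ := S.ι_normal σ b
      rw [← hb m hm, ← act_mul, show σ * S.ι b = S.ι b' * σ by rw [← hb']; group, act_mul]
      exact F.pure_ι b' _ hm'
    simp only [gens, List.mem_cons, List.not_mem_nil, or_false] at hM
    rcases hM with rfl | rfl | rfl | rfl | rfl
    · exact key _ F.mod1
    · exact key _ F.mod2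
    · exact key _ F.modG
    · exact key _ F.modU
    · rw [← F.modC m hm, ← act_mul]
      rcases S.c_normal σ with e | e
      · rw [e, act_mul]
        exact F.pure_c _ hm'
      · rw [e, act_mul, act_mul]
        exact F.pure_c _ (F.pure_c _ hm')
  exact (key m hm).2
where pow_gens : ∀ M ∈ gens, ∀ m, m < 256 → (app M)^[12] m = m := by decide +kernel

/-- Every element of `L` has a matrix in `S₃ × Sp(U)`. -/
theorem exists_matrix [Finite G] (σ : L) : ∃ P ∈ pis, ∃ a b c d, a < 16 ∧ b < 16 ∧ c < 16 ∧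
    d < 16 ∧ beta a b = 1 ∧ beta a c = 0 ∧ beta b c = 0 ∧ beta a d = 0 ∧ beta b d = 0 ∧
    beta c d = 1 ∧ Mod F.e σ (mul P (diag a b c d)) := by
  obtain ⟨hc1, hc2⟩ := orbit_one
  have him : ∀ i, i < 16 → i ≠ 0 → ∃ k r, k < 3 ∧ r < 16 ∧ r ≠ 0 ∧
      S.act σ (psi F.e i) = psi F.e (copy k r) := by
    intro i hi hi0
    obtain ⟨n, hn, hn'⟩ := F.pure_act σ (psi F.e i) ⟨i, by
      have := hc1 0 (by norm_num) i hi hi0
      simpa [copy] using this, rfl⟩
    obtain ⟨k, hk, r, hr, rfl⟩ := hc2 n hn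
    refine ⟨k, r, hk, hr, ?_, hn'.symm⟩
    rintro rfl
    have h0 : copy k 0 = 0 := by
      clear hn hn'
      induction k with
      | zero => rfl
      | succ k ih => simp [copy, ih (by omega), app_zero]
    rw [h0, psi_zero] at hn'
    exact hi0 (F.inj i (by omega) (act_injective σ (hn'.symm.trans (map_zero _).symm)))
  -- two images in different copies have the same point
  have hsame : ∀ i j, i < 16 → i ≠ 0 → j < 16 → j ≠ 0 → i ≠ j →
      ∀ k r k' r', k < 3 → r < 16 → r ≠ 0 → k' < 3 → r' < 16 → r' ≠ 0 →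
      S.act σ (psi F.e i) = psi F.e (copy k r) → S.act σ (psi F.e j) = psi F.e (copy k' r') →
      k ≠ k' → r = r' := by
    intro i j hi hi0 hj hj0 hij k r k' r' hk hr hr0 hk' hr' hr0' e1 e2 hkk
    by_contra hne
    have hx : i ^^^ j < 16 := Nat.xor_lt_two_pow (n := 4) hi hj
    have hx0 : i ^^^ j ≠ 0 := fun e => hij (Nat.xor_eq_zero_iff.mp e)
    obtain ⟨l, t, hl, ht, -, e3⟩ := him _ hx hx0
    rw [psi_xor, map_add, e1, e2, ← psi_xor] at e3
    exact copy_sum k hk k' hk' r hr r' hr' hkk hr0 hr0' hne l hl t ht (F.psi_inj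
      (Nat.xor_lt_two_pow (n := 8) (copy_lt k (by omega) r hr) (copy_lt k' (by omega) r' hr'))
      (copy_lt l (by omega) t ht) e3).symm
  obtain ⟨k, a, hk, ha, ha0, ea⟩ := him 1 (by norm_num) (by norm_num)
  obtain ⟨k2, b, hk2, hb, hb0, eb⟩ := him 2 (by norm_num) (by norm_num)
  obtain ⟨k4, c, hk4, hc, hc0, ec⟩ := him 4 (by norm_num) (by norm_num)
  obtain ⟨k8, d, hk8, hd, hd0, ed⟩ := him 8 (by norm_num) (by norm_num)
  -- all in one copy
  have hone : ∀ i j l, i < 16 → i ≠ 0 → j < 16 → j ≠ 0 → l < 16 → l ≠ 0 → i ≠ j → i ≠ l → j ≠ l →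
      i ^^^ j ^^^ l ≠ 0 →
      ∀ ki ri kj rj kl rl, ki < 3 → ri < 16 → ri ≠ 0 → kj < 3 → rj < 16 → rj ≠ 0 →
      kl < 3 → rl < 16 → rl ≠ 0 →
      S.act σ (psi F.e i) = psi F.e (copy ki ri) → S.act σ (psi F.e j) = psi F.e (copy kj rj) →
      S.act σ (psi F.e l) = psi F.e (copy kl rl) → ki = kj := by
    intro i j l hi hi0 hj hj0 hl hl0 hij hil hjl hsum ki ri kj rj kl rl hki hri hri0 hkj hrj hrj0
      hkl hrl hrl0 e1 e2 e3
    by_contra hne
    have h12 := hsame i j hi hi0 hj hj0 hij _ _ _ _ hki hri hri0 hkj hrj hrj0 e1 e2 hne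
    have hinj : ∀ x y, x < 16 → y < 16 → S.act σ (psi F.e x) = S.act σ (psi F.e y) → x = y :=
      fun x y hx hy e => F.psi_inj (by omega) (by omega) (act_injective σ e)
    have hl3 : rl = ri ∧ kl ≠ ki ∧ kl ≠ kj := by
      by_cases e : kl = ki
      · have h := hsame j l hj hj0 hl hl0 hjl _ _ _ _ hkj hrj hrj0 hkl hrl hrl0 e2 e3
          (fun e' => hne (e.symm.trans e'.symm))
        exact absurd (hinj i l hi hl (by rw [e1, e3, e, h12, h])) hil
      · have h := hsame i l hi hi0 hl hl0 hil _ _ _ _ hki hri hri0 hkl hrl hrl0 e1 e3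
          (fun e' => e e'.symm)
        refine ⟨h.symm, e, fun e' => hjl (hinj j l hj hl ?_)⟩
        rw [e2, e3, e', ← h12, h]
    obtain ⟨hr', hk', hk''⟩ := hl3
    apply hsum
    refine F.inj _ (Nat.xor_lt_two_pow (n := 8) (Nat.xor_lt_two_pow (n := 8) (by omega) (by omega))
      (by omega)) (act_injective σ ?_)
    rw [psi_xor, psi_xor, map_add, map_add, e1, e2, e3, ← h12, hr', ← psi_xor, ← psi_xor, map_zero]
    have h3 := copy_three ri hri
    have : copy ki ri ^^^ copy kj ri ^^^ copy kl ri = copy 0 ri ^^^ copy 1 ri ^^^ copy 2 ri := by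
      interval_cases ki <;> interval_cases kj <;> interval_cases kl <;>
        first | omega | ac_rfl
    rw [this, h3, psi_zero]
  have k12 : k = k2 := hone 1 2 4 (by norm_num) (by norm_num) (by norm_num) (by norm_num)
    (by norm_num) (by norm_num) (by norm_num) (by norm_num) (by norm_num) (by decide)
    _ _ _ _ _ _ hk ha ha0 hk2 hb hb0 hk4 hc hc0 ea eb ec
  have k14 : k = k4 := hone 1 4 2 (by norm_num) (by norm_num) (by norm_num) (by norm_num)
    (by norm_num) (by norm_num) (by norm_num) (by norm_num) (by norm_num) (by decide)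
    _ _ _ _ _ _ hk ha ha0 hk4 hc hc0 hk2 hb hb0 ea ec eb
  have k18 : k = k8 := hone 1 8 2 (by norm_num) (by norm_num) (by norm_num) (by norm_num)
    (by norm_num) (by norm_num) (by norm_num) (by norm_num) (by norm_num) (by decide)
    _ _ _ _ _ _ hk ha ha0 hk8 hd hd0 hk2 hb hb0 ea ed eb
  subst k12 k14 k18
  obtain ⟨hp1, hp2⟩ : (∀ i, i < 16 → psi F.e (16 * i) = S.act S.c (psi F.e i)) ∧
      ∀ x, x < 256 → S.act S.c (psi F.e x) = psi F.e (app mC x) := by
    refine ⟨fun i hi => ?_, F.modC⟩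
    rw [F.modC i (by omega), mC_copy i hi]
  obtain ⟨ε, hε, P, hP, hPa, hPc⟩ : ∃ ε, (ε = 1 ∨ ε = 2) ∧ ∃ P ∈ pis,
      (∀ x, x < 16 → app P x = copy k x) ∧ ∀ i x, i < 16 → x < 16 →
        S.act σ (psi F.e i) = psi F.e (copy k x) →
        S.act σ (psi F.e (16 * i)) = psi F.e (copy (k + ε) x) ∧
          app P (16 * x) = copy (k + ε) x := by
    rcases S.c_normal σ with e | e
    · refine ⟨1, Or.inl rfl, pis.getD k [], getD_mem k (by omega),
        fun x hx => (pis_copy k hk x hx).1, fun i x hi hx hix => ⟨?_, (pis_copy k hk x hx).2.1⟩⟩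
      rw [hp1 i hi, ← act_mul, e, act_mul, hix, hp2 _ (copy_lt k (by omega) x hx)]
      rfl
    · refine ⟨2, Or.inr rfl, pis.getD (k + 3) [], getD_mem (k + 3) (by omega),
        fun x hx => (pis_copy k hk x hx).2.2.1,
        fun i x hi hx hix => ⟨?_, (pis_copy k hk x hx).2.2.2⟩⟩
      rw [hp1 i hi, ← act_mul, e, act_mul, act_mul, hix, hp2 _ (copy_lt k (by omega) x hx),
        hp2 _ (app_lt _ (gens_lt _ (by simp [gens])) _)]
      rfl
  have hbeta : ∀ i j x y, i < 16 → j < 16 → x < 16 → y < 16 →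
      S.act σ (psi F.e i) = psi F.e (copy k x) → S.act σ (psi F.e j) = psi F.e (copy k y) →
      beta x y = bv i (16 * j) := by
    intro i j x y hi hj hx hy e1 e2
    obtain ⟨-, hB⟩ := F.forms
    have e := B_act (S := S) σ (psi F.e i) (psi F.e (16 * j))
    rw [e1, (hPc j y hj hy e2).1, hB _ _ (copy_lt k (by omega) x hx)
      (copy_lt (k + ε) (by omega) y hy), hB _ _ (by omega) (by omega)] at e
    have e' : bv (copy k x) (copy (k + ε) y) = bv i (16 * j) := by
      have h1 : bv (copy k x) (copy (k + ε) y) < 2 := Nat.mod_lt _ (by norm_num)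
      have h2 : bv i (16 * j) < 2 := Nat.mod_lt _ (by norm_num)
      simp only [bF] at e
      rcases Nat.lt_succ_iff_lt_or_eq.mp h1 with a | a <;>
        rcases Nat.lt_succ_iff_lt_or_eq.mp h2 with b | b
      · omega
      · rw [b, show bv (copy k x) (copy (k + ε) y) = 0 by omega] at e; simp at e
      · rw [a, show bv i (16 * j) = 0 by omega] at e; simp at e
      · omega
    rw [← e']
    rcases hε with rfl | rfl
    exacts [(copy_beta k hk x hx y hy).1.symm, (copy_beta k hk x hx y hy).2.symm]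
  refine ⟨P, hP, a, b, c, d, ha, hb, hc, hd, ?_, ?_, ?_, ?_, ?_, ?_, ?_⟩
  · rw [hbeta 1 2 a b (by norm_num) (by norm_num) ha hb ea eb]; rfl
  · rw [hbeta 1 4 a c (by norm_num) (by norm_num) ha hc ea ec]; rfl
  · rw [hbeta 2 4 b c (by norm_num) (by norm_num) hb hc eb ec]; rfl
  · rw [hbeta 1 8 a d (by norm_num) (by norm_num) ha hd ea ed]; rfl
  · rw [hbeta 2 8 b d (by norm_num) (by norm_num) hb hd eb ed]; rfl
  · rw [hbeta 4 8 c d (by norm_num) (by norm_num) hc hd ec ed]; rfl
  intro n hn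
  refine spanList_induction (fun n => S.act σ (psi F.e n) = psi F.e (app (mul P (diag a b c d)) n))
    (by simp [psi_zero, app_zero]) (fun x y hx hy => by simp only [psi_xor, app_xor, map_add, hx, hy])
    _ ?_ n (mem_span_one8 n hn)
  intro m hm
  simp only [one8, List.mem_cons, List.not_mem_nil, or_false] at hm
  rw [app_mul]
  rcases hm with rfl | rfl | rfl | rfl | rfl | rfl | rfl | rfl
  · rw [show app (diag a b c d) 1 = a by simp [diag, app], hPa a ha, ea]
  · rw [show app (diag a b c d) 2 = b by simp [diag, app], hPa b hb, eb]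
  · rw [show app (diag a b c d) 4 = c by simp [diag, app], hPa c hc, ec]
  · rw [show app (diag a b c d) 8 = d by simp [diag, app], hPa d hd, ed]
  · obtain ⟨h1, h2⟩ := hPc 1 a (by norm_num) ha ea
    rw [show app (diag a b c d) 16 = 16 * a by simp [diag, app], h2]; exact h1
  · obtain ⟨h1, h2⟩ := hPc 2 b (by norm_num) hb eb
    rw [show app (diag a b c d) 32 = 16 * b by simp [diag, app], h2]; exact h1
  · obtain ⟨h1, h2⟩ := hPc 4 c (by norm_num) hc ec
    rw [show app (diag a b c d) 64 = 16 * c by simp [diag, app], h2]; exact h1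
  · obtain ⟨h1, h2⟩ := hPc 8 d (by norm_num) hd ed
    rw [show app (diag a b c d) 128 = 16 * d by simp [diag, app], h2]; exact h1
where
  mC_copy : ∀ i, i < 16 → app mC i = 16 * i := by decide +kernel
  getD_mem : ∀ k, k < 6 → pis.getD k [] ∈ pis := by decide +kernel

/-- An element fixing `s` has its matrix in the stabilizer list. -/
theorem exists_stab [Finite G] {σ : L} {s : ℕ} (hs : s < 256)
    (h : S.act σ (psi F.e s) = psi F.e s) : ∃ M ∈ stabList s, (∀ v ∈ M, v < 256) ∧ M.length = 8 ∧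
      Mod F.e σ M := by
  obtain ⟨P, hP, a, b, c, d, ha, hb, hc, hd, h1, h2, h3, h4, h5, h6, hM⟩ := F.exists_matrix σ
  have hl : ∀ v ∈ mul P (diag a b c d), v < 256 := fun v hv => by
    obtain ⟨x, -, rfl⟩ := List.mem_map.mp hv
    exact app_lt _ (pis_lt P hP) _
  refine ⟨_, mem_stabList hP ha hb hc hd h1 h2 h3 h4 h5 h6 ?_, hl, rfl, hM⟩
  exact F.psi_inj (app_lt _ hl s) hs ((hM s hs).symm.trans h)

theorem eq_zero_of_q [Finite G] {n : ℕ} (hn : n < 256) (h : S.q (psi F.e n) = 0) : qv n = 0 := by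
  rw [F.forms.1 n hn, qF] at h
  have h2 : qv n < 2 := Nat.mod_lt _ (by norm_num)
  interval_cases hv : qv n
  · rfl
  · exact absurd h (by decide)

theorem eq_zero_of_B [Finite G] {n m : ℕ} (hn : n < 256) (hm : m < 256)
    (h : S.B (psi F.e n) (psi F.e m) = 0) : bv n m = 0 := by
  rw [F.forms.2 n m hn hm, bF] at h
  have h2 : bv n m < 2 := Nat.mod_lt _ (by norm_num)
  interval_cases hv : bv n m
  · rfl
  · exact absurd h (by decide)

theorem B_zero_of [Finite G] {n m : ℕ} (hn : n < 256) (hm : m < 256) (h : bv n m = 0) :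
    S.B (psi F.e n) (psi F.e m) = 0 := by
  rw [F.forms.2 n m hn hm, bF, h, Nat.cast_zero]

end Frame

/-- The structure of a pair at a representative. -/
structure Res (F : Frame S) (p : Pair S) [Finite G] (r : Rep) (f : List ℕ) : Prop where
  f_mem : f ∈ r.fix
  Eb_iff : ∀ n, n < 256 → (psi F.e n ∈ p.Eb ↔ n ∈ r.es')
  card_Eb : Nat.card p.Eb = 16
  exists_f : ∃ σ ∈ p.A, Mod F.e σ f
  exists_v4 : ∀ v ∈ r.v4, ∃ σ ∈ p.A, Mod F.e σ v
  unique : ∀ σ ∈ p.A, σ ≠ 1 →
    (∀ τ : L, S.act τ (S.pr p.s) = S.pr p.s → τ * σ = σ * τ) → Mod F.e σ f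

/-- The side conditions on a representative. -/
structure RepOK (F : Frame S) (r : Rep) : Prop where
  facts : r.Facts
  lt : ∀ M ∈ one8 :: r.cand ++ [r.k, r.m], (∀ v ∈ M, v < 256) ∧ M.length = 8
  nodup : ∀ f ∈ r.fix, (one8 :: r.grp f).Nodup
  fix_len : r.fix.length ≤ 3
  v4_len : r.v4.length = 3
  modk : ∃ σ, Mod F.e σ r.k
  modm : ∃ σ, Mod F.e σ r.m

theorem repOK_P (F : Frame S) : RepOK F repP where
  facts := factsP
  lt := fun M hM => small_list.2.2.1 M (by
    simp only [List.mem_cons, List.mem_append] at hM ⊢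
    tauto)
  nodup := small_list.1
  fix_len := small_list.2.2.2.1
  v4_len := small_list.2.2.2.2.2.1
  modk := ⟨_, F.mod2⟩
  modm := ⟨_, F.mod1⟩

theorem repOK_R (F : Frame S) : RepOK F repR where
  facts := factsR
  lt := fun M hM => small_list.2.2.1 M (by
    simp only [List.mem_cons, List.mem_append] at hM ⊢
    tauto)
  nodup := small_list.2.1
  fix_len := small_list.2.2.2.2.1
  v4_len := small_list.2.2.2.2.2.2.1
  modk := ⟨_, mod_mul (mod_mul F.modC F.mod2 (gens_lt _ (by simp [gens])))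
    (mod_mul F.modU F.mod1 (gens_lt _ (by simp [gens]))) mul_lt⟩
  modm := ⟨_, mod_mul F.mod1 (mod_mul F.modG F.mod1 (gens_lt _ (by simp [gens]))) mul_lt'⟩
where
  mul_lt : ∀ v ∈ mul mU mD1, v < 256 := by decide +kernel
  mul_lt' : ∀ v ∈ mul mG mD1, v < 256 := by decide +kernel

theorem spanList_lt' {l : List ℕ} (h : ∀ v ∈ l, v < 256) {n : ℕ} (hn : n ∈ spanList l) :
    n < 256 := spanList_lt l h n hn

/-- The structure of a pair at a representative. -/
theorem exists_res [Finite G] (F : Frame S) {r : Rep} (ok : RepOK F r) (p : Pair S)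
    (hp : S.pr p.s = psi F.e r.s) : ∃ f, Res F p r f := by
  classical
  haveI : Finite L := Finite.of_surjective _ S.ρ_surj
  have hf := ok.facts
  obtain ⟨hs256, -, -⟩ := hf.s_mem
  have hwb : ∀ w ∈ r.wb, S.B (psi F.e w) (S.pr p.s) = 0 := fun w hw => by
    rw [hp]; exact F.B_zero_of (hf.wb_perp w hw).1 hs256 (hf.wb_perp w hw).2
  have stab : ∀ σ, σ ∈ p.A → ∃ M ∈ stabList r.s, (∀ v ∈ M, v < 256) ∧ M.length = 8 ∧
      Mod F.e σ M := fun σ hσ => F.exists_stab hs256 (by rw [← hp]; exact p.act_A_s hσ)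
  have himg : ∀ σ ∈ p.A, ∀ M, Mod F.e σ M → (∀ v ∈ M, v < 256) →
      ∀ a ∈ r.img M, a < 256 ∧ psi F.e a ∈ p.Eb := by
    intro σ hσ M hM hl a ha
    obtain ⟨w, hw, rfl⟩ := List.mem_map.mp ha
    have hw' := (hf.wb_perp w hw).1
    refine ⟨Nat.xor_lt_two_pow (n := 8) (app_lt M hl w) hw', ?_⟩
    rw [psi_xor, ← hM w hw']
    exact p.disp_mem hσ (hwb w hw)
  have hzs : ∀ σ ∈ p.A, ∀ M, Mod F.e σ M → (∀ v ∈ M, v < 256) → ∀ a, a < 256 →
      psi F.e a ∈ p.Eb → (app M a ^^^ a == 0 || app M a ^^^ a == r.s) = true := by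
    intro σ hσ M hM hl a ha haE
    have h := p.disp_Eb hσ haE
    rw [hM a ha, ← psi_xor, hp] at h
    have hlt : app M a ^^^ a < 256 := Nat.xor_lt_two_pow (n := 8) (app_lt M hl a) ha
    simp only [Bool.or_eq_true, beq_iff_eq]
    rcases h with h | h
    · exact Or.inl (F.inj _ hlt h)
    · exact Or.inr (F.psi_inj hlt hs256 h)
  obtain ⟨kσ, hk⟩ := ok.modk
  obtain ⟨hkl, hkn⟩ := ok.lt r.k (by simp)
  have hks : S.act kσ (S.pr p.s) = S.pr p.s := by
    rw [hp, hk r.s hs256, hf.k_cube.2]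
  have hk3 : kσ * (kσ * kσ) = 1 := by
    refine F.act_ext (M := one8) ?_ F.mod_one
    rw [← hf.k_cube.1]
    exact mod_mul hk (mod_mul hk hk hkl) (fun v hv => by
      obtain ⟨x, -, rfl⟩ := List.mem_map.mp hv
      exact app_lt _ hkl _)
  have hkinv : kσ⁻¹ = kσ * kσ := inv_eq_of_mul_eq_one_right hk3
  have hmull : ∀ {A : List ℕ}, (∀ v ∈ A, v < 256) → ∀ B : List ℕ, ∀ v ∈ mul A B, v < 256 :=
    fun {A} hA B v hv => by
      obtain ⟨x, -, rfl⟩ := List.mem_map.mp hv
      exact app_lt _ hA _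
  have hcj : ∀ σ M, Mod F.e σ M → (∀ v ∈ M, v < 256) →
      Mod F.e (kσ * σ * kσ⁻¹) (r.cjk M) := by
    intro σ M hM hl
    rw [hkinv, mul_assoc]
    exact mod_mul hk (mod_mul hM (mod_mul hk hk hkl) (hmull hkl _)) (hmull hl _)
  have hcand : ∀ σ ∈ p.A, σ ≠ 1 → ∃ M ∈ r.cand, Mod F.e σ M := by
    intro σ hσ h1
    obtain ⟨M, hMs, hl, hn, hM⟩ := stab σ hσ
    refine ⟨M, hf.surv_cand M hMs ?_, hM⟩
    have good : ∀ τ ∈ p.A, τ ≠ 1 → ∀ N, Mod F.e τ N → (∀ v ∈ N, v < 256) → N.length = 8 →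
        r.good N = true := by
      intro τ hτ hτ1 N hN hlN hnN
      have hne : N ≠ one8 := fun e => hτ1 (F.act_ext (e ▸ hN) F.mod_one)
      have hsq : mul N N = one8 := by
        refine F.mat_unique (σ := τ * τ) (mod_mul hN hN hlN) ?_ (hmull hlN _)
          (ok.lt one8 (by simp)).1 (by simp [mul, hnN]) rfl
        rw [p.A_sq τ hτ]
        exact F.mod_one
      simp only [Rep.good, Bool.and_eq_true, bne_iff_ne, ne_eq, List.all_eq_true, beq_iff_eq]
      refine ⟨⟨hne, hsq⟩, fun a ha => ?_⟩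
      obtain ⟨ha', haE⟩ := himg τ hτ N hN hlN a ha
      refine ⟨⟨F.eq_zero_of_q ha' (p.q_Eb haE), fun b hb => ?_⟩, by
        simpa using hzs τ hτ N hN hlN a ha' haE⟩
      obtain ⟨hb', hbE⟩ := himg τ hτ N hN hlN b hb
      exact F.eq_zero_of_B ha' hb' (p.B_Eb haE hbE)
    have hσ' : kσ * σ * kσ⁻¹ ∈ p.A := p.A_conj hks hσ
    have h1' : kσ * σ * kσ⁻¹ ≠ 1 := fun e => h1 (conj_eq_one_iff.mp e)
    have hl' : ∀ v ∈ r.cjk M, v < 256 := hmull hkl _
    have hn' : (r.cjk M).length = 8 := by simp [Rep.cjk, mul, hkn]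
    simp only [Rep.surv, Bool.and_eq_true]
    refine ⟨⟨good σ hσ h1 M hM hl hn, good _ hσ' h1' _ (hcj σ M hM hl) hl' hn'⟩, ?_⟩
    simp only [Rep.compat, Bool.and_eq_true, beq_iff_eq, List.all_eq_true]
    refine ⟨?_, fun a ha => ?_⟩
    · refine F.mat_unique (mod_mul hM (hcj σ M hM hl) hl') ?_ (hmull hl _) (hmull hl' _)
        (by simp [mul, hn']) (by simp [mul, hn])
      rw [p.A_comm σ hσ _ hσ']
      exact mod_mul (hcj σ M hM hl) hM hl
    · obtain ⟨ha', haE⟩ := himg σ hσ M hM hl a ha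
      refine ⟨fun b hb => ?_, by simpa using hzs _ hσ' _ (hcj σ M hM hl) hl' a ha' haE⟩
      obtain ⟨hb', hbE⟩ := himg _ hσ' _ (hcj σ M hM hl) hl' b hb
      exact F.eq_zero_of_B ha' hb' (p.B_Eb haE hbE)
  -- realised matrices
  have hreal : ∀ (l : List (List ℕ)), (∀ σ ∈ p.A, σ ≠ 1 → ∃ M ∈ l, Mod F.e σ M) →
      Nat.card p.A ≤ l.length + 1 := by
    intro l hl
    have h : ∀ σ : p.A, ∃ i : Fin (l.length + 1), Mod F.e (σ : L) ((one8 :: l)[i.1]) := by
      intro σ
      by_cases e : (σ : L) = 1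
      · exact ⟨⟨0, by simp⟩, by rw [e]; exact F.mod_one⟩
      · obtain ⟨M, hM, hMod⟩ := hl σ σ.2 e
        obtain ⟨i, hi, rfl⟩ := List.mem_iff_getElem.mp hM
        exact ⟨⟨i + 1, by omega⟩, by simpa using hMod⟩
    choose g hg using h
    have hinj : Function.Injective g := fun a b e =>
      Subtype.ext (F.act_ext (e ▸ hg a) (hg b))
    simpa using Nat.card_le_card_of_injective g hinj
  have h8 := p.card_A_ge
  -- the common part
  have hv4all : ∀ u ∈ r.v4, ∃ σ ∈ p.A, Mod F.e σ u := by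
    obtain ⟨v, hv, σ, hσ, hσv⟩ : ∃ v ∈ r.v4, ∃ σ ∈ p.A, Mod F.e σ v := by
      by_contra hnone
      push Not at hnone
      have h : ∀ σ ∈ p.A, σ ≠ 1 → ∃ M ∈ r.fix, Mod F.e σ M := by
        intro σ hσ h1
        obtain ⟨M, hM, hMod⟩ := hcand σ hσ h1
        rcases hf.moved M hM with h | h
        · exact ⟨M, h, hMod⟩
        · have hl := (ok.lt M (by simp [hM])).1
          exact absurd (mod_mul hMod (hcj σ M hMod hl) (hmull hkl _))
            (hnone _ h _ (mul_mem hσ (p.A_conj hks hσ)))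
      have := hreal r.fix h
      have := ok.fix_len
      omega
    intro u hu
    have hl := (ok.lt v (by simp [Rep.cand, hv])).1
    rcases hf.v4_orbit v hv u hu with rfl | rfl | rfl
    · exact ⟨σ, hσ, hσv⟩
    · exact ⟨_, p.A_conj hks hσ, hcj σ v hσv hl⟩
    · exact ⟨_, p.A_conj hks (p.A_conj hks hσ), hcj _ _ (hcj σ v hσv hl) (hmull hkl _)⟩
  obtain ⟨f, hffix, σf, hσf, hmodf⟩ : ∃ f ∈ r.fix, ∃ σ ∈ p.A, Mod F.e σ f := by
    by_contra hnone
    push Not at hnone
    have h : ∀ σ ∈ p.A, σ ≠ 1 → ∃ M ∈ r.v4, Mod F.e σ M := by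
      intro σ hσ h1
      obtain ⟨M, hM, hMod⟩ := hcand σ hσ h1
      rw [Rep.cand, List.mem_append, List.mem_append] at hM
      rcases hM with (hM | hM) | hM
      · exact ⟨M, hM, hMod⟩
      · exact absurd hMod (hnone M hM σ hσ)
      · simp only [List.mem_flatMap, List.mem_map] at hM
        obtain ⟨v, hv, f, hf', rfl⟩ := hM
        obtain ⟨τ, hτ, hτv⟩ := hv4all v hv
        have hlf := (ok.lt f (by simp [Rep.cand, hf'])).1
        have hlv := (ok.lt v (by simp [Rep.cand, hv])).1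
        refine absurd ?_ (hnone f hf' (τ * σ) (mul_mem hτ hσ))
        have h2 := mod_mul hτv hMod (hmull hlv _)
        rwa [hf.fix_of_coset v hv f hf'] at h2
    have := hreal r.v4 h
    have := ok.v4_len
    omega
  -- the subspace
  have hEsub : ∀ e ∈ r.es', e < 256 ∧ psi F.e e ∈ p.Eb := by
    intro e he
    refine spanList_induction (fun e => e < 256 ∧ psi F.e e ∈ p.Eb)
      ⟨by norm_num, by rw [psi_zero]; exact zero_mem _⟩
      (fun a b ha hb => ⟨Nat.xor_lt_two_pow (n := 8) ha.1 hb.1, by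
        rw [psi_xor]; exact add_mem ha.2 hb.2⟩) _ ?_ e (hf.es_eq f hffix e he)
    intro a ha
    rw [List.mem_dedup, List.mem_flatMap] at ha
    obtain ⟨M, hM, ha⟩ := ha
    rcases List.mem_cons.mp hM with rfl | hM
    · exact himg σf hσf M hmodf (ok.lt M (by simp [Rep.cand, hffix])).1 a ha
    · obtain ⟨τ, hτ, hτM⟩ := hv4all M hM
      exact himg τ hτ M hτM (ok.lt M (by simp [Rep.cand, hM])).1 a ha
  have hcardE : Nat.card p.Eb = 16 := by
    refine le_antisymm p.card_Eb_le ?_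
    obtain ⟨hlen, hnd⟩ := hf.es_card
    have hinj : Function.Injective fun i : Fin r.es'.length =>
        (⟨psi F.e r.es'[i.1], (hEsub _ (List.getElem_mem i.2)).2⟩ : p.Eb) := fun a b e =>
      Fin.ext ((List.Nodup.getElem_inj_iff hnd).mp (F.psi_inj (hEsub _ (List.getElem_mem a.2)).1
        (hEsub _ (List.getElem_mem b.2)).1 (congrArg Subtype.val e)))
    have := Nat.card_le_card_of_injective _ hinj
    rw [Nat.card_eq_fintype_card (α := Fin _), Fintype.card_fin, hlen] at this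
    exact this
  have hEb : ∀ n, n < 256 → (psi F.e n ∈ p.Eb ↔ n ∈ r.es') := by
    obtain ⟨hlen, hnd⟩ := hf.es_card
    intro n hn
    refine ⟨fun h => ?_, fun h => (hEsub n h).2⟩
    by_contra hnot
    have hnd' : (n :: r.es').Nodup := List.nodup_cons.mpr ⟨hnot, hnd⟩
    have hmem : ∀ m ∈ n :: r.es', m < 256 ∧ psi F.e m ∈ p.Eb := fun m hm => by
      rcases List.mem_cons.mp hm with rfl | hm
      exacts [⟨hn, h⟩, hEsub m hm]
    have hinj : Function.Injective fun i : Fin (n :: r.es').length =>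
        (⟨psi F.e (n :: r.es')[i.1], (hmem _ (List.getElem_mem i.2)).2⟩ : p.Eb) := fun a b e =>
      Fin.ext ((List.Nodup.getElem_inj_iff hnd').mp (F.psi_inj (hmem _ (List.getElem_mem a.2)).1
        (hmem _ (List.getElem_mem b.2)).1 (congrArg Subtype.val e)))
    have := Nat.card_le_card_of_injective _ hinj
    rw [Nat.card_eq_fintype_card (α := Fin _), Fintype.card_fin, List.length_cons, hlen,
      hcardE] at this
    omega
  have hcardA : Nat.card p.A = 8 := by
    have := p.card_mul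
    rw [hcardE] at this
    omega
  -- all eight elements
  have hgrp : ∀ M ∈ one8 :: r.grp f, ∃ τ ∈ p.A, Mod F.e τ M := by
    intro M hM
    simp only [Rep.grp, List.mem_cons, List.mem_append, List.not_mem_nil, or_false, List.mem_map] at hM
    rcases hM with rfl | (hM | rfl) | ⟨v, hv, rfl⟩
    · exact ⟨1, one_mem _, F.mod_one⟩
    · exact hv4all M hM
    · exact ⟨σf, hσf, hmodf⟩
    · obtain ⟨τ, hτ, hτv⟩ := hv4all v hv
      exact ⟨τ * σf, mul_mem hτ hσf, mod_mul hτv hmodf (ok.lt f (by simp [Rep.cand, hffix])).1⟩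
  refine ⟨f, hffix, hEb, hcardE, ⟨σf, hσf, hmodf⟩, hv4all, fun σ hσ h1 hfix => ?_⟩
  have hlen : (one8 :: r.grp f).length = 8 := by simp [Rep.grp, ok.v4_len]
  choose g hg hgm using fun i : Fin (one8 :: r.grp f).length => hgrp _ (List.getElem_mem i.2)
  have hl8 : ∀ M ∈ one8 :: r.grp f, (∀ v ∈ M, v < 256) ∧ M.length = 8 := fun M hM => by
    refine ok.lt M ?_
    simp only [Rep.grp, List.mem_cons, List.mem_append, List.not_mem_nil, or_false, List.mem_map] at hM
    simp only [Rep.cand, List.mem_cons, List.mem_append, List.mem_flatMap, List.mem_map]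
    rcases hM with rfl | (hM | rfl) | ⟨v, hv, rfl⟩
    · exact Or.inl (Or.inl rfl)
    · exact Or.inl (Or.inr (Or.inl (Or.inl hM)))
    · exact Or.inl (Or.inr (Or.inl (Or.inr hffix)))
    · exact Or.inl (Or.inr (Or.inr ⟨v, hv, f, hffix, rfl⟩))
  have hbij : Function.Bijective fun i => (⟨g i, hg i⟩ : p.A) := by
    refine (Nat.bijective_iff_injective_and_card _).mpr ⟨fun a b e => ?_, by
      rw [Nat.card_eq_fintype_card, Fintype.card_fin, hlen, hcardA]⟩
    have e' : g a = g b := congrArg Subtype.val e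
    have e2 : (one8 :: r.grp f)[a.1] = (one8 :: r.grp f)[b.1] :=
      F.mat_unique (e' ▸ hgm a) (hgm b) (hl8 _ (List.getElem_mem _)).1
        (hl8 _ (List.getElem_mem _)).1 (hl8 _ (List.getElem_mem _)).2 (hl8 _ (List.getElem_mem _)).2
    exact Fin.ext ((List.Nodup.getElem_inj_iff (ok.nodup f hffix)).mp e2)
  obtain ⟨i, hi⟩ := hbij.2 ⟨σ, hσ⟩
  have hi' : g i = σ := congrArg Subtype.val hi
  have hmemi : (one8 :: r.grp f)[i.1] ∈ one8 :: r.grp f := List.getElem_mem i.2
  have hmod : Mod F.e σ (one8 :: r.grp f)[i.1] := hi' ▸ hgm i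
  rcases List.mem_cons.mp hmemi with e | e
  · exact absurd (F.act_ext (e ▸ hmod) F.mod_one) h1
  · have hM := hl8 _ hmemi
    have hfixk : r.cjk (one8 :: r.grp f)[i.1] = (one8 :: r.grp f)[i.1] := by
      refine F.mat_unique (hcj σ _ hmod hM.1) ?_ (hmull hkl _) hM.1
        (by simp [Rep.cjk, mul, hkn]) hM.2
      rw [hfix kσ hks, mul_inv_cancel_right]
      exact hmod
    rwa [hf.fixed_unique f hffix _ e hfixk] at hmod

end CfsgLib.ExtraNine
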