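import Cfsg.Agent.ExtraNine.Kinds

/-!
# The contradiction in the case `2 ⊗ 4`
-/

set_option autoImplicit false
set_option linter.style.haveILetI false
set_option maxRecDepth 100000
set_option synthInstance.maxSize 100000

namespace CfsgLib.ExtraNine

universe u v

variable {G : Type u} [Group G] {L : Type v} [Group L] {S : Shape G L}

open Shape

theorem local_facts :
    (∀ m, m < 256 → app mT m ^^^ m = 1 → bv m 4 = 0 ∧ bv m 2 = 1) ∧
    (∀ x, x < 16 → app mT (16 * x) ^^^ (16 * x) = x) ∧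
    (∀ x, x < 16 → x ≠ 0 → 1 ≤ x) ∧
    (∀ f ∈ repP.fix ++ repR.fix, f ≠ one8) ∧
    (∀ x ∈ [0, 4, 8, 12], x ∈ repP.es') ∧
    app (mul mC mC) 65 < 256 ∧ app mD1 1 = 2 ∧ app mG 1 = 4 ∧ app mG 2 = 8 ∧
    (∀ M ∈ [mC, mul mC mC, mD1, mul mD1 mD1, mG, mT, fBoth, fRank, fTrans], ∀ v ∈ M, v < 256) ∧
    mul mD1 mT = mul mT mD1 ∧ mul (mul mD1 mD1) (mul mD1 mD1) = mD1 := by
  decide +kernel

namespace Pair

variable [Finite G] (p : Pair S)

omit [Finite G] in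
/-- Moving a pair by an element of `L`. -/
theorem transport (σ : L) : ∃ p' : Pair S, S.pr p'.s = S.act σ (S.pr p.s) := by
  obtain ⟨m, rfl⟩ := S.ρ_surj σ
  exact ⟨p.conj m, by rw [conj_s, act_pr m p.s_mem]⟩

/-- Moving a pair by an element of `L`, with its subspace. -/
theorem transport' (σ : L) : ∃ p' : Pair S, S.pr p'.s = S.act σ (S.pr p.s) ∧
    ∀ v, S.act σ v ∈ p'.Eb ↔ v ∈ p.Eb := by
  obtain ⟨m, rfl⟩ := S.ρ_surj σ
  exact ⟨p.conj m, by rw [conj_s, act_pr m p.s_mem], p.conj_Eb m⟩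

/-- Any element of `Q` over `s̄` is the involution of a pair with the same subspace. -/
theorem retarget {x : G} (hx : x ∈ S.Q) (h : S.pr x = S.pr p.s) :
    ∃ p' : Pair S, p'.s = x ∧ ∀ v, v ∈ p'.Eb ↔ v ∈ p.Eb := by
  rcases (pr_eq_iff hx p.s_mem).mp h with e | e
  · exact ⟨p, e.symm, fun _ => Iff.rfl⟩
  · obtain ⟨q, hq, hqs⟩ := S.sub.exists_not_commute p.data.subP.ne_one p.ne
    refine ⟨p.conj ⟨q, S.Q_le hq⟩, ?_, fun v => ?_⟩
    · rw [conj_s, e]; exact S.sub.conj_of_not_commute hq p.s_mem hqs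
    · have h1 : S.ρ ⟨q, S.Q_le hq⟩ = 1 := (S.ρ_ker _).mpr hq
      have := p.conj_Eb ⟨q, S.Q_le hq⟩ v
      rwa [h1, act_one] at this

end Pair

theorem mod_inv (F : Frame S) {σ : L} {M : List ℕ} (hM : Mod F.e σ M) {a : ℕ} (ha : a < 256) :
    S.act σ⁻¹ (psi F.e (app M a)) = psi F.e a := by
  rw [← hM a ha, act_inv_act]

/-- Every pair has `|Q ∩ P| = 32`. -/
theorem card_Eb_eq [Finite G] (F : Frame S) (p : Pair S) : Nat.card p.Eb = 16 := by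
  obtain ⟨n, hn, hp⟩ := F.surj (S.pr p.s)
  have hn0 : n ≠ 0 := fun e => p.pr_s_ne (by rw [← hp, e, psi_zero])
  have hq : qv n = 0 := F.eq_zero_of_q hn (by rw [hp]; exact p.q_s)
  have key : ∀ r : Rep, RepOK F r → n ∈ orbit r.s → Nat.card p.Eb = 16 := by
    intro r ok hr
    obtain ⟨τ, hτ⟩ := F.reach_all ok.facts.s_mem.1 hr
    obtain ⟨p', hp', hiff⟩ := p.transport' τ⁻¹
    rw [← hp, ← hτ, act_inv_act] at hp'
    obtain ⟨f, res⟩ := exists_res F ok p' hp'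
    rw [← res.card_Eb]
    exact Nat.card_congr
      { toFun := fun v => ⟨S.act τ⁻¹ v, (hiff _).mpr v.2⟩
        invFun := fun w => ⟨S.act τ w, (hiff _).mp (by rw [act_inv_act]; exact w.2)⟩
        left_inv := fun v => Subtype.ext (by
          show S.act τ (S.act τ⁻¹ (v : S.Vec)) = v
          rw [← act_mul, mul_inv_cancel, act_one])
        right_inv := fun w => Subtype.ext (act_inv_act τ _) }
  rcases orbits.1 n hn hn0 hq with h | h
  exacts [key repP (repOK_P F) h, key repR (repOK_R F) h]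

/-- The involution `y` of `P` attached to a second conjugate `l` in `Q`. -/
structure YData [Finite G] (F : Frame S) (p pl : Pair S) (f : List ℕ) where
  /-- the exchanging element -/
  h : G
  hz : h * S.z * h⁻¹ = p.s
  hs : h * p.s * h⁻¹ = S.z
  hQP : ∀ x ∈ S.Q, h * x * h⁻¹ ∈ p.P
  hPQ : ∀ x ∈ p.P, h * x * h⁻¹ ∈ S.Q
  hE : ∀ x ∈ S.Q ⊓ p.P, h * x * h⁻¹ ∈ S.Q ⊓ p.P ∧
      (S.pr (h * x * h⁻¹) = S.pr x ∨ S.pr (h * x * h⁻¹) = S.pr x + S.pr p.s)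
  yz : h * pl.s * h⁻¹ * S.z = S.z * (h * pl.s * h⁻¹)
  ymod : Mod F.e (S.ρ ⟨h * pl.s * h⁻¹, S.mem_C yz⟩) f
  z_not : ¬ S.Mem (h * pl.g) S.z
  notQ : h * pl.s * h⁻¹ ∉ S.Q

namespace YData

variable [Finite G] {F : Frame S} {p pl : Pair S} {f : List ℕ} (Y : YData F p pl f)

/-- The involution. -/
def y : G := Y.h * pl.s * Y.h⁻¹

/-- `Q ∩ Q_y`. -/
def InD (d : G) : Prop := d ∈ S.Q ∧ S.Mem (Y.h * pl.g) d

theorem y_eq : Y.y = Y.h * pl.g * S.z * (Y.h * pl.g)⁻¹ := by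
  simp [y, Pair.s, mul_assoc]

theorem D_one : Y.InD 1 := ⟨S.Q.one_mem, by simp [Mem]⟩

theorem D_mul {a b : G} (ha : Y.InD a) (hb : Y.InD b) : Y.InD (a * b) := by
  refine ⟨S.Q.mul_mem ha.1 hb.1, ?_⟩
  have := S.Q.mul_mem ha.2 hb.2
  unfold Mem at *
  simpa [mul_assoc] using this

theorem D_inv {a : G} (ha : Y.InD a) : Y.InD a⁻¹ := by
  refine ⟨S.Q.inv_mem ha.1, ?_⟩
  have := S.Q.inv_mem ha.2
  unfold Mem at *
  simpa [mul_assoc] using this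

theorem D_sq {d : G} (hd : Y.InD d) : d * d = 1 := by
  rcases S.sub.sq_eq hd.1 with e | e
  · exact e
  · exact absurd (e ▸ (Y.D_mul hd hd).2) Y.z_not

theorem D_inj {a b : G} (ha : Y.InD a) (hb : Y.InD b) (h : S.pr a = S.pr b) : a = b := by
  rcases (pr_eq_iff ha.1 hb.1).mp h with e | e
  · exact e
  · refine absurd ?_ Y.z_not
    have := (Y.D_mul ha (Y.D_inv hb)).2
    rwa [e, mul_inv_cancel_right] at this

theorem D_comm {d : G} (hd : Y.InD d) : d * Y.y = Y.y * d := by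
  have h := S.sub.z_comm hd.2
  rw [y_eq]
  calc d * (Y.h * pl.g * S.z * (Y.h * pl.g)⁻¹)
      = Y.h * pl.g * ((Y.h * pl.g)⁻¹ * d * (Y.h * pl.g) * S.z) * (Y.h * pl.g)⁻¹ := by group
    _ = Y.h * pl.g * (S.z * ((Y.h * pl.g)⁻¹ * d * (Y.h * pl.g))) * (Y.h * pl.g)⁻¹ := by rw [h]
    _ = _ := by group

theorem y_sq : Y.y * Y.y = 1 := by
  have h := pl.s_sq
  unfold y
  calc Y.h * pl.s * Y.h⁻¹ * (Y.h * pl.s * Y.h⁻¹) = Y.h * (pl.s * pl.s) * Y.h⁻¹ := by group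
    _ = 1 := by rw [h]; group

theorem y_inv : Y.y⁻¹ = Y.y := inv_eq_of_mul_eq_one_right Y.y_sq

theorem yzc : Y.y * S.z = S.z * Y.y := Y.yz

theorem pr_conj {x : G} (hx : x ∈ S.Q) {n : ℕ} (hn : n < 256) (h : S.pr x = psi F.e n) :
    Y.y * x * Y.y⁻¹ ∈ S.Q ∧ S.pr (Y.y * x * Y.y⁻¹) = psi F.e (app f n) := by
  refine ⟨S.sub.conj_mem Y.yzc hx, ?_⟩
  have := act_pr ⟨Y.y, S.mem_C Y.yzc⟩ hx
  rw [h] at this
  exact this.symm.trans (Y.ymod n hn)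

theorem D_fixed {d : G} (hd : Y.InD d) (hf : ∀ v ∈ f, v < 256) {n : ℕ} (hn : n < 256)
    (h : S.pr d = psi F.e n) : app f n = n ∧ qv n = 0 := by
  refine ⟨F.psi_inj (app_lt f hf n) hn ?_, F.eq_zero_of_q hn ?_⟩
  · rw [← (Y.pr_conj hd.1 hn h).2, ← h]
    congr 1
    exact mul_inv_eq_iff_eq_mul.mpr (Y.D_comm hd).symm
  · rw [← h, q_pr hd.1, Y.D_sq hd, zc_one]

theorem map_D {x : G} (hx : x ∈ p.P) (hx' : x ∈ pl.P) : Y.InD (Y.h * x * Y.h⁻¹) :=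
  ⟨Y.hPQ x hx, (S.mem_mul_iff _ _ _).mpr (pl.mem_P.mp hx')⟩

theorem s_D : Y.InD p.s := by
  refine ⟨p.s_mem, ?_⟩
  rw [← Y.hz]
  exact (S.mem_mul_iff _ _ _).mpr (pl.mem_P.mp pl.data.z_mem)

/-- Elements of `Q ∩ P ∩ Q_l` give elements of `D`. -/
theorem lower {n : ℕ} (h1 : psi F.e n ∈ p.Eb) (h2 : psi F.e n ∈ pl.Eb) :
    ∃ d, Y.InD d ∧ S.pr d = psi F.e n := by
  obtain ⟨x, hx, hxe⟩ := h1
  rw [← hxe, pl.pr_mem_Eb hx.1] at h2
  have hd := Y.map_D hx.2 h2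
  rcases (Y.hE x hx).2 with e | e
  · exact ⟨_, hd, e.trans hxe⟩
  · refine ⟨_, Y.D_mul hd Y.s_D, ?_⟩
    rw [pr_mul hd.1 p.s_mem, e, add_assoc, add_self', add_zero, hxe]

/-- An element of `L` commuting with `f` is induced by an element moving `y` only by `z`; the
square of that element fixes `y`. -/
theorem fix_lift {σ : L} {M : List ℕ} (hM : Mod F.e σ M) (hl : ∀ v ∈ M, v < 256)
    (hn : M.length = 8) (hf : ∀ v ∈ f, v < 256) (hfn : f.length = 8) (hc : mul M f = mul f M)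
    (hC : ∀ n, n < 256 → app f n = n → n ∈ spanList (one8.map fun i => app f i ^^^ i)) :
    ∃ n : ↥(Subgroup.centralizer ({S.z} : Set G)), S.ρ n = σ * σ ∧
      (n : G) * Y.y * (n : G)⁻¹ = Y.y := by
  obtain ⟨m, rfl⟩ := S.ρ_surj σ
  obtain ⟨v, hv⟩ : ∃ v, v = Y.y⁻¹ * ((m : G) * Y.y * (m : G)⁻¹) := ⟨_, rfl⟩
  set yC : ↥(Subgroup.centralizer ({S.z} : Set G)) := ⟨Y.y, S.mem_C Y.yzc⟩
  have hmy : (m : G) * Y.y * (m : G)⁻¹ = Y.y * v := by rw [hv]; group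
  have hmul : ∀ {A : List ℕ}, (∀ v ∈ A, v < 256) → ∀ B : List ℕ, ∀ v ∈ mul A B, v < 256 :=
    fun {A} hA B v hv => by
      obtain ⟨x, -, rfl⟩ := List.mem_map.mp hv
      exact app_lt _ hA _
  have hcomm : S.ρ m * S.ρ yC = S.ρ yC * S.ρ m :=
    F.act_ext (mod_mul hM Y.ymod hf) (hc ▸ mod_mul Y.ymod hM hl)
  have hvQ : v ∈ S.Q := by
    have := (S.ρ_ker (yC⁻¹ * (m * yC * m⁻¹))).mp (by
      rw [map_mul, map_inv, map_mul, map_mul, map_inv, hcomm, mul_inv_cancel_right,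
        inv_mul_cancel])
    rw [hv]
    simpa [yC] using this
  have hvv : Y.y * v * Y.y⁻¹ = v⁻¹ := by
    have h1 : (Y.y * v) * (Y.y * v) = 1 := by
      rw [← hmy, show (m : G) * Y.y * (m : G)⁻¹ * ((m : G) * Y.y * (m : G)⁻¹) =
        (m : G) * (Y.y * Y.y) * (m : G)⁻¹ by group, Y.y_sq]
      group
    rw [Y.y_inv]
    exact eq_inv_of_mul_eq_one_left (by simpa [mul_assoc] using h1)
  obtain ⟨k, hk, hkv⟩ := F.surj (S.pr v)
  have hfix : app f k = k := by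
    refine F.psi_inj (app_lt f hf k) hk ?_
    rw [← (Y.pr_conj hvQ hk hkv.symm).2, hvv, pr_inv hvQ, hkv]
  -- a correction by `Q`
  have key : k < 256 ∧ ∃ a, a < 256 ∧ app f a ^^^ a = k := by
    refine spanList_induction (fun k => k < 256 ∧ ∃ a, a < 256 ∧ app f a ^^^ a = k)
      ⟨by norm_num, 0, by norm_num, by rw [app_zero]; rfl⟩ ?_ _ ?_ k (hC k hk hfix)
    · rintro a b ⟨ha, a', ha', rfl⟩ ⟨hb, b', hb', rfl⟩
      exact ⟨Nat.xor_lt_two_pow (n := 8) ha hb, a' ^^^ b', Nat.xor_lt_two_pow (n := 8) ha' hb',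
        by rw [app_xor]; ac_rfl⟩
    · intro x hx
      obtain ⟨i, hi, rfl⟩ := List.mem_map.mp hx
      have hi' : i < 256 := (show ∀ i ∈ one8, i < 256 by decide) i hi
      exact ⟨Nat.xor_lt_two_pow (n := 8) (app_lt f hf i) hi', i, hi', rfl⟩
  obtain ⟨-, a, ha, hak⟩ := key
  obtain ⟨q, hq, hqa⟩ := pr_surj (psi F.e a)
  obtain ⟨w, hw⟩ : ∃ w, w = Y.y⁻¹ * (q * Y.y * q⁻¹) := ⟨_, rfl⟩
  obtain ⟨hqy, hqy'⟩ := Y.pr_conj hq ha hqa
  have hwQ : w ∈ S.Q := by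
    rw [hw, show Y.y⁻¹ * (q * Y.y * q⁻¹) = (Y.y⁻¹ * q * Y.y⁻¹⁻¹) * q⁻¹ by group, Y.y_inv]
    exact S.Q.mul_mem hqy (S.Q.inv_mem hq)
  have hwpr : S.pr w = S.pr v := by
    rw [hw, show Y.y⁻¹ * (q * Y.y * q⁻¹) = (Y.y⁻¹ * q * Y.y⁻¹⁻¹) * q⁻¹ by group, Y.y_inv,
      pr_mul hqy (S.Q.inv_mem hq), pr_inv hq, hqy', hqa, ← psi_xor, hak, hkv]
  obtain ⟨n0, hn0ρ, hn0⟩ : ∃ n0 : ↥(Subgroup.centralizer ({S.z} : Set G)), S.ρ n0 = S.ρ m ∧
      ((n0 : G) * Y.y * (n0 : G)⁻¹ = Y.y ∨ (n0 : G) * Y.y * (n0 : G)⁻¹ = S.z * Y.y) := by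
    refine ⟨⟨q, S.Q_le hq⟩ * m, by rw [map_mul, (S.ρ_ker ⟨q, _⟩).mpr hq, one_mul], ?_⟩
    have e : q * (m : G) * Y.y * (q * (m : G))⁻¹ = Y.y * (w * (q * v * q⁻¹)) := by
      rw [show q * (m : G) * Y.y * (q * (m : G))⁻¹ = q * ((m : G) * Y.y * (m : G)⁻¹) * q⁻¹ by group,
        hmy, hw]
      group
    have hqv : q * v * q⁻¹ ∈ S.Q := S.Q.mul_mem (S.Q.mul_mem hq hvQ) (S.Q.inv_mem hq)
    have hz : S.pr (w * (q * v * q⁻¹)) = 0 := by
      rw [pr_mul hwQ hqv, pr_mul (S.Q.mul_mem hq hvQ) (S.Q.inv_mem hq), pr_mul hq hvQ, pr_inv hq,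
        hwpr, add_comm (S.pr q) (S.pr v), add_assoc, add_self', add_zero, add_self']
    show q * (m : G) * Y.y * (q * (m : G))⁻¹ = Y.y ∨ q * (m : G) * Y.y * (q * (m : G))⁻¹ = S.z * Y.y
    rcases (pr_eq_zero (S.Q.mul_mem hwQ hqv)).mp hz with h | h <;> rw [e, h]
    · exact Or.inl (mul_one _)
    · exact Or.inr Y.yzc
  refine ⟨n0 * n0, by rw [map_mul, hn0ρ], ?_⟩
  show (n0 : G) * n0 * Y.y * ((n0 : G) * n0)⁻¹ = Y.y
  rw [show (n0 : G) * n0 * Y.y * ((n0 : G) * n0)⁻¹ =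
    (n0 : G) * ((n0 : G) * Y.y * (n0 : G)⁻¹) * (n0 : G)⁻¹ by group]
  rcases hn0 with h | h <;> rw [h]
  · exact h
  · rw [show (n0 : G) * (S.z * Y.y) * (n0 : G)⁻¹ =
      (n0 : G) * S.z * (n0 : G)⁻¹ * ((n0 : G) * Y.y * (n0 : G)⁻¹) by group,
      mul_inv_eq_iff_eq_mul.mpr (S.comm_C n0), h, ← mul_assoc, S.sub.mul_self, one_mul]

/-- `D` is invariant under the fixers of `y`. -/
theorem D_conj {n : ↥(Subgroup.centralizer ({S.z} : Set G))}
    (hn : (n : G) * Y.y * (n : G)⁻¹ = Y.y) {d : G} (hd : Y.InD d) :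
    Y.InD ((n : G) * d * (n : G)⁻¹) := by
  refine ⟨S.conj_mem' n hd.1, (S.mem_congr ?_ _).mp ((S.mem_mul_iff (n : G) (Y.h * pl.g) d).mpr hd.2)⟩
  rw [← Y.y_eq, show (n : G) * (Y.h * pl.g) * S.z * ((n : G) * (Y.h * pl.g))⁻¹ =
    (n : G) * (Y.h * pl.g * S.z * (Y.h * pl.g)⁻¹) * (n : G)⁻¹ by group, ← Y.y_eq, hn]

end YData

/-- The involution `y` exists, with image the fixed element. -/
theorem exists_ydata [Finite G] (F : Frame S) {r : Rep} (ok : RepOK F r) {p pl : Pair S}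
    (hp : S.pr p.s = psi F.e r.s) (hpl : S.pr pl.s = psi F.e r.w) {f : List ℕ}
    (res : Res F p r f) : Nonempty (YData F p pl f) := by
  obtain ⟨h, hz, hs, hQP, hPQ, hE⟩ := p.exists_swap
  obtain ⟨hw256, -, hwperp, hwnot⟩ := ok.facts.w_mem
  have hls : pl.s * p.s = p.s * pl.s :=
    (p.B_s_iff pl.s_mem).mp (by rw [hp, hpl]; exact F.B_zero_of hw256 ok.facts.s_mem.1 hwperp)
  have hlP : pl.s ∉ p.P := fun h => hwnot ((res.Eb_iff _ hw256).mp (hpl ▸ (p.pr_mem_Eb pl.s_mem).mpr h))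
  have yz : h * pl.s * h⁻¹ * S.z = S.z * (h * pl.s * h⁻¹) := by
    rw [← hs, show h * pl.s * h⁻¹ * (h * p.s * h⁻¹) = h * (pl.s * p.s) * h⁻¹ by group, hls]
    group
  have heq : p.P.map (MulAut.conj h).toMonoidHom = S.Q := by
    refine Subgroup.eq_of_le_of_card_ge ?_ ?_
    · rintro _ ⟨x, hx, rfl⟩
      exact hPQ x hx
    · rw [Subgroup.card_map_of_injective (MulAut.conj h).injective, Pair.P,
        Subgroup.card_map_of_injective (MulAut.conj p.g).injective]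
  have hback : ∀ x ∈ S.Q, h⁻¹ * x * h ∈ p.P := by
    intro x hx
    rw [← heq] at hx
    obtain ⟨w, hw, rfl⟩ := hx
    simpa [mul_assoc] using hw
  have notQ : h * pl.s * h⁻¹ ∉ S.Q := fun hy => hlP (by
    simpa [mul_assoc] using hback _ hy)
  set yC : ↥(Subgroup.centralizer ({S.z} : Set G)) := ⟨h * pl.s * h⁻¹, S.mem_C yz⟩
  have ymod : Mod F.e (S.ρ yC) f := by
    refine res.unique _ ⟨yC, hQP _ pl.s_mem, rfl⟩ (fun e => notQ ((S.ρ_ker yC).mp e)) ?_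
    intro τ hτ
    obtain ⟨n, rfl, hns⟩ := p.exists_lift hτ
    obtain ⟨n', hn'⟩ : ∃ n', n' = h⁻¹ * n * h := ⟨_, rfl⟩
    have hn's : n' * p.s = p.s * n' := by
      rw [hn', ← hz]
      calc h⁻¹ * n * h * (h * S.z * h⁻¹) = h⁻¹ * n * (h * (h * S.z * h⁻¹) * h⁻¹) * h := by group
        _ = h⁻¹ * (n * S.z) * h := by rw [hz, hs]; group
        _ = h⁻¹ * (h * (h * S.z * h⁻¹) * h⁻¹) * n * h := by rw [S.comm_C n, hz, hs]; group
        _ = h * S.z * h⁻¹ * (h⁻¹ * n * h) := by group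
    have hn'z : n' * S.z = S.z * n' := by
      rw [hn']
      calc h⁻¹ * n * h * S.z = h⁻¹ * n * (h * S.z * h⁻¹) * h := by group
        _ = h⁻¹ * ((n : G) * p.s) * h := by rw [hz]; group
        _ = h⁻¹ * p.s * n * h := by rw [hns]; group
        _ = S.z * (h⁻¹ * n * h) := by rw [← hz]; group
    set nC : ↥(Subgroup.centralizer ({S.z} : Set G)) := ⟨n', S.mem_C hn'z⟩
    have hfix : S.act (S.ρ nC) (S.pr p.s) = S.pr p.s := by
      rw [act_pr nC p.s_mem, mul_inv_eq_iff_eq_mul.mpr hn's]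
    rw [hp] at hfix
    obtain ⟨M, hMs, hl, -, hM⟩ := F.exists_stab ok.facts.s_mem.1 hfix
    have hw1 : S.pr (n' * pl.s * n'⁻¹ * pl.s⁻¹) ∈ p.Eb := by
      rw [pr_mul (S.conj_mem' nC pl.s_mem) (S.Q.inv_mem pl.s_mem), pr_inv pl.s_mem,
        show S.pr (n' * pl.s * n'⁻¹) = psi F.e (app M r.w) by
          rw [← hM r.w hw256, ← hpl, act_pr nC pl.s_mem], hpl, ← psi_xor]
      exact (res.Eb_iff _ (Nat.xor_lt_two_pow (n := 8) (app_lt M hl _) hw256)).mpr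
        (ok.facts.w_fixed M hMs)
    have hwQ : n' * pl.s * n'⁻¹ * pl.s⁻¹ ∈ S.Q :=
      S.Q.mul_mem (S.conj_mem' nC pl.s_mem) (S.Q.inv_mem pl.s_mem)
    have h3 := hPQ _ ((p.pr_mem_Eb hwQ).mp hw1)
    refine Pair.ρ_commute ?_
    rw [hn'] at h3
    show (n : G) * (h * pl.s * h⁻¹) * (n : G)⁻¹ * (h * pl.s * h⁻¹)⁻¹ ∈ S.Q
    simpa [mul_assoc] using h3
  refine ⟨⟨h, hz, hs, hQP, hPQ, hE, yz, ymod, ?_, notQ⟩⟩
  intro hmem
  have e : h * pl.g * S.z * (h * pl.g)⁻¹ = h * pl.s * h⁻¹ := by simp [Pair.s, mul_assoc]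
  have hne : (1 : G) * S.z * (1 : G)⁻¹ ≠ h * pl.g * S.z * (h * pl.g)⁻¹ := by
    rw [e]
    intro e'
    exact notQ (e' ▸ by simpa using S.sub.z_mem)
  have := S.mem_symm hne (by simpa using hmem)
  rw [S.mem_one_iff, e] at this
  exact notQ this

/-- The subspace of the second conjugate. -/
theorem second_Eb [Finite G] (F : Frame S) {r : Rep} (ok : RepOK F r) {pl : Pair S}
    (hpl : S.pr pl.s = psi F.e r.w) (hes : ∀ v ∈ r.es, v < 256) :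
    ∀ x ∈ r.es', psi F.e (app r.m x) ∈ pl.Eb := by
  intro x hx
  obtain ⟨σm, hm⟩ := ok.modm
  obtain ⟨p2, hp2, hiff⟩ := pl.transport' σm⁻¹
  rw [hpl, ← ok.facts.w_mem.2.1, mod_inv F hm ok.facts.s_mem.1] at hp2
  obtain ⟨f, res⟩ := exists_res F ok p2 hp2
  have hx256 : x < 256 := spanList_lt' hes hx
  rw [← hiff, mod_inv F hm hx256]
  exact (res.Eb_iff x hx256).mpr hx

/-! ### The rank two case -/

theorem false_of_rank [Finite G] (F : Frame S) (p : Pair S) (hp : S.pr p.s = psi F.e repR.s) :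
    False := by
  obtain ⟨-, -, -, -, -, hlt65, -, -, -, hlts, -, -⟩ := local_facts
  obtain ⟨f, res⟩ := exists_res F (repOK_R F) p hp
  obtain rfl : f = fRank := List.mem_singleton.mp res.f_mem
  have okR := repOK_R F
  obtain ⟨σm, hm⟩ := okR.modm
  obtain ⟨pl, hpl, -⟩ := p.transport' σm
  rw [hp, hm _ okR.facts.s_mem.1, okR.facts.w_mem.2.1] at hpl
  obtain ⟨Y⟩ := exists_ydata F okR hp hpl res
  obtain ⟨hcf, hces, h65a, -⟩ := c_rank
  have hlC := hlts mC (by simp)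
  have hlf := hlts fRank (by simp)
  have hlCC := hlts (mul mC mC) (by simp)
  obtain ⟨n, hnρ, hny⟩ := Y.fix_lift F.modC hlC rfl hlf rfl hcf rank_fixed
  have hmodn : Mod F.e (S.ρ n) (mul mC mC) := by rw [hnρ]; exact mod_mul F.modC F.modC hlC
  have hd := Y.D_conj hny Y.s_D
  obtain ⟨d, hdef⟩ : ∃ d, d = (n : G) * p.s * (n : G)⁻¹ := ⟨_, rfl⟩
  rw [← hdef] at hd
  set pd := p.conj n
  have hpd : pd.s = d := by rw [hdef]; exact p.conj_s n
  have hEbd : ∀ v, v ∈ p.Eb → v ∈ pd.Eb := by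
    intro v hv
    obtain ⟨a, ha, rfl⟩ := F.surj v
    obtain ⟨w, hw, hwa⟩ : ∃ w, w ∈ repR.es' ∧ app (mul mC mC) w = a :=
      pre a ((res.Eb_iff a ha).mp hv)
    have hw256 : w < 256 := spanList_lt' (by decide +kernel) hw
    rw [← hwa, ← hmodn w hw256]
    exact (p.conj_Eb n _).mpr ((res.Eb_iff w hw256).mpr hw)
  have hsub : S.Q ⊓ p.P ≤ p.P ⊓ pd.P := fun x hx =>
    ⟨hx.2, (pd.pr_mem_Eb hx.1).mp (hEbd _ ⟨x, hx, rfl⟩)⟩
  -- `P ∩ P_d` has 32 elements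
  have hdP : d ∈ p.P := by
    have h1 : S.pr d ∈ p.Eb := by
      rw [hdef, ← act_pr n p.s_mem, hp, hmodn _ okR.facts.s_mem.1]
      exact (res.Eb_iff _ hlt65).mpr cc65
    exact (p.pr_mem_Eb hd.1).mp h1
  have hne : d ≠ p.s := by
    intro e
    apply h65a
    refine F.psi_inj hlt65 (by norm_num) ?_
    have h1 := hmodn 65 (by norm_num)
    rw [show psi F.e 65 = S.pr p.s from hp.symm, act_pr n p.s_mem, ← hdef, e] at h1
    rw [← h1, hp]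
    rfl
  let p'' : Pair S :=
    { g := p.g⁻¹ * pd.g
      mem := by
        rw [show p.g⁻¹ * pd.g * S.z * (p.g⁻¹ * pd.g)⁻¹ = p.g⁻¹ * pd.s * p.g by
          simp [Pair.s, mul_assoc], hpd]
        exact p.mem_P.mp hdP
      ne := by
        rw [show p.g⁻¹ * pd.g * S.z * (p.g⁻¹ * pd.g)⁻¹ = p.g⁻¹ * pd.s * p.g by
          simp [Pair.s, mul_assoc], hpd]
        intro e
        apply hne
        calc d = p.g * (p.g⁻¹ * d * p.g) * p.g⁻¹ := by group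
          _ = p.s := by rw [e]; rfl }
  have hcard : Nat.card ↥(p.P ⊓ pd.P) = 32 := by
    rw [show (32 : ℕ) = Nat.card ↥(S.Q ⊓ p''.P) by rw [p''.card_inf, card_Eb_eq F p'']]
    refine Nat.card_congr
      { toFun := fun x => ⟨p.g⁻¹ * x * p.g, p.mem_P.mp x.2.1, ?_⟩
        invFun := fun x => ⟨p.g * x * p.g⁻¹, ?_, ?_⟩
        left_inv := fun x => Subtype.ext (by simp [mul_assoc])
        right_inv := fun x => Subtype.ext (by simp [mul_assoc]) }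
    · refine p''.mem_P.mpr ?_
      have := pd.mem_P.mp x.2.2
      unfold Mem at *
      simpa [p'', mul_assoc] using this
    · refine p.mem_P.mpr ?_
      unfold Mem
      simpa [mul_assoc] using x.2.1
    · refine pd.mem_P.mpr ?_
      have := p''.mem_P.mp x.2.2
      unfold Mem at *
      simpa [p'', mul_assoc] using this
  have heq : S.Q ⊓ p.P = p.P ⊓ pd.P := by
    refine Subgroup.eq_of_le_of_card_ge hsub ?_
    rw [hcard, p.card_inf, card_Eb_eq F p]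
  have hy1 : Y.y ∈ p.P := Y.hQP _ pl.s_mem
  have hy2 : Y.y ∈ pd.P := by
    have hne' : pd.g * S.z * pd.g⁻¹ ≠ Y.h * pl.g * S.z * (Y.h * pl.g)⁻¹ := by
      rw [← Y.y_eq]
      intro e
      exact Y.notQ (show Y.y ∈ S.Q from e ▸ (show pd.s ∈ S.Q from pd.s_mem))
    have := S.mem_symm hne' (show S.Mem (Y.h * pl.g) pd.s from hpd ▸ hd.2)
    rw [← Y.y_eq] at this
    exact pd.mem_P.mpr this
  have : Y.y ∈ S.Q ⊓ p.P := heq ▸ ⟨hy1, hy2⟩
  exact Y.notQ this.1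
where
  cc65 : app (mul mC mC) 65 ∈ repR.es' := by decide +kernel
  pre : ∀ a ∈ repR.es', ∃ w, w ∈ repR.es' ∧ app (mul mC mC) w = a := by decide +kernel

/-! ### The pure case -/

/-- The transvection cannot be the fixed element. -/
theorem false_of_trans [Finite G] (F : Frame S) {p pl : Pair S} (hp : S.pr p.s = psi F.e 1)
    (hpl : S.pr pl.s = psi F.e 2) (res : Res F p repP fTrans) (Y : YData F p pl fTrans) :
    False := by
  have hlts := local_facts.2.2.2.2.2.2.2.2.2.1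
  obtain ⟨hwb, v, hv, hv0, hv1⟩ := trans_facts
  obtain ⟨σ, hσ, hσv⟩ := res.exists_v4 v hv
  obtain ⟨m, hm, rfl⟩ := p.mem_A.mp hσ
  have hlv : ∀ x ∈ v, x < 256 := ((repOK_P F).lt v (by simp [Rep.cand, hv])).1
  have hlf := hlts fTrans (by simp)
  obtain ⟨c, hc⟩ : ∃ c, c = Y.h * m * Y.h⁻¹ := ⟨_, rfl⟩
  have hcQ : c ∈ S.Q := hc ▸ Y.hPQ _ hm
  have hcs : c * p.s = p.s * c := by
    rw [hc, ← Y.hz, show Y.h * m * Y.h⁻¹ * (Y.h * S.z * Y.h⁻¹) = Y.h * ((m : G) * S.z) * Y.h⁻¹ by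
      group, S.comm_C m]
    group
  obtain ⟨a, ha, hca⟩ := F.surj (S.pr c)
  have hperp : bv a 1 = 0 := F.eq_zero_of_B ha (by norm_num)
    (by rw [hca, ← hp]; exact (p.B_s_iff hcQ).mpr hcs)
  have hspan : app fTrans a ^^^ a = 0 ∨ app fTrans a ^^^ a = 1 := by
    refine spanList_induction (fun n => app fTrans n ^^^ n = 0 ∨ app fTrans n ^^^ n = 1) ?_ ?_
      repP.wb hwb a (factsP.wb_span a ha hperp)
    · left; rw [app_zero]; rfl
    · intro x y hx hy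
      have e : app fTrans (x ^^^ y) ^^^ (x ^^^ y) =
          (app fTrans x ^^^ x) ^^^ (app fTrans y ^^^ y) := by rw [app_xor]; ac_rfl
      rcases hx with hx | hx <;> rcases hy with hy | hy <;> rw [e, hx, hy] <;> simp
  obtain ⟨b, hb⟩ : ∃ b, b = Y.y * c * Y.y⁻¹ * c⁻¹ := ⟨_, rfl⟩
  obtain ⟨hq1, hq2⟩ := Y.pr_conj hcQ ha hca.symm
  have hbQ : b ∈ S.Q := hb ▸ S.Q.mul_mem hq1 (S.Q.inv_mem hcQ)
  have hbpr : S.pr b = psi F.e (app fTrans a ^^^ a) := by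
    rw [hb, pr_mul hq1 (S.Q.inv_mem hcQ), pr_inv hcQ, hq2, ← hca, psi_xor]
  have hb4 : b = 1 ∨ b = S.z ∨ b = p.s ∨ b = S.z * p.s := by
    rcases hspan with e | e <;> rw [e] at hbpr
    · rw [psi_zero] at hbpr
      rcases (pr_eq_zero hbQ).mp hbpr with e | e
      exacts [Or.inl e, Or.inr (Or.inl e)]
    · rw [← hp] at hbpr
      rcases (pr_eq_iff hbQ p.s_mem).mp hbpr with e | e
      exacts [Or.inr (Or.inr (Or.inl e)), Or.inr (Or.inr (Or.inr e))]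
  obtain ⟨w, hw⟩ : ∃ w, w = pl.s * m * pl.s⁻¹ * (m : G)⁻¹ := ⟨_, rfl⟩
  have hwb' : Y.h * w * Y.h⁻¹ = b := by
    rw [hb, hc, hw]; unfold YData.y; group
  have hw4 : w = 1 ∨ w = S.z ∨ w = p.s ∨ w = S.z * p.s := by
    have hback : ∀ u v : G, Y.h * u * Y.h⁻¹ = v → Y.h * w * Y.h⁻¹ = v → w = u :=
      fun u v h1 h2 => mul_left_cancel (mul_right_cancel (h2.trans h1.symm))
    rcases hb4 with e | e | e | e
    · exact Or.inl (hback 1 _ (by group) (hwb'.trans e))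
    · exact Or.inr (Or.inr (Or.inl (hback p.s _ Y.hs (hwb'.trans e))))
    · exact Or.inr (Or.inl (hback S.z _ Y.hz (hwb'.trans e)))
    · refine Or.inr (Or.inr (Or.inr (hback (S.z * p.s) _ ?_ (hwb'.trans e))))
      rw [show Y.h * (S.z * p.s) * Y.h⁻¹ = (Y.h * S.z * Y.h⁻¹) * (Y.h * p.s * Y.h⁻¹) by group,
        Y.hz, Y.hs, S.sub.z_comm p.s_mem]
  have hml : (m : G) * pl.s⁻¹ * (m : G)⁻¹ ∈ S.Q := S.conj_mem' m (S.Q.inv_mem pl.s_mem)
  have hwpr : S.pr w = psi F.e (app v 2 ^^^ 2) := by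
    have e : S.pr ((m : G) * pl.s⁻¹ * (m : G)⁻¹) = psi F.e (app v 2) := by
      rw [← act_pr m (S.Q.inv_mem pl.s_mem), pr_inv pl.s_mem, hpl, hσv 2 (by norm_num)]
    rw [hw, show pl.s * m * pl.s⁻¹ * (m : G)⁻¹ = pl.s * ((m : G) * pl.s⁻¹ * (m : G)⁻¹) by group,
      pr_mul pl.s_mem hml, hpl, e, psi_xor, add_comm]
  have hlt : app v 2 ^^^ 2 < 256 := Nat.xor_lt_two_pow (n := 8) (app_lt v hlv 2) (by norm_num)
  rcases hw4 with e | e | e | e <;> rw [e] at hwpr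
  · exact hv0 (F.inj _ hlt (hwpr.symm.trans pr_one))
  · exact hv0 (F.inj _ hlt (hwpr.symm.trans pr_z))
  · exact hv1 (F.psi_inj hlt (by norm_num) (hwpr.symm.trans hp))
  · rw [pr_mul S.sub.z_mem p.s_mem, pr_z, zero_add] at hwpr
    exact hv1 (F.psi_inj hlt (by norm_num) (hwpr.symm.trans hp))

/-- The lifts of `t8` in `D`. -/
theorem t8_lift [Finite G] (F : Frame S) {p pl : Pair S} {f : List ℕ}
    (hp : S.pr p.s = psi F.e 1) (hpl : S.pr pl.s = psi F.e 2) (res : Res F p repP f)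
    (Y : YData F p pl f) : ∀ x ∈ t8, ∃ d, Y.InD d ∧ S.pr d = psi F.e x := by
  intro x hx
  obtain ⟨a, ha, i, hi, rfl, hm⟩ := t8_sub x hx
  obtain ⟨b, hb, hba⟩ := List.mem_map.mp hm
  have ha256 : a < 256 := spanList_lt' (by decide +kernel) ha
  have h2 : psi F.e a ∈ pl.Eb := hba ▸ second_Eb F (repOK_P F) hpl (by decide) b hb
  obtain ⟨d, hd, hdpr⟩ := Y.lower ((res.Eb_iff a ha256).mpr ha) h2
  simp only [List.mem_cons, List.not_mem_nil, or_false] at hi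
  rcases hi with rfl | rfl
  · exact ⟨d, hd, by rw [hdpr, Nat.xor_zero]⟩
  · refine ⟨d * p.s, Y.D_mul hd Y.s_D, ?_⟩
    rw [pr_mul hd.1 p.s_mem, hdpr, hp, ← psi_xor]

/-- In the mixed case `P ∩ Q_l ⊆ Q`. -/
theorem inter_le [Finite G] (F : Frame S) {p pl : Pair S} (hp : S.pr p.s = psi F.e 1)
    (hpl : S.pr pl.s = psi F.e 2) (res : Res F p repP fBoth) (Y : YData F p pl fBoth) :
    p.P ⊓ pl.P ≤ S.Q := by
  classical
  have hlts := local_facts.2.2.2.2.2.2.2.2.2.1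
  -- at most eight elements
  have hmap : ∀ x : ↥(p.P ⊓ pl.P), ∃ k : Fin 8,
      S.pr (Y.h * x * Y.h⁻¹) = psi F.e (t8.getD k.1 0) := by
    intro x
    have hd := Y.map_D x.2.1 x.2.2
    obtain ⟨n, hn, hnd⟩ := F.surj (S.pr (Y.h * x * Y.h⁻¹))
    obtain ⟨h1, h2⟩ := Y.D_fixed hd (hlts fBoth (by simp)) hn hnd.symm
    obtain ⟨k, hk, hkn⟩ := List.mem_iff_getElem.mp (both_singular n hn h1 h2)
    refine ⟨⟨k, hk⟩, ?_⟩
    rw [← hnd, ← hkn, List.getD_eq_getElem]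
  choose g hg using hmap
  have hle : Nat.card ↥(p.P ⊓ pl.P) ≤ 8 := by
    have hinj : Function.Injective g := fun a b e => by
      have h := Y.D_inj (Y.map_D a.2.1 a.2.2) (Y.map_D b.2.1 b.2.2) (by rw [hg a, hg b, e])
      exact Subtype.ext (mul_left_cancel (mul_right_cancel h))
    simpa using Nat.card_le_card_of_injective g hinj
  -- at least eight elements of `Q`
  have hlow : ∀ k : Fin 4, ∃ x, x ∈ S.Q ⊓ (p.P ⊓ pl.P) ∧
      S.pr x = psi F.e ([0, 4, 8, 12].getD k.1 0) := by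
    intro k
    have hmem : [0, 4, 8, 12].getD k.1 0 ∈ [0, 4, 8, 12] := by revert k; decide
    obtain ⟨h1, h2⟩ := t8_int _ hmem
    obtain ⟨b, hb, hba⟩ := List.mem_map.mp h2
    obtain ⟨x, hx, hxe⟩ : psi F.e ([0, 4, 8, 12].getD k.1 0) ∈ p.Eb :=
      (res.Eb_iff _ (spanList_lt' (by decide +kernel) h1)).mpr h1
    refine ⟨x, ⟨hx.1, hx.2, (pl.pr_mem_Eb hx.1).mp ?_⟩, hxe⟩
    rw [hxe, ← hba]
    exact second_Eb F (repOK_P F) hpl (by decide) b hb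
  choose x hx hxe using hlow
  have hzmem : S.z ∈ S.Q ⊓ (p.P ⊓ pl.P) := ⟨S.sub.z_mem, p.data.z_mem, pl.data.z_mem⟩
  have hge : 8 ≤ Nat.card ↥(S.Q ⊓ (p.P ⊓ pl.P)) := by
    have hinj : Function.Injective fun r : Bool × Fin 4 =>
        (⟨(if r.1 then S.z else 1) * x r.2, mul_mem (by split <;>
          first | exact hzmem | exact one_mem _) (hx r.2)⟩ : ↥(S.Q ⊓ (p.P ⊓ pl.P))) := by
      rintro ⟨a, i⟩ ⟨b, j⟩ e
      have e1 := congrArg Subtype.val e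
      simp only at e1
      have e2 := congrArg S.pr e1
      rw [pr_mul (by split <;> simp [S.sub.z_mem, one_mem]) (hx i).1,
        pr_mul (by split <;> simp [S.sub.z_mem, one_mem]) (hx j).1, hxe, hxe] at e2
      have hij : [0, 4, 8, 12].getD i.1 0 = [0, 4, 8, 12].getD j.1 0 := by
        refine F.psi_inj (lt4 i) (lt4 j) ?_
        revert e2; split <;> split <;> simp
      have hij' : i = j := inj4 i j hij
      subst hij'
      have e4 := mul_right_cancel e1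
      cases a <;> cases b <;> simp at e4 ⊢
      · exact S.sub.ne_one e4.symm
      · exact S.sub.ne_one e4
    simpa [Nat.card_prod] using Nat.card_le_card_of_injective _ hinj
  have := Subgroup.eq_of_le_of_card_ge (inf_le_right : S.Q ⊓ (p.P ⊓ pl.P) ≤ p.P ⊓ pl.P) (by omega)
  exact this ▸ inf_le_left
where
  lt4 : ∀ i : Fin 4, [0, 4, 8, 12].getD i.1 0 < 256 := by decide
  inj4 : ∀ i j : Fin 4, [0, 4, 8, 12].getD i.1 0 = [0, 4, 8, 12].getD j.1 0 → i = j := by decide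

/-- The mixed element cannot be the fixed element for all pairs. -/
theorem false_of_both [Finite G] (F : Frame S) {p pl : Pair S} (hp : S.pr p.s = psi F.e 1)
    (hpl : S.pr pl.s = psi F.e 2) (res : Res F p repP fBoth) (Y : YData F p pl fBoth)
    (hall : ∀ p' : Pair S, S.pr p'.s = psi F.e 1 → Res F p' repP fBoth) : False := by
  obtain ⟨h4, h8, h4t, h8t⟩ := pair_transport
  obtain ⟨d1, hd1, hd1p⟩ := t8_lift F hp hpl res Y 4 h4t
  obtain ⟨d2, hd2, hd2p⟩ := t8_lift F hp hpl res Y 8 h8t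
  obtain ⟨m, hm⟩ := S.ρ_surj (S.ι F.t.g)
  have hmg : ∀ (q : Pair S) a, a < 256 → S.pr q.s = psi F.e a →
      S.pr (q.conj m).s = psi F.e (app mG a) := fun q a ha hq => by
    rw [Pair.conj_s, ← act_pr m q.s_mem, hm, hq, F.modG a ha]
  obtain ⟨P1, hP1, -⟩ := (p.conj m).retarget hd1.1 (by
    rw [hd1p, hmg p 1 (by norm_num) hp, show app mG 1 = 4 from h4])
  obtain ⟨P2, hP2, -⟩ := (pl.conj m).retarget hd2.1 (by
    rw [hd2p, hmg pl 2 (by norm_num) hpl, show app mG 2 = 8 from h8])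
  have hback : ∀ (q : Pair S) a, a < 256 → S.pr q.s = psi F.e (app mG a) →
      S.pr (q.conj m⁻¹).s = psi F.e a := fun q a ha hq => by
    rw [Pair.conj_s, ← act_pr m⁻¹ q.s_mem, map_inv, hm, hq, mod_inv F F.modG ha]
  have e1 : S.pr (P1.conj m⁻¹).s = psi F.e 1 :=
    hback P1 1 (by norm_num) (by rw [hP1, hd1p, show app mG 1 = 4 from h4])
  have e2 : S.pr (P2.conj m⁻¹).s = psi F.e 2 :=
    hback P2 2 (by norm_num) (by rw [hP2, hd2p, show app mG 2 = 8 from h8])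
  obtain ⟨Y'⟩ := exists_ydata F (repOK_P F) (r := repP) e1 e2 (hall _ e1)
  have hmem : ∀ q : Pair S, S.Mem (Y.h * pl.g) q.s → q.s ∈ S.Q → Y.y ∈ q.P := by
    intro q hq hqQ
    have hne' : q.g * S.z * q.g⁻¹ ≠ Y.h * pl.g * S.z * (Y.h * pl.g)⁻¹ := by
      rw [← Y.y_eq]
      intro e
      exact Y.notQ (show Y.y ∈ S.Q from e ▸ hqQ)
    have := S.mem_symm hne' hq
    rw [← Y.y_eq] at this
    exact q.mem_P.mpr this
  have hy1 : Y.y ∈ P1.P := hmem P1 (hP1 ▸ hd1.2) (hP1 ▸ hd1.1)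
  have hy2 : Y.y ∈ P2.P := hmem P2 (hP2 ▸ hd2.2) (hP2 ▸ hd2.1)
  have := inter_le F e1 e2 (hall _ e1) Y'
    ⟨(P1.conj_mem_P m⁻¹ Y.y).mpr hy1, (P2.conj_mem_P m⁻¹ Y.y).mpr hy2⟩
  refine Y.notQ ?_
  have h := S.conj_mem' m this
  simpa [mul_assoc, YData.y] using h

/-- The swapper cannot be the fixed element. -/
theorem false_of_tau [Finite G] (F : Frame S) {p pl : Pair S} (hp : S.pr p.s = psi F.e 1)
    (hpl : S.pr pl.s = psi F.e 2) (res : Res F p repP mT) (Y : YData F p pl mT) : False := by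
  obtain ⟨hf1, hf2, -, -, -, -, hD1, -, -, hlts, hD1c, hD1q⟩ := local_facts
  have hlT := hlts mT (by simp)
  -- `D` covers `U`
  obtain ⟨n, hnρ, hny⟩ := Y.fix_lift (σ := S.ι F.t.d1 * S.ι F.t.d1) (M := mul mD1 mD1)
    (mod_mul F.mod1 F.mod1 (hlts mD1 (by simp))) (hlts _ (by simp)) rfl hlT rfl (by decide +kernel)
    tau_image
  have hmodn : Mod F.e (S.ρ n) mD1 := by
    rw [hnρ, ← hD1q]
    exact mod_mul (mod_mul F.mod1 F.mod1 (hlts mD1 (by simp)))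
      (mod_mul F.mod1 F.mod1 (hlts mD1 (by simp))) (hlts _ (by simp))
  have hU : ∀ x, x < 16 → ∃ d, Y.InD d ∧ S.pr d = psi F.e x := by
    intro x hx
    refine spanList_induction (fun x => ∃ d, Y.InD d ∧ S.pr d = psi F.e x)
      ⟨1, Y.D_one, by rw [pr_one, psi_zero]⟩ ?_ _ ?_ x (span_t8 x hx)
    · rintro a b ⟨d, hd, hda⟩ ⟨d', hd', hdb⟩
      exact ⟨d * d', Y.D_mul hd hd', by rw [pr_mul hd.1 hd'.1, hda, hdb, psi_xor]⟩
    · intro a ha
      simp only [List.mem_cons, List.not_mem_nil, or_false] at ha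
      have ht : ∀ a ∈ t8, ∃ d, Y.InD d ∧ S.pr d = psi F.e a := t8_lift F hp hpl res Y
      rcases ha with rfl | rfl | rfl | rfl
      · exact ht 1 (by decide)
      · exact ht 4 (by decide)
      · exact ht 8 (by decide)
      · refine ⟨_, Y.D_conj hny Y.s_D, ?_⟩
        rw [← act_pr n p.s_mem, hp, hmodn 1 (by norm_num)]
  choose dx hdx hdxp using fun x : Fin 16 => hU x.1 x.2
  let Pos : ℕ → Prop := fun x => ∃ q ∈ S.Q, ∃ d, Y.InD d ∧ S.pr d = psi F.e x ∧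
    q * Y.y * q⁻¹ = Y.y * d
  let Neg : ℕ → Prop := fun x => ∃ q ∈ S.Q, ∃ d, Y.InD d ∧ S.pr d = psi F.e x ∧
    q * Y.y * q⁻¹ = S.z * Y.y * d
  have hqd : ∀ q, q ∈ S.Q → ∀ a, a < 256 → S.pr q = psi F.e a →
      Y.y⁻¹ * (q * Y.y * q⁻¹) ∈ S.Q ∧
        S.pr (Y.y⁻¹ * (q * Y.y * q⁻¹)) = psi F.e (app mT a ^^^ a) := by
    intro q hq a ha hqa
    obtain ⟨h1, h2⟩ := Y.pr_conj hq ha hqa
    rw [show Y.y⁻¹ * (q * Y.y * q⁻¹) = (Y.y⁻¹ * q * Y.y⁻¹⁻¹) * q⁻¹ by group, Y.y_inv]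
    refine ⟨S.Q.mul_mem h1 (S.Q.inv_mem hq), ?_⟩
    rw [pr_mul h1 (S.Q.inv_mem hq), pr_inv hq, h2, hqa, psi_xor]
  have hone : ∀ x, x < 16 → Pos x ∨ Neg x := by
    intro x hx
    obtain ⟨q, hq, hqa⟩ := pr_surj (psi F.e (16 * x))
    obtain ⟨h1, h2⟩ := hqd q hq (16 * x) (by omega) hqa
    rw [hf2 x hx] at h2
    rcases (pr_eq_iff h1 (hdx ⟨x, hx⟩).1).mp (h2.trans (hdxp ⟨x, hx⟩).symm) with e | e
    · exact Or.inl ⟨q, hq, _, hdx ⟨x, hx⟩, hdxp _, by rw [← e]; group⟩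
    · refine Or.inr ⟨q, hq, _, hdx ⟨x, hx⟩, hdxp _, ?_⟩
      rw [show q * Y.y * q⁻¹ = Y.y * (Y.y⁻¹ * (q * Y.y * q⁻¹)) by group, e, ← mul_assoc, Y.yzc]
  have hnot : ∀ x, x < 16 → Pos x → Neg x → False := by
    rintro x hx ⟨q, hq, d, hd, hdp, hqy⟩ ⟨q', hq', d', hd', hdp', hqy'⟩
    rw [Y.D_inj hd' hd (hdp'.trans hdp.symm)] at hqy'
    have hqy'' : q' * Y.y * q'⁻¹ = S.z * (q * Y.y * q⁻¹) := by rw [hqy', hqy]; group
    obtain ⟨r, hr⟩ : ∃ r, r = q⁻¹ * q' := ⟨_, rfl⟩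
    have hrQ : r ∈ S.Q := hr ▸ S.Q.mul_mem (S.Q.inv_mem hq) hq'
    have hry : r * Y.y * r⁻¹ = S.z * Y.y := by
      rw [hr, show q⁻¹ * q' * Y.y * (q⁻¹ * q')⁻¹ = q⁻¹ * (q' * Y.y * q'⁻¹) * q by group, hqy'',
        show q⁻¹ * (S.z * (q * Y.y * q⁻¹)) * q = (q⁻¹ * S.z) * q * Y.y by group,
        S.sub.z_comm (S.Q.inv_mem hq)]
      group
    obtain ⟨a, ha, hra⟩ := F.surj (S.pr r)
    obtain ⟨-, h2⟩ := hqd r hrQ a ha hra.symm
    rw [hry, show Y.y⁻¹ * (S.z * Y.y) = Y.y⁻¹ * S.z * Y.y by group] at h2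
    rw [show Y.y⁻¹ * S.z * Y.y = S.z by
      rw [Y.y_inv, Y.yzc, mul_assoc, Y.y_sq, mul_one], pr_z] at h2
    have hfix : app mT a = a := by
      have := F.inj _ (Nat.xor_lt_two_pow (n := 8) (app_lt mT hlT a) ha) h2.symm
      exact Nat.xor_eq_zero_iff.mp this
    have ha16 := tau_fixed a ha hfix
    have hr' : r * Y.y = Y.y * r := by
      rcases (pr_eq_iff hrQ (hdx ⟨a, ha16⟩).1).mp (hra.symm.trans (hdxp ⟨a, ha16⟩).symm) with e | e
      · rw [e]; exact Y.D_comm (hdx _)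
      · rw [e, mul_assoc, Y.D_comm (hdx _), ← mul_assoc, ← Y.yzc, mul_assoc]
    rw [mul_inv_eq_iff_eq_mul.mpr hr'] at hry
    exact S.sub.ne_one (mul_eq_right.mp hry.symm)
  -- transport
  have hmove : ∀ x, x < 16 → x ≠ 0 → (Pos 1 → Pos x) ∧ (Neg 1 → Neg x) := by
    intro x hx hx0
    have := reach_induction ((oddGens.map fun g => mul g g).map app) [1]
      (fun x => x < 256 ∧ (Pos 1 → Pos x) ∧ (Neg 1 → Neg x)) (by simp) ?_ 8 x
      (oddGens_transitive x hx hx0)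
    · exact this.2
    intro fn hfn a ⟨ha, haP, haN⟩
    obtain ⟨M2, hM2, rfl⟩ := List.mem_map.mp hfn
    obtain ⟨M, hM, rfl⟩ := List.mem_map.mp hM2
    obtain ⟨hlM, hnM⟩ := odd_lt M hM
    obtain ⟨σ, hσ⟩ : ∃ σ, Mod F.e σ M := by
      simp only [oddGens, List.mem_cons, List.not_mem_nil, or_false] at hM
      rcases hM with rfl | rfl | rfl
      exacts [⟨_, F.mod1⟩, ⟨_, F.mod2⟩, ⟨_, mod_mul F.modU F.mod1 (hlts mD1 (by simp))⟩]
    obtain ⟨k, hkρ, hky⟩ := Y.fix_lift hσ hlM hnM hlT rfl (oddGens_comm M hM) tau_image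
    have hmodk : Mod F.e (S.ρ k) (mul M M) := by rw [hkρ]; exact mod_mul hσ hσ hlM
    have hconj : ∀ q d, q ∈ S.Q → Y.InD d → S.pr d = psi F.e a → ∀ u, u = 1 ∨ u = S.z →
        q * Y.y * q⁻¹ = u * Y.y * d →
        (k : G) * q * (k : G)⁻¹ ∈ S.Q ∧ Y.InD ((k : G) * d * (k : G)⁻¹) ∧
        S.pr ((k : G) * d * (k : G)⁻¹) = psi F.e (app (mul M M) a) ∧
        ((k : G) * q * (k : G)⁻¹) * Y.y * ((k : G) * q * (k : G)⁻¹)⁻¹ =
          u * Y.y * ((k : G) * d * (k : G)⁻¹) := by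
      intro q d hq hd hdp u hu hqy
      refine ⟨S.conj_mem' k hq, Y.D_conj hky hd, by rw [← act_pr k hd.1, hdp, hmodk a ha], ?_⟩
      have hku : (k : G) * u * (k : G)⁻¹ = u := by
        rcases hu with rfl | rfl
        · group
        · exact mul_inv_eq_iff_eq_mul.mpr (S.comm_C k)
      have hky' : (k : G)⁻¹ * Y.y * k = Y.y := by
        conv_lhs => rw [← hky]
        group
      calc (k : G) * q * (k : G)⁻¹ * Y.y * ((k : G) * q * (k : G)⁻¹)⁻¹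
          = (k : G) * (q * ((k : G)⁻¹ * Y.y * k) * q⁻¹) * (k : G)⁻¹ := by group
        _ = ((k : G) * u * (k : G)⁻¹) * ((k : G) * Y.y * (k : G)⁻¹) * ((k : G) * d * (k : G)⁻¹) := by
            rw [hky', hqy]; group
        _ = _ := by rw [hku, hky]
    refine ⟨app_lt _ (fun v hv => ?_) a, fun h1 => ?_, fun h1 => ?_⟩
    · obtain ⟨b, -, rfl⟩ := List.mem_map.mp hv
      exact app_lt _ hlM _
    · obtain ⟨q, hq, d, hd, hdp, hqy⟩ := haP h1
      obtain ⟨a1, a2, a3, a4⟩ := hconj q d hq hd hdp 1 (Or.inl rfl) (by rw [hqy, one_mul])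
      exact ⟨_, a1, _, a2, a3, by rw [a4, one_mul]⟩
    · obtain ⟨q, hq, d, hd, hdp, hqy⟩ := haN h1
      obtain ⟨a1, a2, a3, a4⟩ := hconj q d hq hd hdp S.z (Or.inr rfl) hqy
      exact ⟨_, a1, _, a2, a3, a4⟩
  -- composing two moves
  have hcomp : ∀ x, x < 16 → ∀ q1 d1 q2 d2, q1 ∈ S.Q → Y.InD d1 → q2 ∈ S.Q → Y.InD d2 →
      S.pr d1 = psi F.e 1 → S.pr d2 = psi F.e x → ∀ u1 u2,
      (u1 = 1 ∨ u1 = S.z) → (u2 = 1 ∨ u2 = S.z) →
      q1 * Y.y * q1⁻¹ = u1 * Y.y * d1 → q2 * Y.y * q2⁻¹ = u2 * Y.y * d2 →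
      ∃ a, a < 256 ∧ app mT a ^^^ a = 1 ∧ S.pr q1 = psi F.e a ∧
        ((bv a x = 0 → q1 * q2 * Y.y * (q1 * q2)⁻¹ = u2 * u1 * Y.y * (d1 * d2)) ∧
         (bv a x = 1 → q1 * q2 * Y.y * (q1 * q2)⁻¹ = S.z * (u2 * u1) * Y.y * (d1 * d2))) := by
    intro x hx q1 d1 q2 d2 hq1 hd1 hq2 hd2 hd1p hd2p u1 u2 hu1 hu2 h1 h2
    obtain ⟨a, ha, hqa⟩ := F.surj (S.pr q1)
    have hzu : ∀ u, (u = 1 ∨ u = S.z) → ∀ w, w * S.z = S.z * w → w * u = u * w := by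
      intro u hu w hw
      rcases hu with rfl | rfl
      · simp
      · exact hw
    have hfa : app mT a ^^^ a = 1 := by
      obtain ⟨h3, h4⟩ := hqd q1 hq1 a ha hqa.symm
      refine F.psi_inj (Nat.xor_lt_two_pow (n := 8) (app_lt mT hlT a) ha) (by norm_num) ?_
      rw [← h4, h1]
      rcases hu1 with rfl | rfl
      · rw [one_mul, inv_mul_cancel_left, hd1p]
      · rw [show Y.y⁻¹ * (S.z * Y.y * d1) = (Y.y⁻¹ * S.z) * Y.y * d1 by group,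
          show Y.y⁻¹ * S.z = S.z * Y.y⁻¹ by rw [Y.y_inv, Y.yzc],
          show S.z * Y.y⁻¹ * Y.y * d1 = S.z * d1 by group, pr_mul S.sub.z_mem hd1.1, pr_z,
          zero_add, hd1p]
    refine ⟨a, ha, hfa, hqa.symm, ?_⟩
    have e : q1 * q2 * Y.y * (q1 * q2)⁻¹ = u2 * u1 * Y.y * d1 * (q1 * d2 * q1⁻¹) := by
      calc q1 * q2 * Y.y * (q1 * q2)⁻¹ = (q1 * u2) * (Y.y * d2) * q1⁻¹ := by
            rw [show q1 * q2 * Y.y * (q1 * q2)⁻¹ = q1 * (q2 * Y.y * q2⁻¹) * q1⁻¹ by group, h2]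
            group
        _ = u2 * (q1 * Y.y * q1⁻¹) * (q1 * d2 * q1⁻¹) := by
            rw [hzu u2 hu2 q1 (S.sub.z_comm hq1)]; group
        _ = _ := by rw [h1]; group
    have hB : S.B (psi F.e a) (psi F.e x) = bF a x := F.forms.2 a x ha (by omega)
    rw [hqa, ← hd2p] at hB
    refine ⟨fun hb => ?_, fun hb => ?_⟩
    · rw [bF, hb, Nat.cast_zero] at hB
      rw [e, mul_inv_eq_iff_eq_mul.mpr ((B_eq_zero_iff hq1 hd2.1).mp hB)]
      group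
    · rw [bF, hb, Nat.cast_one] at hB
      have hne : q1 * d2 ≠ d2 * q1 := fun h =>
        zero_ne_one (((B_eq_zero_iff hq1 hd2.1).mpr h).symm.trans hB)
      have hu : (u2 * u1 * Y.y * d1) * S.z = S.z * (u2 * u1 * Y.y * d1) := by
        have hz1 : u1 * S.z = S.z * u1 := by rcases hu1 with rfl | rfl <;> simp
        have hz2 : u2 * S.z = S.z * u2 := by rcases hu2 with rfl | rfl <;> simp
        exact (((Commute.mul_left (hz2 : Commute u2 S.z) hz1).mul_left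
          (Y.yzc : Commute Y.y S.z)).mul_left (S.sub.z_comm hd1.1 : Commute d1 S.z)).eq
      rw [e, S.sub.conj_of_not_commute hq1 hd2.1 hne, ← mul_assoc, hu]
      group
  obtain ⟨q1, hq1, d1, hd1, hd1p, hu1⟩ | ⟨q1, hq1, d1, hd1, hd1p, hu1⟩ := hone 1 (by norm_num)
  · have hP : ∀ x, x < 16 → x ≠ 0 → Pos x := fun x hx hx0 =>
      (hmove x hx hx0).1 ⟨q1, hq1, d1, hd1, hd1p, hu1⟩
    obtain ⟨q2, hq2, d2, hd2, hd2p, hu2⟩ := hP 2 (by norm_num) (by norm_num)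
    obtain ⟨a, ha, hfa, -, -, hc⟩ := hcomp 2 (by norm_num) q1 d1 q2 d2 hq1 hd1 hq2 hd2 hd1p hd2p
      1 1 (Or.inl rfl) (Or.inl rfl) (by rw [hu1, one_mul]) (by rw [hu2, one_mul])
    refine hnot 3 (by norm_num) (hP 3 (by norm_num) (by norm_num))
      ⟨q1 * q2, S.Q.mul_mem hq1 hq2, d1 * d2, Y.D_mul hd1 hd2, ?_, ?_⟩
    · rw [pr_mul hd1.1 hd2.1, hd1p, hd2p, ← psi_xor]; rfl
    · rw [hc (hf1 a ha hfa).2, mul_one, mul_one]
  · have hN : ∀ x, x < 16 → x ≠ 0 → Neg x := fun x hx hx0 =>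
      (hmove x hx hx0).2 ⟨q1, hq1, d1, hd1, hd1p, hu1⟩
    obtain ⟨q2, hq2, d2, hd2, hd2p, hu2⟩ := hN 4 (by norm_num) (by norm_num)
    obtain ⟨a, ha, hfa, -, hc, -⟩ := hcomp 4 (by norm_num) q1 d1 q2 d2 hq1 hd1 hq2 hd2 hd1p hd2p
      S.z S.z (Or.inr rfl) (Or.inr rfl) hu1 hu2
    refine hnot 5 (by norm_num) ?_ (hN 5 (by norm_num) (by norm_num))
    refine ⟨q1 * q2, S.Q.mul_mem hq1 hq2, d1 * d2, Y.D_mul hd1 hd2, ?_, ?_⟩
    · rw [pr_mul hd1.1 hd2.1, hd1p, hd2p, ← psi_xor]; rfl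
    · rw [hc (hf1 a ha hfa).1, S.sub.mul_self, one_mul]
where
  odd_lt : ∀ M ∈ oddGens, (∀ v ∈ M, v < 256) ∧ M.length = 8 := by decide +kernel

/-- The case `2 ⊗ 4` is impossible when a conjugate of `z` other than `z` lies in `Q`. -/
theorem false_of_frame [Finite G] (F : Frame S) (p₀ : Pair S) : False := by
  obtain ⟨n, hn, hp⟩ := F.surj (S.pr p₀.s)
  have hn0 : n ≠ 0 := fun e => p₀.pr_s_ne (by rw [← hp, e, psi_zero])
  have hq : qv n = 0 := F.eq_zero_of_q hn (by rw [hp]; exact p₀.q_s)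
  have key : ∀ r : Rep, r.s < 256 → n ∈ orbit r.s → ∃ p : Pair S, S.pr p.s = psi F.e r.s := by
    intro r hr hnr
    obtain ⟨τ, hτ⟩ := F.reach_all hr hnr
    obtain ⟨p, hps⟩ := p₀.transport τ⁻¹
    rw [← hp, ← hτ, act_inv_act] at hps
    exact ⟨p, hps⟩
  rcases orbits.1 n hn hn0 hq with h | h
  swap
  · obtain ⟨p, hps⟩ := key repR (repOK_R F).facts.s_mem.1 h
    exact false_of_rank F p hps
  obtain ⟨p, hps⟩ := key repP (repOK_P F).facts.s_mem.1 h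
  obtain ⟨pl, hpl⟩ := p.transport (S.ι F.t.d1)
  rw [hps, F.mod1 repP.s (by decide)] at hpl
  have hcases : ∀ p' : Pair S, S.pr p'.s = psi F.e 1 → Res F p' repP fBoth := by
    intro p' hp'
    obtain ⟨f, res⟩ := exists_res F (repOK_P F) p' hp'
    obtain ⟨pl', hpl'⟩ := p'.transport (S.ι F.t.d1)
    rw [hp', F.mod1 1 (by norm_num), show app mD1 1 = 2 by rfl] at hpl'
    obtain ⟨Y⟩ := exists_ydata F (repOK_P F) (r := repP) hp' hpl' res
    have hf := res.f_mem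
    simp only [repP, List.mem_cons, List.not_mem_nil, or_false] at hf
    rcases hf with rfl | rfl | rfl
    · exact (false_of_trans F hp' hpl' res Y).elim
    · exact (false_of_tau F hp' hpl' res Y).elim
    · exact res
  have res := hcases p hps
  obtain ⟨Y⟩ := exists_ydata F (repOK_P F) (r := repP) hps hpl res
  exact false_of_both F hps hpl res Y hcases

/-- No conjugate of `z` other than `z` lies in `Q`. -/
theorem eq_z_of_mem [Finite G] (S : Shape G L) {g : G} (hg : g * S.z * g⁻¹ ∈ S.Q) :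
    g * S.z * g⁻¹ = S.z := by
  by_contra hne
  let p : Pair S := ⟨g, hg, hne⟩
  by_cases h : ∀ a v, V2 S v → S.act (S.ι a) v = v
  · exact trivial_case p h
  · push Not at h
    obtain ⟨F⟩ := exists_frame h
    exact false_of_frame F p

end CfsgLib.ExtraNine
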