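import Cfsg.Agent.ExtraNine.Local
import Cfsg.Agent.LargeExtraspecial.Simplicity
import Cfsg.Agent.Components.FStar
import Cfsg.Agent.LocalStructure.Cores
import Cfsg.Agent.S3300

/-!
# Involution centralizers `2^{1+8}` by subgroups of `S₃ × S₆` containing `3 × A₆`
-/

set_option autoImplicit false
set_option linter.style.haveILetI false

open Equiv

namespace CfsgLib.ExtraNine

universe u v

/-- A nonabelian finite simple group has no proper quotient of two power order. -/
theorem pResidual_top_of_simple {G : Type u} [Group G] [Finite G] [IsSimpleGroup G]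
    (hG : ¬ IsMulCommutative G) : Cfsg.pResidual 2 G = ⊤ := by
  have := Fact.mk Nat.prime_two
  haveI hn : (Cfsg.pResidual 2 G).Normal := CfsgLib.LocalStructure.pResidual_normal
  rcases hn.eq_bot_or_eq_top with h | h
  · exfalso
    apply hG
    have h2 : IsPGroup 2 (G ⧸ Cfsg.pResidual 2 G) := CfsgLib.LocalStructure.isPGroup_quotient_pResidual
    have h3 : IsPGroup 2 G := h2.of_equiv
      ((QuotientGroup.quotientMulEquivOfEq h).trans QuotientGroup.quotientBot)
    haveI : Nontrivial G := IsSimpleGroup.toNontrivial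
    haveI := h3.center_nontrivial
    rcases (inferInstance : (Subgroup.center G).Normal).eq_bot_or_eq_top with hc | hc
    · exact absurd hc ((Subgroup.nontrivial_iff_ne_bot _).mp inferInstance)
    · exact ⟨⟨fun a b => (Subgroup.mem_center_iff.mp (hc ▸ Subgroup.mem_top b) a)⟩⟩
  · exact h

/-- The three-cycle in the first factor. -/
def cyc : Perm (Fin 3) := swap 0 1 * swap 1 2

theorem cyc_facts : cyc * cyc * cyc = 1 ∧ cyc ≠ 1 ∧
    (∀ s : Perm (Fin 3), s * cyc = cyc * s ∨ s * cyc = cyc * cyc * s) ∧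
    ∀ s : Perm (Fin 3), s * cyc = cyc * s → s * s * s = 1 := by
  decide

section
variable {G : Type u} [Group G] [Finite G] {z : G}

/-- The centralizer quotient cannot be such a subgroup of `S₃ × S₆` when `O²(G) = G`. -/
theorem false_of_embedding (hres : Cfsg.pResidual 2 G = ⊤) (hz : orderOf z = 2)
    (hQ : Cfsg.IsExtraspecial 2 ↥(Cfsg.pCore 2 ↥(Subgroup.centralizer ({z} : Set G))))
    (hQ9 : Nat.card ↥(Cfsg.pCore 2 ↥(Subgroup.centralizer ({z} : Set G))) = 2 ^ 9)
    (hCQ : Subgroup.centralizer
        ((Cfsg.pCore 2 ↥(Subgroup.centralizer ({z} : Set G))) :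
          Set ↥(Subgroup.centralizer ({z} : Set G))) ≤
      Cfsg.pCore 2 ↥(Subgroup.centralizer ({z} : Set G)))
    {L : Type v} [Group L] (π : ↥(Subgroup.centralizer ({z} : Set G)) →* L)
    (hπ : Function.Surjective π)
    (hker : π.ker = Cfsg.pCore 2 ↥(Subgroup.centralizer ({z} : Set G)))
    (e : L →* Perm (Fin 3) × Perm (Fin 6)) (he : Function.Injective e)
    (hc : ∃ x, e x = (cyc, 1))
    (hA : ∀ a : ↥(alternatingGroup (Fin 6)), ∃ x, e x = (1, (a : Perm (Fin 6))))
    (hs : ∃ x, Perm.sign (e x).1 = -1) : False := by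
  obtain ⟨E, hE⟩ : ∃ E, E = (Cfsg.pCore 2 ↥(Subgroup.centralizer ({z} : Set G))).map
      (Subgroup.centralizer ({z} : Set G)).subtype := ⟨_, rfl⟩
  have hext : Cfsg.IsExtraspecial 2 ↥E := hE ▸
    CfsgLib.LargeExtraspecial.isExtraspecial_of_mulEquiv
      (Subgroup.equivMapOfInjective _ _ (Subgroup.subtype_injective _)) hQ
  have hcard : Nat.card E = 512 := by
    rw [hE, Subgroup.card_map_of_injective (Subgroup.subtype_injective _), hQ9]
    norm_num
  have hcent : Subgroup.centralizer (E : Set G) ≤ E := by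
    intro x hx
    have hx' := Subgroup.mem_centralizer_iff.mp hx
    have hzC : z ∈ Subgroup.centralizer ({z} : Set G) :=
      Subgroup.mem_centralizer_singleton_iff.mpr rfl
    have hzE : z ∈ E := hE ▸ ⟨⟨z, hzC⟩, hCQ (Subgroup.mem_centralizer_iff.mpr fun q _ =>
      Subtype.ext (Subgroup.mem_centralizer_singleton_iff.mp q.2)), rfl⟩
    have hxC : x ∈ Subgroup.centralizer ({z} : Set G) :=
      Subgroup.mem_centralizer_singleton_iff.mpr (hx' z hzE).symm
    exact hE ▸ ⟨⟨x, hxC⟩, hCQ (Subgroup.mem_centralizer_iff.mpr fun q hq =>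
      Subtype.ext (hx' q (hE ▸ ⟨q, hq, rfl⟩))), rfl⟩
  have hls := CfsgLib.Inv54.LargeSetup.of_pCore hz hE hext hcent
  have hzc : (⟨z, hls.memE⟩ : E) ∈ Subgroup.center E :=
    Subgroup.mem_center_iff.mpr fun q => Subtype.ext (hls.comm q q.2).symm
  have hcen : (Subgroup.center E).map E.subtype = Subgroup.zpowers z := by
    refine le_antisymm ?_ (Subgroup.zpowers_le.mpr ⟨_, hzc, rfl⟩)
    rintro _ ⟨a, ha, rfl⟩
    rcases hls.eq_of_mem_center ha with h | h <;> rw [Subgroup.subtype_apply, h]
    exacts [one_mem _, Subgroup.mem_zpowers z]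
  have hsub : CfsgLib.LargeExtraspecial.IsZSub E z := by
    refine ⟨hext, le_antisymm (fun x hx => ?_) ?_, ?_, hcen, hz⟩
    · rw [hcen]
      rcases hls.center x (fun q hq => (Subgroup.mem_centralizer_iff.mp hx q hq).symm) with h | h <;>
        rw [h]
      exacts [one_mem _, Subgroup.mem_zpowers z]
    · rintro _ ⟨a, ha, rfl⟩
      exact Subgroup.mem_centralizer_iff.mpr fun q hq =>
        congrArg Subtype.val (Subgroup.mem_center_iff.mp ha ⟨q, hq⟩)
    · rw [hcen]
      exact fun x hx => hls.normal x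
        (Subgroup.centralizer_le (Set.singleton_subset_iff.mpr (Subgroup.mem_zpowers z)) hx)
  obtain ⟨c3, c3ne, c3n, c3c⟩ := cyc_facts
  obtain ⟨c, hec⟩ := hc
  choose f hf using hA
  let ι : ↥(alternatingGroup (Fin 6)) →* L :=
    MonoidHom.mk' f fun a b => he (by simp [hf])
  have hι : ∀ a, e (ι a) = (1, (a : Perm (Fin 6))) := hf
  let S : Shape G L :=
    { z := z
      Q := E
      sub := hsub
      card_Q := hcard
      ρ := π
      ρ_surj := hπ
      ρ_ker := fun m => by
        rw [← MonoidHom.mem_ker, hker, hE]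
        exact ⟨fun h => ⟨m, h, rfl⟩, fun ⟨w, hw, hwe⟩ => Subtype.ext hwe ▸ hw⟩
      faithful := fun m hm h => hls.mem_of_centralizes_quotient hm h
      c := c
      ι := ι
      c_cube := he (by simp [hec, c3])
      c_ne := fun h => c3ne (by
        have := congrArg Prod.fst hec
        rw [h, map_one] at this
        exact this.symm)
      c_comm := fun a => he (by simp [hec, hι])
      ι_inj := fun a b h => Subtype.ext (by
        have h1 := congrArg (fun x => (e x).2) h
        simpa [hι] using h1)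
      c_normal := fun σ => by
        rcases c3n (e σ).1 with h | h
        · exact Or.inl (he (Prod.ext (by simpa [hec] using h) (by simp [hec])))
        · exact Or.inr (he (Prod.ext (by simpa [hec] using h) (by simp [hec])))
      ι_normal := fun σ a => ⟨⟨(e σ).2 * a * ((e σ).2)⁻¹, alternatingGroup.normal.conj_mem _ a.2 _⟩,
        he (Prod.ext (by simp [hι]) (by simp [hι]))⟩
      small := fun H hH hab hHc => by
        let pr2 : ↥H →* Perm (Fin 6) :=
          ((MonoidHom.snd (Perm (Fin 3)) (Perm (Fin 6))).comp e).comp H.subtype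
        have hinj : Function.Injective pr2 := by
          refine (injective_iff_map_eq_one _).mpr fun h hh => ?_
          have h2 : (e (h : L)).2 = 1 := hh
          have hcomm := congrArg (fun x => (e x).1) (hHc h h.2)
          have h3 := c3c (e (h : L)).1 (by simpa [hec] using hcomm)
          have h16 : (h : L) ^ 16 = 1 := by
            rw [← SubgroupClass.coe_pow, ← hH, pow_card_eq_one']
            rfl
          have h4 : ((e (h : L)).1) ^ 16 = 1 := by
            rw [← Prod.pow_fst, ← map_pow, h16, map_one]; rfl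
          have h5 : ((e (h : L)).1) ^ 3 = 1 := by rw [pow_succ, sq]; exact h3
          rw [show 16 = 3 * 5 + 1 from rfl, pow_succ, pow_mul, h5, one_pow, one_mul] at h4
          exact Subtype.ext (he (by rw [OneMemClass.coe_one, map_one]; exact Prod.ext h4 h2))
        refine perm_six_no_abelian pr2.range ?_ ?_
        · rw [← Nat.card_congr (MonoidHom.ofInjective hinj).toEquiv, hH]
        · rintro _ ⟨a, rfl⟩ _ ⟨b, rfl⟩
          rw [← map_mul, ← map_mul]
          exact congrArg pr2 (Subtype.ext (hab _ a.2 _ b.2)) }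
  obtain ⟨x₀, hx₀⟩ := hs
  let χ : ↥(Subgroup.centralizer ({z} : Set G)) →* ℤˣ :=
    (Perm.sign.comp (MonoidHom.fst (Perm (Fin 3)) (Perm (Fin 6)))).comp (e.comp π)
  have hidx : χ.ker.index = 2 := by
    have hsurj : Function.Surjective χ := fun u => by
      rcases Int.units_eq_one_or u with rfl | rfl
      · exact ⟨1, map_one _⟩
      · obtain ⟨m, rfl⟩ := hπ x₀
        exact ⟨m, hx₀⟩
    rw [Subgroup.index_ker, MonoidHom.range_eq_top.mpr hsurj, Subgroup.card_top,
      Nat.card_eq_fintype_card]
    rfl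
  obtain ⟨g, hg, hgne⟩ := Cfsg.Agent.S3300.result hres z hz E hE hext hcent 4 (by norm_num)
    (by rw [hcard]; norm_num) (χ.ker.map (Subgroup.centralizer ({z} : Set G)).subtype)
    (Subgroup.map_subtype_le _) (fun h hh => by
      ext x
      simp only [Subgroup.mem_map]
      constructor
      · rintro ⟨_, ⟨k, hk, rfl⟩, rfl⟩
        exact ⟨⟨h, hh⟩ * k * ⟨h, hh⟩⁻¹, χ.normal_ker.conj_mem k hk _, by simp⟩
      · rintro ⟨k, hk, rfl⟩
        exact ⟨_, ⟨⟨h, hh⟩⁻¹ * k * ⟨h, hh⟩, by
          simpa using χ.normal_ker.conj_mem k hk ⟨h, hh⟩⁻¹, rfl⟩, by simp [mul_assoc]⟩)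
    (by rw [Subgroup.relIndex, Subgroup.subgroupOf, Subgroup.comap_map_eq_self_of_injective
          (Subgroup.subtype_injective _)]; exact hidx)
  exact hgne (eq_z_of_mem S hg)

end

/-- The equivalence with the centralizer quotient as a homomorphism. -/
theorem exists_hom_of_equiv {M : Type u} [Group M] {N : Subgroup M} [N.Normal] {L : Type v}
    [Group L] (φ : (M ⧸ N) ≃* L) :
    ∃ π : M →* L, Function.Surjective π ∧ π.ker = N := by
  refine ⟨φ.toMonoidHom.comp (QuotientGroup.mk' N),
    φ.surjective.comp (QuotientGroup.mk'_surjective N), ?_⟩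
  ext m
  simp [MonoidHom.mem_ker]

end CfsgLib.ExtraNine
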