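import Cfsg.Agent.ExtraNine.Reach
import Mathlib.Data.Nat.Bitwise

/-!
# The module `2 ⊗ 4` of `S₃ × S₆` in coordinates

A vector is a number below 256: `x + 16 y` stands for `x + c y`, with `x`, `y` in the natural
module `U` of order 16 and `c` of order three on the two dimensional factor.
A linear map is the list of the images of the eight basis vectors.
-/

set_option autoImplicit false

namespace CfsgLib.ExtraNine

/-- Apply a matrix given by its columns. -/
def app : List ℕ → ℕ → ℕ
  | [], _ => 0
  | v :: vs, n => (if n % 2 = 1 then v else 0) ^^^ app vs (n / 2)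

/-- The product of two matrices. -/
def mul (A B : List ℕ) : List ℕ := B.map (app A)

/-- The identity matrix. -/
def one8 : List ℕ := [1, 2, 4, 8, 16, 32, 64, 128]

theorem app_xor : ∀ (A : List ℕ) (a b : ℕ), app A (a ^^^ b) = app A a ^^^ app A b
  | [], _, _ => by simp [app]
  | v :: vs, a, b => by
    simp only [app]
    rw [Nat.xor_div_two, app_xor vs]
    have h : (a ^^^ b) % 2 = (a % 2 + b % 2) % 2 := by
      rw [Nat.xor_mod_two_eq, Nat.add_mod]
    rcases Nat.mod_two_eq_zero_or_one a with ha | ha <;>
      rcases Nat.mod_two_eq_zero_or_one b with hb | hb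
    · simp [h, ha, hb]
    · simp [h, ha, hb, ← Nat.xor_assoc, Nat.xor_comm (app vs (a / 2)) v]
    · simp [h, ha, hb, Nat.xor_assoc]
    · simp [h, ha, hb, ← Nat.xor_assoc, Nat.xor_comm _ v]

theorem app_zero : ∀ A : List ℕ, app A 0 = 0
  | [] => rfl
  | v :: vs => by simp [app, app_zero vs]

theorem app_mul (A : List ℕ) : ∀ (B : List ℕ) (n : ℕ), app (mul A B) n = app A (app B n)
  | [], n => by simp [mul, app, app_zero]
  | v :: vs, n => by
    have ih := app_mul A vs (n / 2)
    simp only [mul, List.map_cons, app] at ih ⊢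
    rw [ih, app_xor]
    congr 1
    split <;> simp [app_zero]

theorem app_lt : ∀ A : List ℕ, (∀ v ∈ A, v < 256) → ∀ n, app A n < 256
  | [], _, _ => by simp [app]
  | v :: vs, h, n => by
    have h1 : (if n % 2 = 1 then v else 0) < 2 ^ 8 := by
      split
      · exact h v (by simp)
      · decide
    exact Nat.xor_lt_two_pow (n := 8) h1 (app_lt vs (fun w hw => h w (by simp [hw])) _)

/-- The `i`-th binary digit. -/
def bit (n i : ℕ) : ℕ := n / 2 ^ i % 2

/-- The invariant alternating form on `U`. -/
def beta (x y : ℕ) : ℕ :=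
  (bit x 1 * bit y 0 + bit x 0 * bit y 1 + bit x 3 * bit y 2 + bit x 2 * bit y 3) % 2

/-- The quadratic form. -/
def qv (n : ℕ) : ℕ := beta (n % 16) (n / 16)

/-- Its polar form. -/
def bv (n m : ℕ) : ℕ := (beta (n % 16) (m / 16) + beta (m % 16) (n / 16)) % 2

/-- The generator of order three of the first factor. -/
def mC : List ℕ := [16, 32, 64, 128, 17, 34, 68, 136]
/-- The transposition of the first factor fixing `U`. -/
def mT : List ℕ := [1, 2, 4, 8, 17, 34, 68, 136]
/-- The image of the first generator of order three of `A₆`. -/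
def mD1 : List ℕ := [2, 3, 4, 8, 32, 48, 64, 128]
/-- The image of the second generator of order three of `A₆`. -/
def mD2 : List ℕ := [1, 2, 8, 12, 16, 32, 128, 192]
/-- The image of the generator of order four of `A₆`. -/
def mG : List ℕ := [4, 8, 1, 3, 64, 128, 16, 48]
/-- The image of the last generator of `A₆`. -/
def mU : List ℕ := [4, 13, 1, 7, 64, 208, 16, 112]

/-- The maps of the first factor on the five generators. -/
def gens : List (List ℕ) := [mD1, mD2, mG, mU, mC]

/-- The elements of the first factor. -/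
def pis : List (List ℕ) := [one8, mC, mul mC mC, mT, mul mC mT, mul (mul mC mC) mT]

/-- The matrix acting as `S = (a, b, c, d)` on both copies of `U`. -/
def diag (a b c d : ℕ) : List ℕ := [a, b, c, d, 16 * a, 16 * b, 16 * c, 16 * d]

/-- The elements of `S₃ × Sp(U)` fixing `s`. -/
def stabList (s : ℕ) : List (List ℕ) :=
  pis.flatMap fun P => (List.range 16).flatMap fun a => (List.range 16).flatMap fun b =>
    if beta a b = 1 then (List.range 16).flatMap fun c =>
      if beta a c = 0 ∧ beta b c = 0 then (List.range 16).filterMap fun d =>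
        if beta a d = 0 ∧ beta b d = 0 ∧ beta c d = 1 ∧ app (mul P (diag a b c d)) s = s then
          some (mul P (diag a b c d)) else none
      else []
    else []

theorem mem_stabList {s : ℕ} {P : List ℕ} (hP : P ∈ pis) {a b c d : ℕ} (ha : a < 16) (hb : b < 16)
    (hc : c < 16) (hd : d < 16) (hab : beta a b = 1) (hac : beta a c = 0) (hbc : beta b c = 0)
    (had : beta a d = 0) (hbd : beta b d = 0) (hcd : beta c d = 1)
    (hs : app (mul P (diag a b c d)) s = s) : mul P (diag a b c d) ∈ stabList s := by
  refine List.mem_flatMap.mpr ⟨P, hP, List.mem_flatMap.mpr ⟨a, List.mem_range.mpr ha,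
    List.mem_flatMap.mpr ⟨b, List.mem_range.mpr hb, ?_⟩⟩⟩
  rw [if_pos hab]
  refine List.mem_flatMap.mpr ⟨c, List.mem_range.mpr hc, ?_⟩
  rw [if_pos ⟨hac, hbc⟩]
  exact List.mem_filterMap.mpr ⟨d, List.mem_range.mpr hd, if_pos ⟨had, hbd, hcd, hs⟩⟩

/-- All sums of a list of vectors. -/
def spanList : List ℕ → List ℕ
  | [] => [0]
  | v :: vs => let l := spanList vs; (l ++ l.map (v ^^^ ·)).dedup

theorem spanList_induction (p : ℕ → Prop) (h0 : p 0) (hadd : ∀ a b, p a → p b → p (a ^^^ b)) :
    ∀ l : List ℕ, (∀ v ∈ l, p v) → ∀ n ∈ spanList l, p n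
  | [], _, n, hn => by simp [spanList] at hn; exact hn ▸ h0
  | v :: vs, h, n, hn => by
    simp only [spanList, List.mem_dedup, List.mem_append, List.mem_map] at hn
    have ih := spanList_induction p h0 hadd vs fun w hw => h w (by simp [hw])
    rcases hn with hn | ⟨m, hm, rfl⟩
    · exact ih n hn
    · exact hadd _ _ (h v (by simp)) (ih m hm)

end CfsgLib.ExtraNine
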