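import Cfsg.Agent.ExtraNine.Setup

/-!
# A conjugate of the central involution inside `Q`

For `s = g z g⁻¹ ∈ Q` the image `Eb` of `Q ∩ gQg⁻¹` in `Q / Z(Q)` and the image `A` of
`C(z) ∩ gQg⁻¹` in the quotient `L`.
-/

set_option autoImplicit false
set_option linter.style.haveILetI false

open CfsgLib.LargeExtraspecial

namespace CfsgLib.ExtraNine

universe u v

namespace Shape

variable {G : Type u} [Group G] {L : Type v} [Group L] (S : Shape G L)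

/-- `x` lies in `g Q g⁻¹`. -/
def Mem (g x : G) : Prop := g⁻¹ * x * g ∈ S.Q

theorem mem_map_iff (g x : G) : x ∈ S.Q.map (MulAut.conj g).toMonoidHom ↔ S.Mem g x := by
  constructor
  · rintro ⟨y, hy, rfl⟩
    simpa [Mem, mul_assoc] using hy
  · intro h
    exact ⟨_, h, by simp [mul_assoc]⟩

theorem mem_one_iff (x : G) : S.Mem 1 x ↔ x ∈ S.Q := by simp [Mem]

theorem mem_congr {g g' : G} (h : g * S.z * g⁻¹ = g' * S.z * g'⁻¹) (x : G) :
    S.Mem g x ↔ S.Mem g' x := by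
  rw [← S.mem_map_iff, ← S.mem_map_iff, S.sub.map_conj_eq h]

theorem mem_mul_iff (a g x : G) : S.Mem (a * g) (a * x * a⁻¹) ↔ S.Mem g x := by
  unfold Mem
  rw [show (a * g)⁻¹ * (a * x * a⁻¹) * (a * g) = g⁻¹ * x * g by group]

theorem mem_self (g : G) : S.Mem g (g * S.z * g⁻¹) := by
  unfold Mem
  rw [show g⁻¹ * (g * S.z * g⁻¹) * g = S.z by group]
  exact S.sub.z_mem

variable [Finite G]

/-- Two conjugates of `z`: membership in each other's subgroup is symmetric. -/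
theorem mem_symm {g g' : G} (hne : g' * S.z * g'⁻¹ ≠ g * S.z * g⁻¹)
    (h : S.Mem g (g' * S.z * g'⁻¹)) : S.Mem g' (g * S.z * g⁻¹) := by
  have h1 : (g⁻¹ * g') * S.z * (g⁻¹ * g')⁻¹ ∈ S.Q := by
    unfold Mem at h
    simpa [mul_assoc] using h
  have h2 := S.sub.mem_of_conj_mem (by rw [S.card_Q]; norm_num) h1 fun e => hne <| by
    calc g' * S.z * g'⁻¹ = g * ((g⁻¹ * g') * S.z * (g⁻¹ * g')⁻¹) * g⁻¹ := by group
      _ = g * S.z * g⁻¹ := by rw [e]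
  rw [S.mem_map_iff] at h2
  have := (S.mem_mul_iff g (g⁻¹ * g') S.z).mpr h2
  rwa [mul_inv_cancel_left] at this

end Shape

/-- A conjugate `g z g⁻¹ ≠ z` inside `Q`. -/
structure Pair {G : Type u} [Group G] {L : Type v} [Group L] (S : Shape G L) where
  /-- the conjugating element -/
  g : G
  mem : g * S.z * g⁻¹ ∈ S.Q
  ne : g * S.z * g⁻¹ ≠ S.z

namespace Pair

variable {G : Type u} [Group G] {L : Type v} [Group L] {S : Shape G L} (p : Pair S)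

/-- The conjugate. -/
def s : G := p.g * S.z * p.g⁻¹

/-- Its subgroup. -/
def P : Subgroup G := S.Q.map (MulAut.conj p.g).toMonoidHom

theorem mem_P {x : G} : x ∈ p.P ↔ S.Mem p.g x := S.mem_map_iff _ _

theorem s_mem : p.s ∈ S.Q := p.mem

theorem s_ne : p.s ≠ S.z := p.ne

theorem pr_s_ne : S.pr p.s ≠ 0 := fun e => by
  rcases (Shape.pr_eq_zero p.s_mem).mp e with h | h
  · exact S.sub.ne_one (conj_eq_one_iff.mp h)
  · exact p.ne h

theorem s_sq : p.s * p.s = 1 := by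
  rw [s, show p.g * S.z * p.g⁻¹ * (p.g * S.z * p.g⁻¹) = p.g * (S.z * S.z) * p.g⁻¹ by group,
    S.sub.mul_self]
  group

theorem q_s : S.q (S.pr p.s) = 0 := by rw [Shape.q_pr p.s_mem, p.s_sq, Shape.zc_one]

variable [Finite G]

theorem data : PairData S.Q p.P S.z p.s :=
  pairData_of_mem S.sub (by rw [S.card_Q]; norm_num) p.mem p.ne

/-- The image of `Q ∩ P` in `Q / Z(Q)`. -/
def Eb : AddSubgroup S.Vec where
  carrier := {v | ∃ x ∈ S.Q ⊓ p.P, S.pr x = v}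
  zero_mem' := ⟨1, one_mem _, Shape.pr_one⟩
  add_mem' := by
    rintro _ _ ⟨x, hx, rfl⟩ ⟨y, hy, rfl⟩
    exact ⟨x * y, mul_mem hx hy, Shape.pr_mul hx.1 hy.1⟩
  neg_mem' := by
    rintro _ ⟨x, hx, rfl⟩
    exact ⟨x⁻¹, inv_mem hx, by rw [Shape.pr_inv hx.1, Shape.neg_eq']⟩

theorem z_mem_inf : S.z ∈ S.Q ⊓ p.P := ⟨S.sub.z_mem, p.data.z_mem⟩

theorem s_mem_inf : p.s ∈ S.Q ⊓ p.P := ⟨p.s_mem, p.data.subP.z_mem⟩

theorem pr_mem_Eb {x : G} (hx : x ∈ S.Q) : S.pr x ∈ p.Eb ↔ x ∈ p.P := by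
  constructor
  · rintro ⟨y, hy, hyx⟩
    rcases (Shape.pr_eq_iff hx hy.1).mp hyx.symm with e | e <;> rw [e]
    · exact hy.2
    · exact mul_mem p.z_mem_inf.2 hy.2
  · exact fun h => ⟨x, ⟨hx, h⟩, rfl⟩

theorem s_mem_Eb : S.pr p.s ∈ p.Eb := ⟨p.s, p.s_mem_inf, rfl⟩

theorem inf_comm {x y : G} (hx : x ∈ S.Q ⊓ p.P) (hy : y ∈ S.Q ⊓ p.P) : x * y = y * x := by
  obtain ⟨⟨hc⟩⟩ := p.data.isElementaryAbelian_inf.1
  exact congrArg Subtype.val (hc ⟨x, hx⟩ ⟨y, hy⟩)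

theorem inf_sq {x : G} (hx : x ∈ S.Q ⊓ p.P) : x * x = 1 := by
  rw [← sq]; exact p.data.isElementaryAbelian_inf.2 x hx

theorem B_Eb {v w : S.Vec} (hv : v ∈ p.Eb) (hw : w ∈ p.Eb) : S.B v w = 0 := by
  obtain ⟨x, hx, rfl⟩ := hv
  obtain ⟨y, hy, rfl⟩ := hw
  exact (Shape.B_eq_zero_iff hx.1 hy.1).mpr (p.inf_comm hx hy)

theorem q_Eb {v : S.Vec} (hv : v ∈ p.Eb) : S.q v = 0 := by
  obtain ⟨x, hx, rfl⟩ := hv
  rw [Shape.q_pr hx.1, p.inf_sq hx, Shape.zc_one]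

theorem B_s_iff {x : G} (hx : x ∈ S.Q) :
    S.B (S.pr x) (S.pr p.s) = 0 ↔ x * p.s = p.s * x := Shape.B_eq_zero_iff hx p.s_mem

/-- The image of `C_P(z)` in `L`. -/
def A : Subgroup L :=
  (p.P.subgroupOf (Subgroup.centralizer ({S.z} : Set G))).map S.ρ

omit [Finite G] in
theorem mem_A {σ : L} : σ ∈ p.A ↔
    ∃ m : ↥(Subgroup.centralizer ({S.z} : Set G)), (m : G) ∈ p.P ∧ S.ρ m = σ := Iff.rfl

omit [Finite G] in
theorem ρ_commute {m n : ↥(Subgroup.centralizer ({S.z} : Set G))}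
    (h : (m : G) * n * (m : G)⁻¹ * (n : G)⁻¹ ∈ S.Q) : S.ρ m * S.ρ n = S.ρ n * S.ρ m := by
  have := (S.ρ_ker (m * n * m⁻¹ * n⁻¹)).mpr h
  rw [map_mul, map_mul, map_mul, map_inv, map_inv] at this
  exact mul_inv_eq_iff_eq_mul.mp (mul_inv_eq_one.mp this)

theorem A_comm : ∀ σ ∈ p.A, ∀ τ ∈ p.A, σ * τ = τ * σ := by
  intro σ hσ τ hτ
  obtain ⟨m, hm, rfl⟩ := p.mem_A.mp hσ
  obtain ⟨n, hn, rfl⟩ := p.mem_A.mp hτ
  refine ρ_commute ?_
  rcases p.data.subP.comm_eq hm hn with e | e <;> rw [e]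
  · exact one_mem _
  · exact p.s_mem

theorem A_sq : ∀ σ ∈ p.A, σ * σ = 1 := by
  intro σ hσ
  obtain ⟨m, hm, rfl⟩ := p.mem_A.mp hσ
  rw [← map_mul, S.ρ_ker, Subgroup.coe_mul]
  rcases p.data.subP.sq_eq hm with e | e <;> rw [e]
  · exact one_mem _
  · exact p.s_mem

theorem act_A_s {σ : L} (hσ : σ ∈ p.A) : S.act σ (S.pr p.s) = S.pr p.s := by
  obtain ⟨m, hm, rfl⟩ := p.mem_A.mp hσ
  rw [Shape.act_pr m p.s_mem, mul_inv_eq_iff_eq_mul.mpr (p.data.subP.z_comm hm)]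

/-- `[s̄^⊥, A] ⊆ Eb`. -/
theorem disp_mem {σ : L} (hσ : σ ∈ p.A) {v : S.Vec} (hv : S.B v (S.pr p.s) = 0) :
    S.act σ v + v ∈ p.Eb := by
  obtain ⟨m, hm, rfl⟩ := p.mem_A.mp hσ
  obtain ⟨x, hx, rfl⟩ := Shape.pr_surj v
  have hxs := (p.B_s_iff hx).mp hv
  rw [Shape.act_pr m hx, ← Shape.pr_inv hx, ← Shape.pr_mul (S.conj_mem' m hx) (S.Q.inv_mem hx)]
  have hxR : x ∈ p.data.R :=
    Subgroup.mem_sup_right ⟨hx, Subgroup.mem_centralizer_singleton_iff.mpr hxs⟩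
  have hmR : (m : G) ∈ p.data.R := Subgroup.mem_sup_left ⟨hm, m.2⟩
  exact ⟨_, (p.data.comm_R_mem_inf hmR hxR).1, rfl⟩

/-- `[Eb, A] ⊆ ⟨s̄⟩`. -/
theorem disp_Eb {σ : L} (hσ : σ ∈ p.A) {v : S.Vec} (hv : v ∈ p.Eb) :
    S.act σ v + v = 0 ∨ S.act σ v + v = S.pr p.s := by
  obtain ⟨m, hm, rfl⟩ := p.mem_A.mp hσ
  obtain ⟨x, hx, rfl⟩ := hv
  rw [Shape.act_pr m hx.1]
  rcases p.data.subP.conj_eq hm hx.2 with e | e <;> rw [e]
  · exact Or.inl (Shape.add_self' _)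
  · right
    rw [Shape.pr_mul p.s_mem hx.1, add_assoc, Shape.add_self', add_zero]

/-- An element fixing `s̄` is induced by an element centralizing `s`. -/
theorem exists_lift {σ : L} (h : S.act σ (S.pr p.s) = S.pr p.s) :
    ∃ m : ↥(Subgroup.centralizer ({S.z} : Set G)), S.ρ m = σ ∧ (m : G) * p.s = p.s * m := by
  obtain ⟨m, rfl⟩ := S.ρ_surj σ
  rw [Shape.act_pr m p.s_mem] at h
  rcases (Shape.pr_eq_iff (S.conj_mem' m p.s_mem) p.s_mem).mp h with e | e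
  · exact ⟨m, rfl, mul_inv_eq_iff_eq_mul.mp e⟩
  · obtain ⟨q, hq, hqs⟩ := S.sub.exists_not_commute p.data.subP.ne_one p.ne
    refine ⟨⟨q, S.Q_le hq⟩ * m, by rw [map_mul, (S.ρ_ker ⟨q, _⟩).mpr hq, one_mul], ?_⟩
    refine mul_inv_eq_iff_eq_mul.mp ?_
    show q * (m : G) * p.s * (q * (m : G))⁻¹ = p.s
    rw [show q * (m : G) * p.s * (q * (m : G))⁻¹ = q * ((m : G) * p.s * (m : G)⁻¹) * q⁻¹ by group, e,
      show q * (S.z * p.s) * q⁻¹ = (q * S.z) * p.s * q⁻¹ by group, S.sub.z_comm hq,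
      show S.z * q * p.s * q⁻¹ = S.z * (q * p.s * q⁻¹) by group,
      S.sub.conj_of_not_commute hq p.s_mem hqs, ← mul_assoc, S.sub.mul_self, one_mul]

omit [Finite G] in
theorem conj_P {a : G} (ha : a * p.s = p.s * a) {x : G} :
    x ∈ p.P → a * x * a⁻¹ ∈ p.P := by
  intro hx
  rw [mem_P] at hx ⊢
  refine (S.mem_congr ?_ _).mp ((S.mem_mul_iff a p.g x).mpr hx)
  show a * p.g * S.z * (a * p.g)⁻¹ = p.s
  rw [show a * p.g * S.z * (a * p.g)⁻¹ = a * p.s * a⁻¹ by rw [s]; group]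
  exact mul_inv_eq_iff_eq_mul.mpr ha

theorem A_conj {σ : L} (hσ : S.act σ (S.pr p.s) = S.pr p.s) {τ : L} (hτ : τ ∈ p.A) :
    σ * τ * σ⁻¹ ∈ p.A := by
  obtain ⟨n, hn, hns⟩ := p.exists_lift hσ
  obtain ⟨m, hm, rfl⟩ := p.mem_A.mp hτ
  exact ⟨n * m * n⁻¹, p.conj_P hns hm, by rw [map_mul, map_mul, map_inv, hn]⟩

theorem Eb_act {σ : L} (hσ : S.act σ (S.pr p.s) = S.pr p.s) {v : S.Vec} (hv : v ∈ p.Eb) :
    S.act σ v ∈ p.Eb := by
  obtain ⟨n, rfl, hns⟩ := p.exists_lift hσ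
  obtain ⟨x, hx, rfl⟩ := hv
  rw [Shape.act_pr n hx.1]
  exact ⟨_, ⟨S.conj_mem' n hx.1, p.conj_P hns hx.2⟩, rfl⟩

theorem card_inf : Nat.card ↥(S.Q ⊓ p.P) = 2 * Nat.card p.Eb := by
  have hmem : ∀ v : p.Eb, ∃ x : ↥(S.Q ⊓ p.P), S.pr (x : G) = v := fun v => by
    obtain ⟨x, hx, e⟩ := v.2
    exact ⟨⟨x, hx⟩, e⟩
  choose r hr using hmem
  have hb : Function.Bijective fun q : Bool × p.Eb =>
      (⟨(if q.1 then S.z else 1) * (r q.2 : G), mul_mem (by split <;>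
        first | exact p.z_mem_inf | exact one_mem _) (r q.2).2⟩ : ↥(S.Q ⊓ p.P)) := by
    constructor
    · rintro ⟨a, v⟩ ⟨b, w⟩ e
      have e1 := congrArg Subtype.val e
      have e2 := congrArg S.pr e1
      simp only at e1 e2
      rw [Shape.pr_mul (by split <;> simp [S.sub.z_mem, one_mem]) (r v).2.1,
        Shape.pr_mul (by split <;> simp [S.sub.z_mem, one_mem]) (r w).2.1, hr, hr] at e2
      have hvw : v = w := Subtype.ext (by revert e2; split <;> split <;> simp)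
      subst hvw
      have e3 := mul_right_cancel e1
      cases a <;> cases b <;> simp at e3 ⊢
      · exact S.sub.ne_one e3.symm
      · exact S.sub.ne_one e3
    · intro x
      obtain ⟨v, hv⟩ : ∃ v : p.Eb, (v : S.Vec) = S.pr (x : G) := ⟨⟨_, x, x.2, rfl⟩, rfl⟩
      rcases (Shape.pr_eq_iff x.2.1 (r v).2.1).mp (hv.symm.trans (hr v).symm) with e | e
      · exact ⟨(false, v), Subtype.ext (by simp [e])⟩
      · exact ⟨(true, v), Subtype.ext (by simp [e])⟩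
  rw [← Nat.card_eq_of_bijective _ hb, Nat.card_prod]
  simp

theorem card_mul : Nat.card p.Eb * Nat.card p.A = 128 := by
  set C := Subgroup.centralizer ({S.z} : Set G)
  set P0 := p.P.subgroupOf C
  set f : ↥P0 →* L := S.ρ.comp P0.subtype
  have hrange : f.range = p.A := by
    rw [MonoidHom.range_comp, Subgroup.range_subtype]
    rfl
  have hker : Nat.card f.ker = Nat.card ↥(S.Q ⊓ p.P) := by
    refine Nat.card_congr
      { toFun := fun a => ⟨((a : P0) : C), (S.ρ_ker _).mp (MonoidHom.mem_ker.mp a.2), (a : P0).2⟩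
        invFun := fun x => ⟨⟨⟨x, S.Q_le x.2.1⟩, x.2.2⟩,
          MonoidHom.mem_ker.mpr ((S.ρ_ker _).mpr x.2.1)⟩
        left_inv := fun _ => rfl
        right_inv := fun _ => rfl }
  have h1 : Nat.card P0 = Nat.card p.A * Nat.card ↥(S.Q ⊓ p.P) := by
    rw [Subgroup.card_eq_card_quotient_mul_card_subgroup f.ker, hker, ← hrange,
      Nat.card_congr (QuotientGroup.quotientKerEquivRange f).toEquiv]
  have hP : Nat.card p.P = 512 := by
    rw [P, Subgroup.card_map_of_injective (MulAut.conj p.g).injective, S.card_Q]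
  have hP0 : 2 * Nat.card P0 = 512 := by
    obtain ⟨a, ha, haz⟩ := p.data.subP.exists_not_commute S.sub.ne_one p.ne.symm
    have hidx : (C.subgroupOf p.P).index = 2 := by
      rw [Subgroup.index_eq_two_iff]
      refine ⟨⟨a, ha⟩, fun b => ?_⟩
      simp only [Subgroup.mem_subgroupOf, Subgroup.coe_mul, C,
        Subgroup.mem_centralizer_singleton_iff]
      by_cases hb : (b : G) * S.z = S.z * b
      · refine Or.inr ⟨hb, fun h => haz ?_⟩
        have h1 := (Commute.inv_left (hb : Commute (b : G) S.z)).mul_left (h : Commute ((b : G) * a) S.z)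
        simpa using h1.eq
      · refine Or.inl ⟨?_, hb⟩
        have hb' : (b : G)⁻¹ * S.z ≠ S.z * (b : G)⁻¹ := fun h => hb (by
          simpa using (Commute.inv_left (h : Commute (b : G)⁻¹ S.z)).eq)
        have := p.data.subP.inv_mul_commute ha (p.P.inv_mem b.2) p.data.z_mem haz hb'
        simpa using this
    have h2 := (C.subgroupOf p.P).index_mul_card
    rw [hidx, hP] at h2
    rw [← h2]
    congr 1
    exact Nat.card_congr
      { toFun := fun a => ⟨⟨((a : C) : G), a.2⟩, (a : C).2⟩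
        invFun := fun a => ⟨⟨((a : p.P) : G), a.2⟩, (a : p.P).2⟩
        left_inv := fun _ => rfl
        right_inv := fun _ => rfl }
  rw [h1, p.card_inf] at hP0
  nlinarith

theorem card_Eb_le : Nat.card p.Eb ≤ 16 := Shape.card_isotropic_le _ fun _ hv _ hw => p.B_Eb hv hw

theorem card_A_ge : 8 ≤ Nat.card p.A := by
  have h1 := p.card_mul
  have h2 := p.card_Eb_le
  by_contra h
  nlinarith [Nat.mul_le_mul h2 (show Nat.card p.A ≤ 7 by omega)]

/-- An element of `⟨Q, P⟩` exchanging `z` and `s`. -/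
theorem exists_swap : ∃ h : G, h * S.z * h⁻¹ = p.s ∧ h * p.s * h⁻¹ = S.z ∧
    (∀ x ∈ S.Q, h * x * h⁻¹ ∈ p.P) ∧ (∀ x ∈ p.P, h * x * h⁻¹ ∈ S.Q) ∧
    (∀ x ∈ S.Q ⊓ p.P, h * x * h⁻¹ ∈ S.Q ⊓ p.P ∧
      (S.pr (h * x * h⁻¹) = S.pr x ∨ S.pr (h * x * h⁻¹) = S.pr x + S.pr p.s)) := by
  obtain ⟨-, -, φ, hφ, hsurj⟩ := p.data.main
  obtain ⟨a, haX, ha⟩ := hsurj (Equiv.swap 0 1)
  have h0 := hφ a 0
  have h1 := hφ a 1
  rw [ha, Equiv.swap_apply_left] at h0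
  rw [ha, Equiv.swap_apply_right] at h1
  have hz : (a : G) * S.z * (a : G)⁻¹ = p.s := h0.symm
  have hs : (a : G) * p.s * (a : G)⁻¹ = S.z := h1.symm
  have hQP : ∀ x ∈ S.Q, (a : G) * x * (a : G)⁻¹ ∈ p.P := fun x hx => by
    rw [mem_P]
    refine (S.mem_congr ?_ _).mp ((S.mem_mul_iff (a : G) 1 x).mpr ((S.mem_one_iff x).mpr hx))
    rw [mul_one, hz]
    rfl
  have hPQ : ∀ x ∈ p.P, (a : G) * x * (a : G)⁻¹ ∈ S.Q := fun x hx => by
    rw [← S.mem_one_iff]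
    refine (S.mem_congr ?_ _).mp ((S.mem_mul_iff (a : G) p.g x).mpr (p.mem_P.mp hx))
    rw [show (a : G) * p.g * S.z * ((a : G) * p.g)⁻¹ = (a : G) * p.s * (a : G)⁻¹ by
      simp [s, mul_assoc], hs]
    simp
  refine ⟨a, hz, hs, hQP, hPQ, fun x hx => ⟨⟨hPQ x hx.2, hQP x hx.1⟩, ?_⟩⟩
  have hm := p.data.commutator_le (Subgroup.commutator_mem_commutator haX hx)
  rw [commutatorElement_def] at hm
  have hxa : (a : G) * x * (a : G)⁻¹ = ((a : G) * x * (a : G)⁻¹ * x⁻¹) * x := by group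
  rw [hxa]
  rcases p.data.mem_V.mp hm with e | ⟨i, e⟩
  · rw [e, one_mul]; exact Or.inl rfl
  · rw [← e]
    fin_cases i
    · left
      show S.pr (S.z * x) = _
      rw [Shape.pr_mul S.sub.z_mem hx.1, Shape.pr_z, zero_add]
    · right
      show S.pr (p.s * x) = _
      rw [Shape.pr_mul p.s_mem hx.1, add_comm]
    · right
      show S.pr (S.z * p.s * x) = _
      rw [Shape.pr_mul (S.Q.mul_mem S.sub.z_mem p.s_mem) hx.1, Shape.pr_mul S.sub.z_mem p.s_mem,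
        Shape.pr_z, zero_add, add_comm]

/-- The conjugate of a pair by an element of `C(z)`. -/
def conj (m : ↥(Subgroup.centralizer ({S.z} : Set G))) : Pair S where
  g := (m : G) * p.g
  mem := by
    rw [show (m : G) * p.g * S.z * ((m : G) * p.g)⁻¹ = (m : G) * p.s * (m : G)⁻¹ by rw [s]; group]
    exact S.conj_mem' m p.mem
  ne := by
    intro e
    apply p.ne
    have e' : (m : G) * p.s * (m : G)⁻¹ = (m : G) * S.z * (m : G)⁻¹ := by
      refine Eq.trans ?_ (e.trans (mul_inv_eq_iff_eq_mul.mpr (S.comm_C m)).symm)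
      simp [s, mul_assoc]
    exact mul_left_cancel (mul_right_cancel e')

omit [Finite G] in
theorem conj_s (m : ↥(Subgroup.centralizer ({S.z} : Set G))) :
    (p.conj m).s = (m : G) * p.s * (m : G)⁻¹ := by
  simp [conj, s, mul_assoc]

omit [Finite G] in
theorem conj_mem_P (m : ↥(Subgroup.centralizer ({S.z} : Set G))) (x : G) :
    (m : G) * x * (m : G)⁻¹ ∈ (p.conj m).P ↔ x ∈ p.P := by
  rw [mem_P, mem_P]
  exact S.mem_mul_iff _ _ _

theorem conj_Eb (m : ↥(Subgroup.centralizer ({S.z} : Set G))) (v : S.Vec) :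
    S.act (S.ρ m) v ∈ (p.conj m).Eb ↔ v ∈ p.Eb := by
  obtain ⟨x, hx, rfl⟩ := Shape.pr_surj v
  rw [Shape.act_pr m hx, pr_mem_Eb _ (S.conj_mem' m hx), pr_mem_Eb _ hx, conj_mem_P]

end Pair

end CfsgLib.ExtraNine
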