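import Mathlib.Algebra.Group.Subgroup.Lattice
import Mathlib.Data.List.Dedup

/-!
# Computed orbits of finite lists of maps
-/

set_option autoImplicit false

namespace CfsgLib.ExtraNine

variable {α : Type*} [DecidableEq α]

/-- One round of applying the maps `fs`. -/
def grow (fs : List (α → α)) (l : List α) : List α :=
  (l ++ l.flatMap fun x => fs.map fun f => f x).dedup

/-- The points reached from `start` in at most `n` rounds. -/
def reach (fs : List (α → α)) (start : List α) : ℕ → List α
  | 0 => start
  | n + 1 => grow fs (reach fs start n)

/-- A property closed under the maps holds on the reached points. -/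
theorem reach_induction (fs : List (α → α)) (start : List α) (p : α → Prop)
    (h0 : ∀ x ∈ start, p x) (hs : ∀ f ∈ fs, ∀ x, p x → p (f x)) :
    ∀ n, ∀ x ∈ reach fs start n, p x := by
  intro n
  induction n with
  | zero => exact h0
  | succ n ih =>
    intro x hx
    simp only [reach, grow, List.mem_dedup, List.mem_append, List.mem_flatMap, List.mem_map] at hx
    rcases hx with hx | ⟨y, hy, f, hf, rfl⟩
    · exact ih x hx
    · exact hs f hf y (ih y hy)

end CfsgLib.ExtraNine
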