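import Cfsg.Agent.ExtraNine.Reach
import Mathlib.GroupTheory.SpecificGroups.Alternating
import Mathlib.GroupTheory.SpecificGroups.Alternating.Simple
import Mathlib.GroupTheory.Sylow

/-!
# Generators of `A₆` adapted to the normalizer of a Sylow 3-subgroup
-/

set_option autoImplicit false
set_option maxRecDepth 100000
set_option synthInstance.maxSize 100000
set_option linter.style.haveILetI false

open Equiv

namespace CfsgLib.ExtraNine

local notation "A6" => alternatingGroup (Fin 6)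

/-- Four generators with the relations used for the module. -/
structure Quad where
  /-- first element of order three -/
  d1 : A6
  /-- second element of order three -/
  d2 : A6
  /-- element of order four permuting the two -/
  g : A6
  /-- element inverting `g` -/
  u : A6

/-- The relations and generation. -/
structure Quad.Rel (t : Quad) : Prop where
  d1_cube : t.d1 ^ 3 = 1
  d2_cube : t.d2 ^ 3 = 1
  d1_ne : t.d1 ≠ 1
  d_comm : t.d1 * t.d2 = t.d2 * t.d1
  g_four : t.g ^ 4 = 1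
  g_d1 : t.g * t.d1 = t.d2 * t.g
  g_d2 : t.g * t.d2 = t.d1⁻¹ * t.g
  u_sq : t.u * t.u = 1
  u_g : t.u * t.g = t.g⁻¹ * t.u
  five1 : (t.u * t.d1) ^ 5 = 1
  five2 : (t.u * t.d2) ^ 5 = 1
  three : (t.u * (t.d1 * t.d2)) ^ 3 = 1
  conj_reach : ∀ σ : Perm (Fin 6), σ.support.card = 3 → σ ∈ reach
    ([(t.d1 : Perm (Fin 6)), (t.d2 : Perm (Fin 6)), (t.g : Perm (Fin 6)), (t.u : Perm (Fin 6))].map
      fun a x => a * x * a⁻¹) [(t.d1 : Perm (Fin 6)), (t.d2 : Perm (Fin 6))] 9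

/-- Generators with the first two elements 3-cycles. -/
def quadA : Quad where
  d1 := ⟨swap 0 1 * swap 1 2, Equiv.Perm.mem_alternatingGroup.mpr (by decide)⟩
  d2 := ⟨swap 3 4 * swap 4 5, Equiv.Perm.mem_alternatingGroup.mpr (by decide)⟩
  g := ⟨⟨![3, 4, 5, 1, 0, 2], ![4, 3, 5, 0, 1, 2], by decide, by decide⟩,
    Equiv.Perm.mem_alternatingGroup.mpr (by decide)⟩
  u := ⟨swap 0 3 * swap 1 4, Equiv.Perm.mem_alternatingGroup.mpr (by decide)⟩

theorem relA : quadA.Rel := by constructor <;> decide +kernel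

/-- The relations for the generators with the first two elements of cycle type `(3,3)`. -/
structure Quad.RelB (t : Quad) : Prop where
  d1_cube : t.d1 ^ 3 = 1
  d2_cube : t.d2 ^ 3 = 1
  d1_ne : t.d1 ≠ 1
  d_comm : t.d1 * t.d2 = t.d2 * t.d1
  g_four : t.g ^ 4 = 1
  g_d1 : t.g * t.d1 = t.d2 * t.g
  g_d2 : t.g * t.d2 = t.d1⁻¹ * t.g
  u_sq : t.u * t.u = 1
  u_g : t.u * t.g = t.g⁻¹ * t.u
  five1 : (t.u * t.d1) ^ 5 = 1
  five2 : (t.u * t.d2) ^ 5 = 1
  three : (t.u * (t.d1 * t.d2)) ^ 3 = 1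
  base : t.d1 = quadA.d1 * quadA.d2 ∧ t.d2 = quadA.d1⁻¹ * quadA.d2 ∧
    quadA.d1 = (t.d1 * t.d2⁻¹) ⁻¹ ∧ t.g = quadA.g
  conj_reach : ∀ σ : Perm (Fin 6), σ.support.card = 3 → σ ∈ reach
    ([(t.d1 : Perm (Fin 6)), (t.d2 : Perm (Fin 6)), (t.g : Perm (Fin 6)), (t.u : Perm (Fin 6))].map
      fun a x => a * x * a⁻¹)
    [(quadA.d1 : Perm (Fin 6))] 9

/-- Generators with the first two elements of cycle type `(3,3)`. -/
def quadB : Quad where
  d1 := quadA.d1 * quadA.d2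
  d2 := quadA.d1⁻¹ * quadA.d2
  g := quadA.g
  u := ⟨swap 2 5 * swap 3 4, Equiv.Perm.mem_alternatingGroup.mpr (by decide)⟩

theorem relB : quadB.RelB := by constructor <;> decide +kernel

theorem eq_top_of_mem {H : Subgroup A6} (l : List A6) (hl : ∀ a ∈ l, a ∈ H)
    (st : List (Perm (Fin 6))) (hst : ∀ x ∈ st, x ∈ H.map (Subgroup.subtype _)) (n : ℕ)
    (hr : ∀ σ : Perm (Fin 6), σ.support.card = 3 → σ ∈ reach
      ((l.map Subtype.val).map fun a x => a * x * a⁻¹) st n) : H = ⊤ := by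
  have h1 : ∀ σ ∈ reach ((l.map Subtype.val).map fun a x => a * x * a⁻¹) st n,
      σ ∈ H.map (Subgroup.subtype _) := by
    refine reach_induction _ _ _ hst ?_ n
    intro f hf x hx
    simp only [List.mem_map] at hf
    obtain ⟨_, ⟨a, ha, rfl⟩, rfl⟩ := hf
    have ha' : (a : Perm (Fin 6)) ∈ H.map (Subgroup.subtype _) := ⟨a, hl a ha, rfl⟩
    exact mul_mem (mul_mem ha' hx) (inv_mem ha')
  have h2 : (A6 : Subgroup (Perm (Fin 6))) ≤ H.map (Subgroup.subtype _) :=
    (le_of_eq Equiv.Perm.closure_three_cycles_eq_alternating.symm).trans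
      ((Subgroup.closure_le _).mpr fun σ hσ => h1 σ (hr σ hσ.card_support))
  refine eq_top_iff.mpr fun x _ => ?_
  obtain ⟨y, hy, hyx⟩ := h2 x.2
  rwa [← Subtype.ext hyx]

theorem quadA_gen {H : Subgroup A6} (h1 : quadA.d1 ∈ H) (h2 : quadA.d2 ∈ H) (hg : quadA.g ∈ H)
    (hu : quadA.u ∈ H) : H = ⊤ := by
  refine eq_top_of_mem [quadA.d1, quadA.d2, quadA.g, quadA.u] (by simp [h1, h2, hg, hu])
    [(quadA.d1 : Perm (Fin 6)), (quadA.d2 : Perm (Fin 6))] ?_ 9 relA.conj_reach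
  intro x hx
  simp only [List.mem_cons, List.not_mem_nil, or_false] at hx
  rcases hx with rfl | rfl
  exacts [⟨_, h1, rfl⟩, ⟨_, h2, rfl⟩]

theorem quadB_gen {H : Subgroup A6} (h1 : quadB.d1 ∈ H) (h2 : quadB.d2 ∈ H) (hg : quadB.g ∈ H)
    (hu : quadB.u ∈ H) : H = ⊤ := by
  refine eq_top_of_mem [quadB.d1, quadB.d2, quadB.g, quadB.u] (by simp [h1, h2, hg, hu])
    [(quadA.d1 : Perm (Fin 6))] ?_ 9 relB.conj_reach
  intro x hx
  simp only [List.mem_cons, List.not_mem_nil, or_false] at hx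
  subst hx
  refine ⟨quadA.d1, ?_, rfl⟩
  rw [SetLike.mem_coe, relB.base.2.2.1]
  exact inv_mem (mul_mem h1 (inv_mem h2))

theorem alt_six_simple : IsSimpleGroup A6 :=
  alternatingGroup.isSimpleGroup (by simp)

theorem perm_six_centralizer : Nat.card {σ : Perm (Fin 6) //
    σ * swap 4 5 = swap 4 5 * σ ∧ σ * (swap 0 1 * swap 2 3) = swap 0 1 * swap 2 3 * σ} = 16 := by
  rw [Nat.card_eq_fintype_card]
  decide +kernel

/-- The symmetric group of degree six has no abelian subgroup of order 16. -/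
theorem perm_six_no_abelian (H : Subgroup (Perm (Fin 6))) (hc : Nat.card H = 16)
    (hab : ∀ a ∈ H, ∀ b ∈ H, a * b = b * a) : False := by
  set K : Subgroup (Perm (Fin 6)) :=
    Subgroup.centralizer {swap 4 5, swap 0 1 * swap 2 3} with hK
  have hmem : ∀ σ, σ ∈ K ↔ σ * swap 4 5 = swap 4 5 * σ ∧
      σ * (swap 0 1 * swap 2 3) = swap 0 1 * swap 2 3 * σ := by
    intro σ
    rw [hK, Subgroup.mem_centralizer_iff]
    exact ⟨fun h => ⟨(h _ (by simp)).symm, (h _ (by simp)).symm⟩, fun h y hy => by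
      rcases hy with rfl | rfl
      exacts [h.1.symm, h.2.symm]⟩
  have hcK : Nat.card K = 16 := by
    rw [← perm_six_centralizer]
    exact Nat.card_congr (Equiv.subtypeEquivRight hmem)
  haveI : Fact (Nat.Prime 2) := ⟨Nat.prime_two⟩
  have hS : ∀ X : Subgroup (Perm (Fin 6)), Nat.card X = 16 →
      ∃ P : Sylow 2 (Perm (Fin 6)), (P : Subgroup (Perm (Fin 6))) = X := by
    intro X hX
    have hf : (Nat.card (Perm (Fin 6))).factorization 2 = 4 := by
      rw [Nat.card_eq_fintype_card, Fintype.card_perm, Fintype.card_fin]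
      rw [show Nat.factorial 6 = 2 ^ 4 * 45 by decide, Nat.factorization_mul (by norm_num) (by norm_num),
        Finsupp.add_apply, Nat.Prime.factorization_pow Nat.prime_two,
        Finsupp.single_eq_same, Nat.factorization_eq_zero_of_not_dvd (by norm_num)]
    exact ⟨Sylow.ofCard X (by rw [hX, hf]; norm_num), Sylow.coe_ofCard X _⟩
  obtain ⟨P, hP⟩ := hS H hc
  obtain ⟨R, hR⟩ := hS K hcK
  obtain ⟨g, hg⟩ := MulAction.exists_smul_eq (Perm (Fin 6)) P R
  have h1 : ∀ x ∈ K, g⁻¹ * x * g ∈ H := by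
    intro x hx
    rw [← hR, ← hg, Sylow.coe_subgroup_smul, hP, Subgroup.mem_smul_pointwise_iff_exists] at hx
    obtain ⟨y, hy, rfl⟩ := hx
    simpa [MulAut.smul_def, mul_assoc] using hy
  have ha : swap 0 1 ∈ K := (hmem _).mpr (by decide)
  have hb : (swap 0 2 * swap 1 3 : Perm (Fin 6)) ∈ K := (hmem _).mpr (by decide)
  have := hab _ (h1 _ ha) _ (h1 _ hb)
  have h3 : (swap 0 1 : Perm (Fin 6)) * (swap 0 2 * swap 1 3) = swap 0 2 * swap 1 3 * swap 0 1 := by
    calc (swap 0 1 : Perm (Fin 6)) * (swap 0 2 * swap 1 3)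
        = g * ((g⁻¹ * swap 0 1 * g) * (g⁻¹ * (swap 0 2 * swap 1 3) * g)) * g⁻¹ := by group
      _ = g * ((g⁻¹ * (swap 0 2 * swap 1 3) * g) * (g⁻¹ * swap 0 1 * g)) * g⁻¹ := by rw [this]
      _ = swap 0 2 * swap 1 3 * swap 0 1 := by group
  revert h3
  decide

end CfsgLib.ExtraNine
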