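import Cfsg.Agent.ExtraNine.Pairs

/-!
# The case where `A₆` centralizes `[Q / Z(Q), c]` is impossible
-/

set_option autoImplicit false
set_option linter.style.haveILetI false
set_option maxHeartbeats 800000

open Equiv

namespace CfsgLib.ExtraNine

universe u v

local notation "A6" => alternatingGroup (Fin 6)

variable {G : Type u} [Group G] {L : Type v} [Group L]

namespace Shape

variable {S : Shape G L}

theorem act_comm {a b : L} (h : a * b = b * a) (v : S.Vec) :
    S.act a (S.act b v) = S.act b (S.act a v) := by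
  rw [← act_mul, ← act_mul, h]

theorem act_cube {a : L} (h : a * a * a = 1) (v : S.Vec) :
    S.act a (S.act a (S.act a v)) = v := by
  rw [← act_mul, ← act_mul, h, act_one]

theorem add_add_cancel_left' (a b : S.Vec) : a + (a + b) = b := by
  rw [← add_assoc, add_self', zero_add]

theorem eq_of_add_eq_zero {a b : S.Vec} (h : a + b = 0) : a = b := by
  rw [eq_neg_of_add_eq_zero_left h, neg_eq']

/-- An eigenvector of `F` for the powers of `T`. -/
theorem exists_eigen {T F : L} (hT : T * T * T = 1) (hF : F * F * F = 1) (hTF : T * F = F * T)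
    (p : S.Vec → Prop) (padd : ∀ a b, p a → p b → p (a + b)) (pT : ∀ a, p a → p (S.act T a))
    (pF : ∀ a, p a → p (S.act F a)) {x : S.Vec} (hp : p x) (hx : x ≠ 0)
    (hxT : x + S.act T x + S.act T (S.act T x) = 0) :
    ∃ y, y ≠ 0 ∧ p y ∧ y + S.act T y + S.act T (S.act T y) = 0 ∧
      (S.act F y = y ∨ S.act T (S.act F y) = y ∨ S.act T (S.act T (S.act F y)) = y) := by
  set e : L → S.Vec := fun D => x + S.act D x + S.act D (S.act D x) with he
  have hsum : e F + e (T * F) + e (T * (T * F)) = x := by
    have h1 : ∀ v : S.Vec, S.act F (S.act T v) = S.act T (S.act F v) :=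
      fun v => act_comm hTF.symm v
    have h2 : ∀ v : S.Vec, v + S.act T v + S.act T (S.act T v) =
      v + (S.act T v + S.act T (S.act T v)) := fun v => add_assoc _ _ _
    have h3 : ∀ a : L, a * T = T * a → S.act a x + S.act a (S.act T x) + S.act a (S.act T (S.act T x)) = 0 := by
      intro a _
      rw [← map_add, ← map_add, hxT, map_zero]
    have h4 := h3 F hTF.symm
    have h5 := h3 (F * F) (by rw [mul_assoc, ← hTF, ← mul_assoc, ← hTF, mul_assoc])
    simp only [he, act_mul, h1, act_cube hT] at h4 h5 ⊢
    calc x + S.act F x + S.act F (S.act F x) +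
          (x + S.act T (S.act F x) + S.act T (S.act T (S.act F (S.act F x)))) +
          (x + S.act T (S.act T (S.act F x)) + S.act T (S.act F (S.act F x)))
        = (x + (x + x)) + (S.act F x + S.act T (S.act F x) + S.act T (S.act T (S.act F x))) +
          (S.act F (S.act F x) + S.act T (S.act F (S.act F x)) +
            S.act T (S.act T (S.act F (S.act F x)))) := by abel
      _ = x := by rw [h4, h5, add_self', add_zero, add_zero, add_zero]
  have hfix : ∀ D : L, D * D * D = 1 → S.act D (e D) = e D := by
    intro D hD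
    simp only [he, map_add, act_cube hD]
    abel
  have hcube : ∀ a b : L, a * a * a = 1 → b * b * b = 1 → a * b = b * a → a * b * (a * b) * (a * b) = 1 := by
    intro a b ha hb hab
    calc a * b * (a * b) * (a * b) = a * (b * a) * b * (a * b) := by group
      _ = a * a * (b * b * a) * b := by rw [← hab]; group
      _ = a * a * (b * (b * a)) * b := by group
      _ = a * a * (b * (a * b)) * b := by rw [hab]
      _ = a * a * ((b * a) * b) * b := by group
      _ = a * a * a * (b * b * b) := by rw [← hab]; group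
      _ = 1 := by rw [ha, hb, one_mul]
  have hTF3 := hcube T F hT hF hTF
  have hTTF3 := hcube T (T * F) hT hTF3 (by rw [mul_assoc, ← hTF])
  have hpe : ∀ D : L, (∀ a, p a → p (S.act D a)) → p (e D) := fun D hD =>
    padd _ _ (padd _ _ hp (hD _ hp)) (hD _ (hD _ hp))
  have hTe : ∀ D : L, T * D = D * T → e D + S.act T (e D) + S.act T (S.act T (e D)) = 0 := by
    intro D hD
    have h := act_comm (S := S) hD
    simp only [he, map_add, h]
    calc _ = (x + S.act T x + S.act T (S.act T x)) +
          (S.act D x + S.act D (S.act T x) + S.act D (S.act T (S.act T x))) +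
          (S.act D (S.act D x) + S.act D (S.act D (S.act T x)) +
            S.act D (S.act D (S.act T (S.act T x)))) := by abel
      _ = 0 := by simp only [← map_add, hxT, map_zero, add_zero]
  by_cases h0 : e F = 0
  · by_cases h1 : e (T * F) = 0
    · rw [h0, h1, zero_add, zero_add] at hsum
      refine ⟨e (T * (T * F)), by rw [hsum]; exact hx,
        hpe _ fun a ha => by rw [act_mul, act_mul]; exact pT _ (pT _ (pF _ ha)),
        hTe _ (by rw [mul_assoc T (T * F) T, mul_assoc T F T, ← hTF]), Or.inr (Or.inr ?_)⟩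
      have := hfix _ hTTF3
      rwa [act_mul, act_mul] at this
    · refine ⟨_, h1, hpe _ fun a ha => by rw [act_mul]; exact pT _ (pF _ ha),
        hTe _ (by rw [mul_assoc, ← hTF]), Or.inr (Or.inl ?_)⟩
      have := hfix _ hTF3
      rwa [act_mul] at this
  · exact ⟨_, h0, hpe _ pF, hTe _ hTF, Or.inl (hfix _ hF)⟩

theorem c_cube' (v : S.Vec) : S.act S.c (S.act S.c (S.act S.c v)) = v := act_cube S.c_cube v

theorem c_ι (a : A6) (v : S.Vec) : S.act S.c (S.act (S.ι a) v) = S.act (S.ι a) (S.act S.c v) :=
  act_comm (S.c_comm a) v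

/-- The fixed space of `c`. -/
def V1 (S : Shape G L) (v : S.Vec) : Prop := S.act S.c v = v

/-- The commutator space of `c`. -/
def V2 (S : Shape G L) (v : S.Vec) : Prop := v + S.act S.c v + S.act S.c (S.act S.c v) = 0

theorem V1_add {v w : S.Vec} (hv : V1 S v) (hw : V1 S w) : V1 S (v + w) := by
  rw [V1, map_add, hv, hw]

theorem V2_add {v w : S.Vec} (hv : V2 S v) (hw : V2 S w) : V2 S (v + w) := by
  rw [V2, map_add, map_add]
  calc _ = (v + S.act S.c v + S.act S.c (S.act S.c v)) +
      (w + S.act S.c w + S.act S.c (S.act S.c w)) := by abel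
    _ = 0 := by rw [hv, hw, add_zero]

theorem V2_c {v : S.Vec} (hv : V2 S v) : V2 S (S.act S.c v) := by
  rw [V2, ← map_add, ← map_add, hv, map_zero]

theorem V1_V2 {v : S.Vec} (h1 : V1 S v) (h2 : V2 S v) : v = 0 := by
  rwa [V2, h1, h1, add_self', zero_add] at h2

/-- The component in `[V, c]`. -/
noncomputable def π2 (v : S.Vec) : S.Vec := S.act S.c v + S.act S.c (S.act S.c v)

theorem π2_mem (v : S.Vec) : V2 S (π2 v) := by
  rw [V2, π2, map_add, c_cube', map_add, c_cube']
  calc _ = (S.act S.c v + S.act S.c v) + (S.act S.c (S.act S.c v) + S.act S.c (S.act S.c v)) +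
      (v + v) := by abel
    _ = 0 := by simp only [add_self', add_zero]

theorem π1_mem (v : S.Vec) : V1 S (v + π2 v) := by
  rw [V1, π2, map_add, map_add, c_cube']
  abel

theorem B_V1_V2 {v w : S.Vec} (hv : V1 S v) (hw : V2 S w) : S.B v w = 0 := by
  have h1 : S.B v (S.act S.c w) = S.B v w := by
    conv_lhs => rw [← (hv : S.act S.c v = v)]
    rw [B_act]
  have h2 : S.B v (S.act S.c (S.act S.c w)) = S.B v w := by
    conv_lhs => rw [← (hv : S.act S.c v = v)]
    rw [B_act, h1]
  have h3 := congrArg (S.B v) (hw : w + _ + _ = 0)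
  rw [B_add_right, B_add_right, h1, h2, B_zero_right] at h3
  generalize S.B v w = a at h3
  revert h3 a
  decide

theorem nondeg_V1 {v : S.Vec} (hv : V1 S v) (h0 : v ≠ 0) : ∃ w, V1 S w ∧ S.B v w = 1 := by
  obtain ⟨w, hw⟩ := exists_B_one h0
  refine ⟨w + π2 w, π1_mem w, ?_⟩
  rw [B_add_right, B_V1_V2 hv (π2_mem w), hw, add_zero]

theorem nondeg_V2 {v : S.Vec} (hv : V2 S v) (h0 : v ≠ 0) : ∃ w, V2 S w ∧ S.B v w = 1 := by
  obtain ⟨w, hw⟩ := exists_B_one h0
  refine ⟨π2 w, π2_mem w, ?_⟩
  have : S.B v (w + π2 w) = 0 := by rw [B_symm]; exact B_V1_V2 (π1_mem w) hv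
  rw [B_add_right, hw] at this
  generalize S.B v (π2 w) = a at this
  revert this a
  decide

/-- The four elements of a line over the field of order four. -/
theorem line_cases {y : S.Vec} {T : L} (hT : T * T * T = 1)
    (hy : y + S.act T y + S.act T (S.act T y) = 0) (hy0 : y ≠ 0) :
    S.act T (S.act T y) = y + S.act T y ∧ S.act T y ≠ y ∧ S.act T y ≠ 0 ∧
      y + S.act T y ≠ 0 := by
  have h2 : S.act T (S.act T y) = y + S.act T y := (eq_of_add_eq_zero hy).symm
  have hne : S.act T y ≠ y := fun e => hy0 (by
    rwa [e, e, add_self', zero_add] at hy)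
  exact ⟨h2, hne, fun e => hy0 (act_injective T (by rw [e, map_zero])),
    fun e => hne (eq_of_add_eq_zero e).symm⟩

/-- The span of a vector under an element of order three. -/
noncomputable def line (T : L) (y : S.Vec) : Fin 4 → S.Vec := ![0, y, S.act T y, y + S.act T y]

theorem line_inj {y : S.Vec} {T : L} (hT : T * T * T = 1)
    (hy : y + S.act T y + S.act T (S.act T y) = 0) (hy0 : y ≠ 0) :
    Function.Injective (line T y) := by
  obtain ⟨-, h1, h2, h3⟩ := line_cases hT hy hy0
  intro i j e
  fin_cases i <;> fin_cases j <;> simp [line] at e ⊢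
  all_goals first
    | exact hy0 e | exact hy0 e.symm | exact h2 e | exact h2 e.symm | exact h3 e | exact h3 e.symm
    | exact h1 e | exact h1 e.symm
    | exact hy0 (add_eq_left.mp e.symm) | exact hy0 (add_eq_right.mp e.symm)
    | exact h2 (add_eq_left.mp e) | exact h2 (add_eq_left.mp e.symm)
    | exact hy0 (add_eq_right.mp e) | exact hy0 (add_eq_left.mp e)

theorem line_add {y : S.Vec} (T : L) (i j : Fin 4) :
    ∃ k, line T y i + line T y j = line T y k := by
  fin_cases i <;> fin_cases j <;>
    first
      | (refine ⟨0, ?_⟩; simp [line]; (try abel_nf); (try simp [two_nsmul, two_zsmul, add_self']); done)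
      | (refine ⟨1, ?_⟩; simp [line]; (try abel_nf); (try simp [two_nsmul, two_zsmul, add_self']); done)
      | (refine ⟨2, ?_⟩; simp [line]; (try abel_nf); (try simp [two_nsmul, two_zsmul, add_self']); done)
      | (refine ⟨3, ?_⟩; simp [line]; (try abel_nf); (try simp [two_nsmul, two_zsmul, add_self']); done)

end Shape

open Shape

variable {S : Shape G L}

/-- In the trivial case `[V, c]` has four elements. -/
theorem v2_small [Finite G] (htriv : ∀ a v, V2 S v → S.act (S.ι a) v = v) :
    ∀ v w, V2 S v → v ≠ 0 → V2 S w → w = 0 ∨ w = v ∨ w = S.act S.c v ∨ w = v + S.act S.c v := by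
  classical
  intro v w hv hv0 hw
  by_contra hcon
  push Not at hcon
  obtain ⟨hw0, hwv, hwc, hwvc⟩ := hcon
  -- a vector of `V1` moved by `d1`
  have hmove : ∃ x, V1 S x ∧ S.act (S.ι quadA.d1) x ≠ x := by
    by_contra! h
    refine relA.d1_ne (S.ι_inj ?_)
    rw [map_one]
    refine eq_one_of_act (S := S) fun u => ?_
    have h1 := h _ (π1_mem u)
    rw [map_add, htriv _ _ (π2_mem u)] at h1
    exact add_right_cancel h1
  obtain ⟨x, hx, hxd⟩ := hmove
  set T := S.ι quadA.d1 with hTdef
  set F := S.ι quadA.d2 with hFdef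
  have hT : T * T * T = 1 := by
    rw [hTdef, ← map_mul, ← map_mul, ← pow_three', relA.d1_cube, map_one]
  have hF : F * F * F = 1 := by
    rw [hFdef, ← map_mul, ← map_mul, ← pow_three', relA.d2_cube, map_one]
  have hTF : T * F = F * T := by rw [hTdef, hFdef, ← map_mul, relA.d_comm, map_mul]
  have hV1ι : ∀ a u, V1 S u → V1 S (S.act (S.ι a) u) := fun a u hu => by
    show S.act S.c _ = _
    rw [c_ι, hu]
  obtain ⟨y, hy0, hy1, hyT, hyk⟩ := exists_eigen hT hF hTF (V1 S) (fun a b => V1_add)
    (hV1ι _) (hV1ι _) (x := S.act T x + x) (V1_add (hV1ι _ _ hx) hx)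
    (fun e => hxd (eq_of_add_eq_zero e))
    (by
      rw [map_add, map_add, act_cube hT]
      calc _ = (S.act T x + S.act T x) + (x + x) +
          (S.act T (S.act T x) + S.act T (S.act T x)) := by abel
        _ = 0 := by simp only [add_self', add_zero])
  set g := S.ι quadA.g with hgdef
  obtain ⟨hT2, hTne, hTy0, hyTy⟩ := line_cases hT hyT hy0
  -- a conjugate of the fixing element fixes `g y` and moves `y`
  have hcT : Commute T F := hTF
  have hgT : g * T = F * g := by rw [hgdef, hTdef, hFdef, ← map_mul, relA.g_d1, map_mul]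
  have hgF : g * F = T * T * g := by
    rw [hgdef, hTdef, hFdef, ← map_mul, ← map_mul, ← map_mul, relA.g_d2,
      inv_eq_of_mul_eq_one_right (show quadA.d1 * (quadA.d1 * quadA.d1) = 1 by
        rw [← pow_three]; exact relA.d1_cube)]
  obtain ⟨D, hDg, hDy, hDT, hDF⟩ : ∃ D : L, S.act D (S.act g y) = S.act g y ∧
      (S.act D y = S.act T y ∨ S.act D y = S.act T (S.act T y)) ∧ Commute D T ∧ Commute D F := by
    have e1 : ∀ u, S.act g (S.act T u) = S.act F (S.act g u) := fun u => by
      rw [← act_mul, hgT, act_mul]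
    have e2 : ∀ u, S.act g (S.act F u) = S.act T (S.act T (S.act g u)) := fun u => by
      rw [← act_mul, hgF, act_mul, act_mul]
    have e3 : ∀ u, S.act F (S.act T u) = S.act T (S.act F u) := fun u => act_comm hTF.symm u
    have cTT : Commute (T * T) T := (Commute.refl T).mul_left (Commute.refl T)
    have cTF : Commute (T * T) F := hcT.mul_left hcT
    rcases hyk with h | h | h
    · refine ⟨T * T, ?_, Or.inr (act_mul _ _ _), cTT, cTF⟩
      rw [act_mul, ← e2, h]
    · refine ⟨F * (T * T), ?_, Or.inl ?_, hcT.symm.mul_left cTT, (Commute.refl F).mul_left cTF⟩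
      · rw [act_mul, act_mul, ← e2, ← e1, h]
      · rw [act_mul, act_mul, e3, e3]
        have h' : S.act F y = S.act T (S.act T y) := by
          conv_rhs => rw [← h, act_cube hT]
        rw [h', act_cube hT]
    · refine ⟨F * (F * (T * T)), ?_, Or.inl ?_, hcT.symm.mul_left (hcT.symm.mul_left cTT),
        (Commute.refl F).mul_left ((Commute.refl F).mul_left cTF)⟩
      · rw [act_mul, act_mul, act_mul, ← e2, ← e1, ← e1, h]
      · rw [act_mul, act_mul, act_mul, e3, e3, e3, e3]
        have h' : S.act F y = S.act T y := by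
          conv_rhs => rw [← h, act_cube hT]
        rw [h', e3, h', act_cube hT]
  set Y := line T y with hY
  set Y' : Fin 4 → S.Vec := fun i => S.act g (line T y i) with hY'
  have hY1 : ∀ i, V1 S (Y i) := by
    intro i
    fin_cases i
    · simp [hY, line, V1]
    · exact hy1
    · exact hV1ι _ _ hy1
    · exact V1_add hy1 (hV1ι _ _ hy1)
  have hY'1 : ∀ i, V1 S (Y' i) := fun i => hV1ι _ _ (hY1 i)
  have hYkill : ∀ i, Y i + S.act T (Y i) + S.act T (S.act T (Y i)) = 0 := by
    have hyT' : S.act T y + S.act T (S.act T y) + S.act T (S.act T (S.act T y)) = 0 := by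
      rw [← map_add, ← map_add, hyT, map_zero]
    intro i
    fin_cases i
    · simp [hY, line]
    · exact hyT
    · exact hyT'
    · show (y + S.act T y) + S.act T (y + S.act T y) + S.act T (S.act T (y + S.act T y)) = 0
      rw [map_add, map_add]
      calc _ = (y + S.act T y + S.act T (S.act T y)) + (S.act T y + S.act T (S.act T y) +
          S.act T (S.act T (S.act T y))) := by abel
        _ = 0 := by rw [hyT, hyT', add_zero]
  have hDY' : ∀ i, S.act D (Y' i) = Y' i := by
    have h2 : S.act D (S.act g (S.act T y)) = S.act g (S.act T y) := by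
      rw [← act_mul g T, hgT, act_mul, act_comm hDF.eq, hDg]
    intro i
    fin_cases i
    · simp [hY', line]
    · exact hDg
    · exact h2
    · show S.act D (S.act g (y + S.act T y)) = S.act g (y + S.act T y)
      rw [map_add, map_add, hDg, h2]
  have hDT' : S.act D (S.act T y) = S.act T (S.act D y) := act_comm hDT.eq y
  have hB : ∀ i j, S.B (Y i) (Y' j) = 0 := by
    intro i j
    have hfix : ∀ a, S.B (S.act D a + a) (Y' j) = 0 := by
      intro a
      have := B_act (S := S) D a (Y' j)
      rw [hDY'] at this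
      rw [B_add_left, this]
      generalize S.B a (Y' j) = r
      revert r
      decide
    have h12 : S.B y (Y' j) = 0 ∧ S.B (S.act T y) (Y' j) = 0 := by
      rcases hDy with e | e
      · have h1 := hfix y
        have h2 := hfix (S.act T y)
        rw [e] at h1
        rw [hDT', e, hT2, add_assoc, add_self', add_zero] at h2
        rw [B_add_left, h2, add_zero] at h1
        exact ⟨h2, h1⟩
      · have h1 := hfix y
        rw [e, hT2, add_comm y (S.act T y), add_assoc, add_self', add_zero] at h1
        have h2 := hfix (S.act T y)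
        rw [hDT', e, act_cube hT, B_add_left, h1, add_zero] at h2
        exact ⟨h2, h1⟩
    fin_cases i
    · simp [hY, line]
    · exact h12.1
    · exact h12.2
    · show S.B (y + S.act T y) (Y' j) = 0
      rw [B_add_left, h12.1, h12.2, add_zero]
  have hDY : ∀ i, (S.act D (Y i) = S.act T (Y i) ∨ S.act D (Y i) = S.act T (S.act T (Y i))) := by
    intro i
    rcases hDy with e | e <;> [left; right] <;> fin_cases i <;>
      simp [hY, line, map_add, hDT', e]
  have hYY' : ∀ i j, Y i = Y' j → Y i = 0 := by
    intro i j e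
    have h1 := hYkill i
    have h2 : S.act D (Y i) = Y i := by rw [e]; exact hDY' j
    rcases hDY i with h | h <;> rw [h2] at h
    · rw [← h, ← h, add_self', zero_add] at h1
      exact h1
    · have h' := congrArg (S.act T) h
      rw [act_cube hT] at h'
      rw [h', h', add_self', zero_add] at h1
      exact h1
  have hvT : ∀ u, V2 S u → u + S.act S.c u + S.act S.c (S.act S.c u) = 0 := fun u hu => hu
  -- all vectors decompose
  set Z := line S.c v with hZ
  set Z' := line S.c w with hZ'
  have hZ2 : ∀ u, V2 S u → ∀ i, V2 S (line S.c u i) := by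
    intro u hu i
    fin_cases i
    · simp [line, V2]
    · exact hu
    · exact V2_c hu
    · exact V2_add hu (V2_c hu)
  have hZZ' : ∀ k l, Z k = Z' l → Z' l = 0 := by
    intro k l e
    have hstab : ∀ u, (∃ k, u = Z k) → ∃ k, S.act S.c u = Z k := by
      rintro _ ⟨k, rfl⟩
      have h2 := (line_cases S.c_cube hv hv0).1
      fin_cases k
      · exact ⟨0, by simp [hZ, line]⟩
      · exact ⟨2, rfl⟩
      · exact ⟨3, h2⟩
      · refine ⟨1, ?_⟩
        show S.act S.c (v + S.act S.c v) = v
        rw [map_add, h2, add_comm v, add_add_cancel_left']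
    have hw2 := (line_cases S.c_cube hw hw0).1
    have hwmem : (∃ k, w = Z k) → False := by
      rintro ⟨k', e'⟩
      fin_cases k'
      exacts [hw0 e', hwv e', hwc e', hwvc e']
    fin_cases l
    · rfl
    · exact (hwmem ⟨k, e.symm⟩).elim
    · refine (hwmem ?_).elim
      obtain ⟨k1, h1⟩ := hstab _ ⟨k, e.symm⟩
      obtain ⟨k2, h2⟩ := hstab _ ⟨k1, h1⟩
      exact ⟨k2, by rw [← h2]; exact (c_cube' w).symm⟩
    · refine (hwmem ?_).elim
      obtain ⟨k1, h1⟩ := hstab _ ⟨k, e.symm⟩
      refine ⟨k1, ?_⟩
      rw [← h1]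
      show w = S.act S.c (w + S.act S.c w)
      rw [map_add, hw2, add_comm w, add_add_cancel_left']
  set Φ : Fin 4 × Fin 4 × Fin 4 × Fin 4 → S.Vec :=
    fun r => (Y r.1 + Y' r.2.1) + (Z r.2.2.1 + Z' r.2.2.2) with hΦ
  have hΦinj : Function.Injective Φ := by
    rintro ⟨a, b, k, l⟩ ⟨a', b', k', l'⟩ e
    obtain ⟨i, hi⟩ := line_add (y := y) T a a'
    obtain ⟨j, hj⟩ := line_add (y := y) T b b'
    obtain ⟨m, hm⟩ := line_add (y := v) S.c k k'
    obtain ⟨n, hn⟩ := line_add (y := w) S.c l l'
    have hj' : Y' b + Y' b' = Y' j := by simp only [hY', ← map_add, hj]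
    have h0 : (Y i + Y' j) + (Z m + Z' n) = 0 := by
      rw [hY, hZ, hZ', ← hi, ← hj', ← hm, ← hn]
      calc _ = Φ (a, b, k, l) + Φ (a', b', k', l') := by simp only [hΦ, hY, hZ, hZ']; abel
        _ = 0 := by rw [e, add_self']
    have h1 := eq_of_add_eq_zero h0
    have h12 := V1_V2 (V1_add (hY1 i) (hY'1 j)) (h1 ▸ V2_add (hZ2 v hv m) (hZ2 w hw n))
    rw [h12] at h1
    have hij := eq_of_add_eq_zero h12
    have hi0 := hYY' i j hij
    have hn0 := hZZ' m n (eq_of_add_eq_zero h1.symm)
    have hm0 : Z m = 0 := (eq_of_add_eq_zero h1.symm).trans hn0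
    have hj0 : line T y j = 0 := act_injective g (by rw [map_zero]; exact hij.symm.trans hi0)
    rw [hY, ← hi] at hi0
    rw [← hj] at hj0
    rw [hZ, ← hm] at hm0
    rw [hZ', ← hn] at hn0
    rw [line_inj hT hyT hy0 (eq_of_add_eq_zero hi0), line_inj hT hyT hy0 (eq_of_add_eq_zero hj0),
      line_inj S.c_cube hv hv0 (eq_of_add_eq_zero hm0),
      line_inj S.c_cube hw hw0 (eq_of_add_eq_zero hn0)]
  have hΦsurj : Function.Surjective Φ := by
    refine ((Nat.bijective_iff_injective_and_card Φ).mpr ⟨hΦinj, ?_⟩).2
    rw [card_vec]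
    simp [Nat.card_prod]
  have hdec : ∀ u, V1 S u → ∃ i j, u = Y i + Y' j := by
    intro u hu
    obtain ⟨⟨a, b, k, l⟩, rfl⟩ := hΦsurj u
    refine ⟨a, b, ?_⟩
    have h2 : Z k + Z' l = 0 := by
      refine V1_V2 ?_ (V2_add (hZ2 v hv k) (hZ2 w hw l))
      have := V1_add (V1_add (hY1 a) (hY'1 b)) hu
      simp only [hΦ] at this
      rwa [add_add_cancel_left'] at this
    simp only [hΦ]
    rw [h2, add_zero]
  have hByT : S.B y (S.act T y) = 1 := by
    obtain ⟨u, hu, hyu⟩ := nondeg_V1 hy1 hy0
    obtain ⟨i, j, rfl⟩ := hdec u hu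
    have hBy : S.B y (Y' j) = 0 := hB 1 j
    rw [B_add_right, hBy, add_zero] at hyu
    fin_cases i
    · simp [hY, line] at hyu
    · simp [hY, line, B_self] at hyu
    · exact hyu
    · simpa [hY, line, B_add_right, B_self] using hyu
  have hqy : S.q y = 1 := by
    have h := q_add y (S.act T y)
    rw [← hT2, q_act, q_act, hByT] at h
    generalize S.q y = r at h
    revert h r
    decide
  have hqY : ∀ i, i ≠ 0 → S.q (Y i) = 1 := by
    intro i hi
    fin_cases i
    · exact absurd rfl hi
    · exact hqy
    · show S.q (S.act T y) = 1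
      rw [q_act, hqy]
    · show S.q (y + S.act T y) = 1
      rw [← hT2, q_act, q_act, hqy]
  have hBY : ∀ i k, i ≠ 0 → k ≠ 0 → i ≠ k → S.B (Y i) (Y k) = 1 := by
    intro i k hi hk hik
    have h := q_add (Y i) (Y k)
    obtain ⟨m, hm⟩ := line_add (y := y) T i k
    have hm0 : m ≠ 0 := fun e => hik (line_inj hT hyT hy0 (eq_of_add_eq_zero (by
      rw [hm, e]; rfl)))
    rw [show Y i + Y k = Y m from hm, hqY m hm0, hqY i hi, hqY k hk] at h
    generalize S.B (Y i) (Y k) = r at h
    revert h r
    decide
  -- the six nonsingular vectors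
  have hsix : ∀ u, V1 S u → S.q u = 1 → (∃ i, u = Y i) ∨ ∃ j, u = Y' j := by
    intro u hu hq
    obtain ⟨i, j, rfl⟩ := hdec u hu
    by_cases hi : i = 0
    · right; exact ⟨j, by simp [hi, hY, line]⟩
    by_cases hj : j = 0
    · left; exact ⟨i, by simp [hj, hY', line]⟩
    have hq' : S.q (Y' j) = 1 := by rw [hY']; exact (q_act g _).trans (hqY j hj)
    rw [q_add, hqY i hi, hq', hB] at hq
    exact absurd hq (by decide)
  have hpair : ∀ (a : A6) (f f' : Fin 4 → S.Vec), (f = Y ∧ f' = Y') ∨ (f = Y' ∧ f' = Y) →
      (∀ i, ∃ k, S.act (S.ι a) (Y i) = f k) → ∀ i, ∃ k, S.act (S.ι a) (Y' i) = f' k := by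
    intro a f f' hff h
    have key : ∀ b, b ≠ 0 → ∃ k, S.act (S.ι a) (Y' b) = f' k := by
      intro b hb
      rcases hsix _ (hV1ι a _ (hY'1 b))
          (by rw [q_act, hY']; exact (q_act g _).trans (hqY b hb)) with hc | hc <;>
        rcases hff with ⟨rfl, rfl⟩ | ⟨rfl, rfl⟩
      · exfalso
        obtain ⟨m, hm⟩ := hc
        obtain ⟨k1, h1⟩ := h 1
        obtain ⟨k2, h2⟩ := h 2
        have b1 := B_act (S := S) (S.ι a) (Y 1) (Y' b)
        have b2 := B_act (S := S) (S.ι a) (Y 2) (Y' b)
        rw [h1, hm, hB] at b1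
        rw [h2, hm, hB] at b2
        have hm0 : m ≠ 0 := by
          rintro rfl
          have : line T y b = 0 := act_injective g (by
            rw [map_zero]; exact act_injective (S.ι a) (by rw [map_zero]; exact hm))
          exact hb (line_inj hT hyT hy0 (this.trans rfl))
        have hk1 : k1 ≠ 0 := by
          rintro rfl
          exact hy0 (act_injective (S.ι a) (by rw [map_zero]; exact h1))
        have hk2 : k2 ≠ 0 := by
          rintro rfl
          exact hTy0 (act_injective (S.ι a) (by rw [map_zero]; exact h2))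
        have hk12 : k1 ≠ k2 := by
          rintro rfl
          exact hTne (act_injective (S.ι a) (h2.trans h1.symm))
        by_cases e : k1 = m
        · rw [hBY k2 m hk2 hm0 (fun e' => hk12 (e.trans e'.symm))] at b2
          exact one_ne_zero b2
        · rw [hBY k1 m hk1 hm0 e] at b1
          exact one_ne_zero b1
      · exact hc
      · exact hc
      · exfalso
        obtain ⟨m, hm⟩ := hc
        obtain ⟨k1, h1⟩ := h 1
        obtain ⟨k2, h2⟩ := h 2
        have b1 := B_act (S := S) (S.ι a) (Y 1) (Y' b)
        have b2 := B_act (S := S) (S.ι a) (Y 2) (Y' b)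
        rw [h1, hm, hB, hY', B_act] at b1
        rw [h2, hm, hB, hY', B_act] at b2
        have hm0 : m ≠ 0 := by
          rintro rfl
          have : line T y b = 0 := act_injective g (by
            rw [map_zero]; exact act_injective (S.ι a) (by
              rw [map_zero]; exact hm.trans (map_zero _)))
          exact hb (line_inj hT hyT hy0 (this.trans rfl))
        have hk1 : k1 ≠ 0 := by
          rintro rfl
          exact hy0 (act_injective (S.ι a) (by rw [map_zero]; exact h1.trans (map_zero _)))
        have hk2 : k2 ≠ 0 := by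
          rintro rfl
          exact hTy0 (act_injective (S.ι a) (by rw [map_zero]; exact h2.trans (map_zero _)))
        have hk12 : k1 ≠ k2 := by
          rintro rfl
          exact hTne (act_injective (S.ι a) (h2.trans h1.symm))
        by_cases e : k1 = m
        · rw [show S.B (line T y k2) (line T y m) = 1 from
            hBY k2 m hk2 hm0 (fun e' => hk12 (e.trans e'.symm))] at b2
          exact one_ne_zero b2
        · rw [show S.B (line T y k1) (line T y m) = 1 from hBY k1 m hk1 hm0 e] at b1
          exact one_ne_zero b1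
    intro i
    by_cases hi : i = 0
    · refine ⟨0, ?_⟩
      rcases hff with ⟨rfl, rfl⟩ | ⟨rfl, rfl⟩ <;> simp [hi, hY', hY, line]
    · exact key i hi
  have hdich : ∀ a : A6, (∀ i, ∃ k, S.act (S.ι a) (Y i) = Y k) ∨
      (∀ i, ∃ k, S.act (S.ι a) (Y i) = Y' k) := by
    intro a
    have h1 := hsix _ (hV1ι a _ (hY1 1)) (by rw [q_act]; exact hqy)
    have h2 := hsix _ (hV1ι a _ (hY1 2)) (by rw [q_act]; exact hqY 2 (by decide))
    have hbb : S.B (S.act (S.ι a) (Y 1)) (S.act (S.ι a) (Y 2)) = 1 := by rw [B_act]; exact hByT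
    have ext : ∀ f : Fin 4 → S.Vec, (∃ k, S.act (S.ι a) (Y 1) = f k) →
        (∃ k, S.act (S.ι a) (Y 2) = f k) → (f 0 = 0) → (∀ i k, ∃ m, f i + f k = f m) →
        ∀ i, ∃ k, S.act (S.ι a) (Y i) = f k := by
      rintro f ⟨k1, e1⟩ ⟨k2, e2⟩ f0 fadd i
      fin_cases i
      · exact ⟨0, by simp [hY, line, f0]⟩
      · exact ⟨k1, e1⟩
      · exact ⟨k2, e2⟩
      · obtain ⟨m, hm⟩ := fadd k1 k2
        refine ⟨m, ?_⟩
        show S.act (S.ι a) (Y 1 + Y 2) = f m
        rw [map_add, e1, e2, hm]
    rcases h1 with ⟨i, e1⟩ | ⟨i, e1⟩ <;> rcases h2 with ⟨j, e2⟩ | ⟨j, e2⟩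
    · exact Or.inl (ext Y ⟨i, e1⟩ ⟨j, e2⟩ rfl fun i k => line_add T i k)
    · rw [e1, e2, hB] at hbb; exact absurd hbb zero_ne_one
    · rw [e1, e2, B_symm, hB] at hbb; exact absurd hbb zero_ne_one
    · refine Or.inr (ext Y' ⟨i, e1⟩ ⟨j, e2⟩ (by simp [hY', line]) fun i k => ?_)
      obtain ⟨m, hm⟩ := line_add (y := y) T i k
      exact ⟨m, by simp only [hY', ← map_add, hm]⟩
  let H : Submonoid A6 :=
    { carrier := {a | ∀ i, ∃ k, S.act (S.ι a) (Y i) = Y k}
      one_mem' := fun i => ⟨i, by rw [map_one, act_one]⟩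
      mul_mem' := fun {a b} ha hb i => by
        obtain ⟨k, hk⟩ := hb i
        obtain ⟨m, hm⟩ := ha k
        exact ⟨m, by rw [map_mul, act_mul, hk, hm]⟩ }
  have hsq : ∀ a : A6, a * a ∈ H := by
    intro a
    rcases hdich a with h | h
    · exact H.mul_mem h h
    · intro i
      obtain ⟨k, hk⟩ := h i
      obtain ⟨m, hm⟩ := hpair a Y' Y (Or.inr ⟨rfl, rfl⟩) h k
      exact ⟨m, by rw [map_mul, act_mul, hk, hm]⟩
  have hall : ∀ a : A6, a ∈ H := by
    intro a
    let H' : Subgroup A6 :=
      { H with
        inv_mem' := fun {x} hx => by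
          have e : x⁻¹ = x ^ (orderOf x - 1) := by
            refine inv_eq_of_mul_eq_one_right ?_
            rw [← pow_succ', Nat.sub_add_cancel (orderOf_pos x), pow_orderOf_eq_one]
          rw [e]
          exact H.pow_mem hx _ }
    have htop : H' = ⊤ := by
      refine eq_top_of_mem [] (by simp)
        ((Finset.univ.filter fun σ : Perm (Fin 6) => σ.support.card = 3).toList) ?_ 0
        (fun σ hσ => by simp [reach, hσ])
      intro σ hσ
      simp only [Finset.mem_toList, Finset.mem_filter, Finset.mem_univ, true_and] at hσ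
      have h3 : σ.IsThreeCycle := card_support_eq_three_iff.mp hσ
      refine ⟨⟨σ, h3.mem_alternatingGroup⟩, ?_, rfl⟩
      show (⟨σ, h3.mem_alternatingGroup⟩ : A6) ∈ H
      have e : (⟨σ, h3.mem_alternatingGroup⟩ : A6) =
          (⟨σ, h3.mem_alternatingGroup⟩ * ⟨σ, h3.mem_alternatingGroup⟩) *
          (⟨σ, h3.mem_alternatingGroup⟩ * ⟨σ, h3.mem_alternatingGroup⟩) := by
        apply Subtype.ext
        have h := pow_orderOf_eq_one σ
        rw [h3.orderOf] at h
        simp only [Subgroup.coe_mul]
        calc σ = σ ^ 3 * σ := by rw [h, one_mul]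
          _ = σ * σ * (σ * σ) := by simp only [pow_succ, pow_zero, one_mul, mul_assoc]
      rw [e]
      exact hsq _
    exact (htop ▸ Subgroup.mem_top a : a ∈ H')
  obtain ⟨k, hk⟩ := hall quadA.g 1
  have := hYY' k 1 hk.symm
  exact hy0 (act_injective (S := S) (S.ι quadA.g) (by rw [map_zero]; exact hk.trans this))

/-- The trivial case is impossible when some conjugate of `z` other than `z` lies in `Q`. -/
theorem trivial_case [Finite G] (p : Pair S) (htriv : ∀ a v, V2 S v → S.act (S.ι a) v = v) :
    False := by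
  classical
  have hLfin : Finite L := Finite.of_surjective _ S.ρ_surj
  -- a nonzero vector of `[V, c]`
  obtain ⟨v, hv, hv0⟩ : ∃ v, V2 S v ∧ v ≠ 0 := by
    by_contra! h
    refine S.c_ne (eq_one_of_act (S := S) fun u => ?_)
    have h1 := h _ (π2_mem u)
    have h2 : V1 S (u + π2 u) := π1_mem u
    rwa [h1, add_zero] at h2
  obtain ⟨hc2, hcne, hcv0, hvcv⟩ := line_cases S.c_cube hv hv0
  have hsmall := v2_small htriv v
  have hBv : S.B v (S.act S.c v) = 1 := by
    obtain ⟨w, hw, hvw⟩ := nondeg_V2 hv hv0
    rcases hsmall w hv hv0 hw with rfl | rfl | rfl | rfl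
    · simp at hvw
    · simp [B_self] at hvw
    · exact hvw
    · simpa [B_add_right, B_self] using hvw
  have hqv : S.q v = 1 := by
    have h := q_add v (S.act S.c v)
    rw [← hc2, q_act, q_act, hBv] at h
    generalize S.q v = r at h
    revert h r
    decide
  have hq2 : ∀ w, V2 S w → w ≠ 0 → S.q w = 1 := by
    intro w hw hw0
    rcases hsmall w hv hv0 hw with rfl | rfl | rfl | rfl
    · exact absurd rfl hw0
    · exact hqv
    · rw [q_act, hqv]
    · rw [← hc2, q_act, q_act, hqv]
  obtain ⟨s, hsdef⟩ : ∃ s, s = S.pr p.s := ⟨_, rfl⟩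
  obtain ⟨u2, hu2⟩ : ∃ u, u = π2 s := ⟨_, rfl⟩
  have hs0 : s ≠ 0 := hsdef ▸ p.pr_s_ne
  by_cases hu0 : u2 = 0
  · -- `c` fixes the vector
    have hcs : S.act S.c s = s := by
      have h := π1_mem (S := S) s
      rwa [← hu2, hu0, add_zero] at h
    rw [hsdef] at hcs
    have hE1 : ∀ x ∈ p.Eb, π2 x = 0 := by
      intro x hx
      by_contra h
      have hm : π2 x ∈ p.Eb := p.Eb.add_mem (p.Eb_act hcs hx) (p.Eb_act hcs (p.Eb_act hcs hx))
      exact one_ne_zero ((hq2 _ (π2_mem x) h).symm.trans (p.q_Eb hm))
    have hEV1 : ∀ x ∈ p.Eb, V1 S x := fun x hx => by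
      have h := π1_mem (S := S) x
      rwa [hE1 x hx, add_zero] at h
    let X : AddSubgroup S.Vec := p.Eb ⊔ AddSubgroup.zmultiples v
    have hXmem : ∀ a ∈ X, ∃ x ∈ p.Eb, a = x ∨ a = x + v := by
      intro a ha
      obtain ⟨x, hx, b, hb, rfl⟩ := AddSubgroup.mem_sup.mp ha
      obtain ⟨k, rfl⟩ := AddSubgroup.mem_zmultiples_iff.mp hb
      refine ⟨x, hx, ?_⟩
      rcases Int.even_or_odd k with ⟨j, rfl⟩ | ⟨j, rfl⟩
      · left; rw [add_zsmul, add_self', add_zero]
      · right; rw [add_zsmul, two_mul, add_zsmul, add_self', zero_add, one_zsmul]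
    have hXiso : ∀ a ∈ X, ∀ b ∈ X, S.B a b = 0 := by
      intro a ha b hb
      obtain ⟨x, hx, hax⟩ := hXmem a ha
      obtain ⟨y, hy, hby⟩ := hXmem b hb
      have h1 := p.B_Eb hx hy
      have h2 := B_V1_V2 (hEV1 x hx) hv
      have h3 := B_V1_V2 (hEV1 y hy) hv
      rw [B_symm] at h3
      rcases hax with rfl | rfl <;> rcases hby with rfl | rfl <;>
        simp [B_add_left, B_add_right, h1, h2, h3, B_self]
    have h2X : 2 * Nat.card p.Eb ≤ Nat.card X := by
      have hinj : Function.Injective fun r : Bool × p.Eb =>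
          (⟨(if r.1 then v else 0) + r.2, add_mem (by
            split
            · exact AddSubgroup.mem_sup_right (AddSubgroup.mem_zmultiples v)
            · exact zero_mem _) (AddSubgroup.mem_sup_left r.2.2)⟩ : X) := by
        rintro ⟨a, x⟩ ⟨b, y⟩ e
        have e1 := congrArg Subtype.val e
        have hvE : v ∉ p.Eb := fun h => hv0 (V1_V2 (hEV1 v h) hv)
        cases a <;> cases b <;> simp at e1 ⊢
        · exact e1
        · exact absurd (by
            rw [show v = (x : S.Vec) + y by rw [e1, add_assoc, add_self', add_zero]]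
            exact add_mem x.2 y.2) hvE
        · exact absurd (by
            rw [show v = (y : S.Vec) + x by rw [← e1, add_assoc, add_self', add_zero]]
            exact add_mem y.2 x.2) hvE
        · exact e1
      simpa [Nat.card_prod] using Nat.card_le_card_of_injective _ hinj
    have hA16 : 16 ≤ Nat.card p.A := by
      have h1 := p.card_mul
      have h2 := card_isotropic_le X hXiso
      by_contra h
      nlinarith
    haveI : Fact (Nat.Prime 2) := ⟨Nat.prime_two⟩
    have hA2 : IsPGroup 2 p.A := fun a => ⟨1, Subtype.ext (by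
      rw [pow_one, sq]; exact p.A_sq a a.2)⟩
    obtain ⟨n, hn⟩ := IsPGroup.iff_card.mp hA2
    have h4n : 4 ≤ n := by
      by_contra h
      have : 2 ^ n ≤ 2 ^ 3 := Nat.pow_le_pow_right (by norm_num) (by omega)
      omega
    obtain ⟨K, hK⟩ := Sylow.exists_subgroup_card_pow_prime 2 (G := p.A) (n := 4) (by
      rw [hn]; exact pow_dvd_pow 2 h4n)
    obtain ⟨α, hα, hαc⟩ : ∃ α ∈ p.A, α * S.c ≠ S.c * α := by
      by_contra! h
      refine S.small (K.map p.A.subtype) ?_ ?_ ?_
      · rw [Subgroup.card_map_of_injective p.A.subtype_injective, hK]; norm_num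
      · rintro _ ⟨a, -, rfl⟩ _ ⟨b, -, rfl⟩
        exact p.A_comm _ a.2 _ b.2
      · rintro _ ⟨a, -, rfl⟩
        exact h _ a.2
    have hinv := (S.c_normal α).resolve_left hαc
    have hV2α : V2 S (S.act α v) := by
      have he : α * (S.c * S.c) = S.c * α := by
        calc α * (S.c * S.c) = α * S.c * S.c := (mul_assoc _ _ _).symm
          _ = S.c * S.c * (α * S.c) := (congrArg (· * S.c) hinv).trans (mul_assoc _ _ _)
          _ = S.c * S.c * S.c * (S.c * α) := by rw [hinv]; group
          _ = S.c * α := by rw [S.c_cube, one_mul]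
      have e : ∀ u, S.act S.c (S.act α u) = S.act α (S.act S.c (S.act S.c u)) := fun u => by
        rw [← act_mul, ← he, act_mul, act_mul]
      rw [V2, e, e, c_cube', ← map_add, ← map_add, add_right_comm, hv, map_zero]
    have hfix : ∀ w, V2 S w → V2 S (S.act α w) → S.act α w = w := by
      intro w hw hwα
      have hB : S.B w (S.pr p.s) = 0 := by
        rw [B_symm]
        exact B_V1_V2 (show V1 S (S.pr p.s) from hcs) hw
      have hm := p.disp_mem hα hB
      by_contra hne
      exact one_ne_zero ((hq2 _ (V2_add hwα hw) fun e => hne (eq_of_add_eq_zero e)).symm.trans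
        (p.q_Eb hm))
    have h1 := hfix v hv hV2α
    have e : S.act α (S.act S.c v) = S.act S.c (S.act S.c v) := by
      rw [← act_mul, hinv, act_mul, act_mul, h1]
    have h2 := hfix _ (V2_c hv) (e ▸ V2_c (V2_c hv))
    rw [e] at h2
    exact hcne (act_injective S.c h2)
  · -- `c` moves the vector
    have hu2V : V2 S u2 := hu2 ▸ π2_mem s
    obtain ⟨hc2', hcne', -, -⟩ := line_cases S.c_cube hu2V hu0
    have hsmall' := fun w hw => v2_small htriv u2 w hu2V hu0 hw
    obtain ⟨u1, hu1⟩ : ∃ u, u = s + u2 := ⟨_, rfl⟩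
    have hu1V : V1 S u1 := hu1 ▸ hu2 ▸ π1_mem s
    have hs12 : s = u1 + u2 := by rw [hu1, add_assoc, add_self', add_zero]
    have hBu : S.B u2 (S.act S.c u2) = 1 := by
      have h := q_add u2 (S.act S.c u2)
      rw [← hc2', q_act, q_act, hq2 _ hu2V hu0] at h
      generalize S.B u2 (S.act S.c u2) = r at h
      revert h r
      decide
    have hqu1 : S.q u1 = 1 := by
      have h := q_add u1 u2
      rw [← hs12, hq2 _ hu2V hu0, B_V1_V2 hu1V hu2V, hsdef, p.q_s] at h
      generalize S.q u1 = r at h
      revert h r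
      decide
    let A0 : Subgroup L := p.A ⊓ Subgroup.centralizer {S.c}
    have hA0 : ∀ α, α ∈ A0 ↔ α ∈ p.A ∧ α * S.c = S.c * α := fun α => by
      simp [A0, Subgroup.mem_inf, Subgroup.mem_centralizer_singleton_iff]
    -- `A0` has index at most two
    have hidx : Nat.card p.A ≤ 2 * Nat.card A0 := by
      by_cases hex : ∃ b ∈ p.A, b * S.c ≠ S.c * b
      · obtain ⟨b, hb, hbc⟩ := hex
        have hb' := (S.c_normal b).resolve_left hbc
        have hprod : ∀ a ∈ p.A, a * S.c ≠ S.c * a → a * b ∈ A0 := by
          intro a ha hac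
          have ha' := (S.c_normal a).resolve_left hac
          refine (hA0 _).mpr ⟨mul_mem ha hb, ?_⟩
          calc a * b * S.c = a * S.c * S.c * b := by rw [mul_assoc, hb']; group
            _ = S.c * S.c * a * S.c * b := congrArg (fun t => t * S.c * b) ha'
            _ = S.c * S.c * (S.c * S.c * a) * b :=
              congrArg (· * b) ((mul_assoc _ _ _).trans (congrArg (S.c * S.c * ·) ha'))
            _ = S.c * S.c * S.c * S.c * (a * b) := by group
            _ = S.c * (a * b) := by rw [S.c_cube, one_mul]
        have hinj : Function.Injective fun a : p.A =>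
            (if h : (a : L) * S.c = S.c * a then
              ((false, ⟨a, (hA0 _).mpr ⟨a.2, h⟩⟩) : Bool × A0)
            else (true, ⟨(a : L) * b, hprod a a.2 h⟩)) := by
          intro a a' e
          dsimp only at e
          by_cases h : (a : L) * S.c = S.c * a <;> by_cases h' : (a' : L) * S.c = S.c * a' <;>
            simp [h, h'] at e
          · exact e
          · exact e
        simpa [Nat.card_prod] using Nat.card_le_card_of_injective _ hinj
      · push Not at hex
        have : A0 = p.A := le_antisymm inf_le_left fun a ha => (hA0 a).mpr ⟨ha, hex a ha⟩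
        rw [this]; omega
    have hfix2 : ∀ α ∈ A0, ∀ w, V2 S w → S.act α w = w := by
      intro α hα w hw
      obtain ⟨hαA, hαc⟩ := (hA0 α).mp hα
      have hs' : S.act α s = s := hsdef ▸ p.act_A_s hαA
      have hu : S.act α u2 = u2 := by
        rw [hu2, π2, map_add, act_comm hαc, act_comm hαc, act_comm hαc, hs']
      rcases hsmall' w hw with rfl | rfl | rfl | rfl
      · simp
      · exact hu
      · rw [act_comm hαc, hu]
      · rw [map_add, act_comm hαc, hu]
    have hV1α : ∀ α ∈ A0, ∀ x, V1 S x → V1 S (S.act α x) := fun α hα x hx => by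
      show S.act S.c _ = _
      rw [act_comm ((hA0 α).mp hα).2.symm, hx]
    -- displacements of `V1` lie in `E1`
    have hdisp : ∀ α ∈ A0, ∀ x, V1 S x →
        S.act α x + x ∈ p.Eb ∧ V1 S (S.act α x + x) := by
      intro α hα x hx
      refine ⟨?_, V1_add (hV1α α hα x hx) hx⟩
      obtain ⟨w, hw, hBw⟩ : ∃ w, V2 S w ∧ S.B (x + w) s = 0 := by
        rcases (show ∀ r : ZMod 2, r = 0 ∨ r = 1 by decide) (S.B x u1) with e | e
        · refine ⟨0, by simp [V2], ?_⟩
          rw [add_zero, hs12, B_add_right, e, B_V1_V2 hx hu2V, add_zero]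
        · refine ⟨S.act S.c u2, V2_c hu2V, ?_⟩
          rw [hs12, B_add_right, B_add_left, B_add_left, e, B_V1_V2 hx hu2V,
            B_symm (S.act S.c u2) u1, B_V1_V2 hu1V (V2_c hu2V), B_symm (S.act S.c u2) u2, hBu]
          decide
      have h := p.disp_mem ((hA0 α).mp hα).1 (hsdef ▸ hBw)
      rw [map_add, hfix2 α hα w hw] at h
      convert h using 1
      calc S.act α x + x = S.act α x + x + (w + w) := by rw [add_self', add_zero]
        _ = S.act α x + w + (x + w) := by abel
    have hE1fix : ∀ α ∈ A0, ∀ e, e ∈ p.Eb → V1 S e → S.act α e = e := by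
      intro α hα e he he1
      rcases p.disp_Eb ((hA0 α).mp hα).1 he with h | h
      · exact eq_of_add_eq_zero h
      · exfalso
        rw [← hsdef] at h
        have hs1 : V1 S s := h ▸ V1_add (hV1α α hα e he1) he1
        exact hu0 (V1_V2 (by
          have := V1_add hs1 hu1V
          rwa [hu1, add_add_cancel_left'] at this) hu2V)
    -- at most four elements in `E1`
    have hfour : ∀ e f, e ∈ p.Eb → V1 S e → f ∈ p.Eb → V1 S f → e ≠ 0 → f ≠ 0 → e ≠ f →
        ∀ x, x ∈ p.Eb → V1 S x → x = 0 ∨ x = e ∨ x = f ∨ x = e + f := by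
      intro e f he he1 hf hf1 he0 hf0 hef x hx hx1
      by_contra! hne
      obtain ⟨hx0, hxe, hxf, hxef⟩ := hne
      let X : AddSubgroup S.Vec := AddSubgroup.closure {e, f, x, u1, u2}
      have hgen : ∀ a ∈ ({e, f, x, u1, u2} : Set S.Vec), ∀ b ∈ ({e, f, x, u1, u2} : Set S.Vec),
          S.B a b = 0 := by
        have hu1E : ∀ a, a ∈ p.Eb → V1 S a → S.B a u1 = 0 := fun a ha ha1 => by
          have h1 : S.B a s = 0 := p.B_Eb ha (hsdef ▸ p.s_mem_Eb)
          rwa [hs12, B_add_right, B_V1_V2 ha1 hu2V, add_zero] at h1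
        have hE := fun a b ha hb => p.B_Eb (v := a) (w := b) ha hb
        have h12 := B_V1_V2 hu1V hu2V
        have hcl : ∀ a ∈ ({e, f, x, u1, u2} : Set S.Vec),
            (a ∈ p.Eb ∧ V1 S a) ∨ a = u1 ∨ a = u2 := by
          intro a ha
          simp only [Set.mem_insert_iff, Set.mem_singleton_iff] at ha
          rcases ha with h | h | h | h | h
          exacts [Or.inl (h ▸ ⟨he, he1⟩), Or.inl (h ▸ ⟨hf, hf1⟩), Or.inl (h ▸ ⟨hx, hx1⟩),
            Or.inr (Or.inl h), Or.inr (Or.inr h)]
        intro a ha b hb
        rcases hcl a ha with ⟨hA, hA1⟩ | hA | hA <;> rcases hcl b hb with ⟨hB', hB1⟩ | hB' | hB'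
        · exact hE a b hA hB'
        · rw [hB']; exact hu1E a hA hA1
        · rw [hB']; exact B_V1_V2 hA1 hu2V
        · rw [hA, B_symm]; exact hu1E b hB' hB1
        · rw [hA, hB']; exact B_self _
        · rw [hA, hB']; exact h12
        · rw [hA, B_symm]; exact B_V1_V2 hB1 hu2V
        · rw [hA, hB', B_symm]; exact h12
        · rw [hA, hB']; exact B_self _
      have hiso : ∀ a ∈ X, ∀ b ∈ X, S.B a b = 0 := by
        intro a ha b hb
        induction ha using AddSubgroup.closure_induction with
        | mem a ha =>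
          induction hb using AddSubgroup.closure_induction with
          | mem b hb => exact hgen a ha b hb
          | zero => simp
          | add b b' _ _ h1 h2 => rw [B_add_right, h1, h2, add_zero]
          | neg b _ h1 => rw [neg_eq', h1]
        | zero => simp
        | add a a' _ _ h1 h2 => rw [B_add_left, h1, h2, add_zero]
        | neg a _ h1 => rw [neg_eq', h1]
      -- thirty two elements
      let g5 : Fin 5 → S.Vec := ![e, f, x, u1, u2]
      let φ : (Fin 5 → ZMod 2) → S.Vec := fun r => ∑ i, if r i = 1 then g5 i else 0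
      have hφadd : ∀ r r', φ r + φ r' = φ (r + r') := by
        intro r r'
        simp only [φ, ← Finset.sum_add_distrib]
        refine Finset.sum_congr rfl fun i _ => ?_
        simp only [Pi.add_apply]
        rcases (show ∀ r : ZMod 2, r = 0 ∨ r = 1 by decide) (r i) with a | a <;>
          rcases (show ∀ r : ZMod 2, r = 0 ∨ r = 1 by decide) (r' i) with b | b <;>
          simp [a, b, add_self', show (1 : ZMod 2) + 1 = 0 by decide]
      have hker : ∀ r, φ r = 0 → r = 0 := by
        intro r h
        simp only [φ, Fin.sum_univ_five, g5] at h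
        have h' : (if r 0 = 1 then e else 0) + (if r 1 = 1 then f else 0) +
            (if r 2 = 1 then x else 0) + (if r 3 = 1 then u1 else 0) +
            (if r 4 = 1 then u2 else 0) = 0 := by simpa using h
        obtain ⟨P, hP⟩ : ∃ P, P = (if r 0 = 1 then e else 0) + (if r 1 = 1 then f else 0) +
            (if r 2 = 1 then x else 0) := ⟨_, rfl⟩
        rw [← hP] at h'
        have hPE : P ∈ p.Eb := hP ▸ add_mem (add_mem (by split <;> simp [he]) (by split <;> simp [hf]))
          (by split <;> simp [hx])
        have hP1 : V1 S P := hP ▸ V1_add (V1_add (by split <;> first | assumption | simp [V1])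
          (by split <;> first | assumption | simp [V1])) (by split <;> first | assumption | simp [V1])
        have h4 : r 4 = 0 := by
          rcases (show ∀ r : ZMod 2, r = 0 ∨ r = 1 by decide) (r 4) with a | a
          · exact a
          · rw [if_pos a] at h'
            exact absurd (V1_V2 (eq_of_add_eq_zero h' ▸ V1_add hP1
              (by split <;> first | assumption | simp [V1])) hu2V) hu0
        rw [h4] at h'
        have h3 : r 3 = 0 := by
          rcases (show ∀ r : ZMod 2, r = 0 ∨ r = 1 by decide) (r 3) with a | a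
          · exact a
          · rw [if_pos a, if_neg (by decide), add_zero] at h'
            exact absurd ((eq_of_add_eq_zero h' ▸ p.q_Eb hPE : S.q u1 = 0).symm.trans hqu1)
              zero_ne_one
        rw [h3, if_neg (by decide), if_neg (by decide), add_zero, add_zero, hP] at h'
        have h012 : r 0 = 0 ∧ r 1 = 0 ∧ r 2 = 0 := by
          rcases (show ∀ r : ZMod 2, r = 0 ∨ r = 1 by decide) (r 0) with a | a <;>
            rcases (show ∀ r : ZMod 2, r = 0 ∨ r = 1 by decide) (r 1) with b | b <;>
            rcases (show ∀ r : ZMod 2, r = 0 ∨ r = 1 by decide) (r 2) with c | c <;>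
            simp [a, b, c] at h' ⊢
          all_goals first
            | exact hx0 h' | exact he0 h' | exact hf0 h'
            | exact hef (eq_of_add_eq_zero h') | exact hxe (eq_of_add_eq_zero h').symm
            | exact hxf (eq_of_add_eq_zero h').symm | exact hxef (eq_of_add_eq_zero h').symm
        funext i
        fin_cases i
        exacts [h012.1, h012.2.1, h012.2.2, h3, h4]
      have hφinj : Function.Injective fun r => (⟨φ r, sum_mem fun i _ => by
          split
          · exact AddSubgroup.subset_closure (by fin_cases i <;> simp [g5])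
          · exact zero_mem _⟩ : X) := by
        intro r r' e1
        have e2 := congrArg Subtype.val e1
        simp only at e2
        have h0 := hker (r + r') (by rw [← hφadd, e2, add_self'])
        funext i
        have h1 := congrFun h0 i
        simp only [Pi.add_apply, Pi.zero_apply] at h1
        generalize r i = a at h1
        generalize r' i = b at h1
        revert h1 a b
        decide
      have h1 := card_isotropic_le X hiso
      have h2 := Nat.card_le_card_of_injective _ hφinj
      simp [Nat.card_fun] at h2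
      omega
    -- `A0` has at most two elements
    have hA0le : Nat.card A0 ≤ 2 := by
      by_cases hex : ∃ α ∈ A0, α ≠ 1
      swap
      · push Not at hex
        rw [(Subgroup.eq_bot_iff_forall A0).mpr hex, Subgroup.card_bot]
        omega
      obtain ⟨α, hα, hα1⟩ := hex
      obtain ⟨x, hx, hxα⟩ : ∃ x, V1 S x ∧ S.act α x ≠ x := by
        by_contra! h
        refine hα1 (eq_one_of_act (S := S) fun u => ?_)
        have h1 := h _ (π1_mem u)
        rw [map_add, hfix2 α hα _ (π2_mem u)] at h1
        exact add_right_cancel h1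
      obtain ⟨e, he⟩ : ∃ e, e = S.act α x + x := ⟨_, rfl⟩
      have he0 : e ≠ 0 := fun h => hxα (eq_of_add_eq_zero (he.symm.trans h))
      obtain ⟨heE, he1⟩ := he ▸ hdisp α hα x hx
      have hzero : ∀ γ ∈ A0, ∀ w, V1 S w → S.B w (S.act γ w + w) = 0 := by
        intro γ hγ w hw
        have h := q_add (S.act γ w + w) w
        rw [add_assoc, add_self', add_zero, q_act, p.q_Eb (hdisp γ hγ w hw).1, zero_add,
          B_symm] at h
        exact left_eq_add.mp h
      have hsym : ∀ γ ∈ A0, ∀ a b, V1 S a → V1 S b →
          S.B (S.act γ a + a) b = S.B a (S.act γ b + b) := by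
        intro γ hγ a b ha hb
        have hEE := p.B_Eb (hdisp γ hγ a ha).1 (hdisp γ hγ b hb).1
        rw [B_add_left, B_add_right, B_add_right, B_act] at hEE
        rw [B_add_left, B_add_right]
        generalize S.B a b = r at hEE ⊢
        generalize S.B (S.act γ a) b = r1 at hEE ⊢
        generalize S.B a (S.act γ b) = r2 at hEE ⊢
        revert hEE r r1 r2
        decide
      obtain ⟨y, hy, hey⟩ := nondeg_V1 he1 he0
      obtain ⟨f, hf⟩ : ∃ f, f = S.act α y + y := ⟨_, rfl⟩
      obtain ⟨hfE, hf1⟩ := hf ▸ hdisp α hα y hy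
      have hxf : S.B x f = 1 := by rw [hf, ← hsym α hα x y hx hy, ← he]; exact hey
      have hxe : S.B x e = 0 := he ▸ hzero α hα x hx
      have hyf : S.B y f = 0 := hf ▸ hzero α hα y hy
      have hye : S.B y e = 1 := by rw [B_symm]; exact hey
      have hf0 : f ≠ 0 := fun h => by simp [h] at hxf
      have hef : e ≠ f := fun h => by rw [← h, hxe] at hxf; exact zero_ne_one hxf
      have hform := hfour e f heE he1 hfE hf1 he0 hf0 hef
      have key : ∀ δ ∈ A0, S.act δ x = x → δ = 1 := by
        intro δ hδ hδx
        refine eq_one_of_act (S := S) fun u => ?_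
        have hV : ∀ w, V1 S w → S.B x (S.act δ w + w) = 0 := fun w hw => by
          rw [← hsym δ hδ x w hx hw, hδx, add_self', B_zero_left]
        have hδy : S.act δ y = y := by
          obtain ⟨h1, h2⟩ := hdisp δ hδ y hy
          rcases hform _ h1 h2 with h | h | h | h
          · exact eq_of_add_eq_zero h
          · have := hzero δ hδ y hy
            rw [h, hye] at this
            exact absurd this one_ne_zero
          · have := hV y hy
            rw [h, hxf] at this
            exact absurd this one_ne_zero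
          · have := hV y hy
            rw [h, B_add_right, hxe, hxf] at this
            exact absurd this (by decide)
        have hw : S.act δ (u + π2 u) = u + π2 u := by
          obtain ⟨h1, h2⟩ := hdisp δ hδ _ (π1_mem u)
          rcases hform _ h1 h2 with h | h | h | h
          · exact eq_of_add_eq_zero h
          · have h3 := hsym δ hδ (u + π2 u) y (π1_mem u) hy
            rw [h, hδy, add_self', B_zero_right, B_symm, hye] at h3
            exact absurd h3 one_ne_zero
          · have := hV _ (π1_mem u)
            rw [h, hxf] at this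
            exact absurd this one_ne_zero
          · have := hV _ (π1_mem u)
            rw [h, B_add_right, hxe, hxf] at this
            exact absurd this (by decide)
        rw [map_add, hfix2 δ hδ _ (π2_mem u)] at hw
        exact add_right_cancel hw
      have hAα : ∀ γ ∈ A0, γ = 1 ∨ γ = α := by
        intro γ hγ
        obtain ⟨h1, h2⟩ := hdisp γ hγ x hx
        have h3 := hzero γ hγ x hx
        rcases hform _ h1 h2 with h | h | h | h
        · exact Or.inl (key γ hγ (eq_of_add_eq_zero h))
        · right
          have hαα : α * α = 1 := p.A_sq α ((hA0 α).mp hα).1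
          have h4 : S.act (α * γ) x = x := by
            have hx' : S.act γ x = S.act α x := by
              rw [he] at h
              exact add_right_cancel h
            rw [act_mul, hx', ← act_mul, hαα, act_one]
          calc γ = α * α * γ := by rw [hαα, one_mul]
            _ = α * (α * γ) := mul_assoc _ _ _
            _ = α := by rw [key _ (mul_mem hα hγ) h4, mul_one]
        · rw [h, hxf] at h3; exact absurd h3 one_ne_zero
        · rw [h, B_add_right, hxe, hxf] at h3; exact absurd h3 (by decide)
      have hinj : Function.Injective fun γ : A0 => decide ((γ : L) = α) := by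
        intro a b e
        rcases hAα a a.2 with ha | ha <;> rcases hAα b b.2 with hb | hb
        · exact Subtype.ext (ha.trans hb.symm)
        · simp [ha, hb, Ne.symm hα1] at e
        · simp [ha, hb, Ne.symm hα1] at e
        · exact Subtype.ext (ha.trans hb.symm)
      simpa using Nat.card_le_card_of_injective _ hinj
    have := p.card_A_ge
    omega

end CfsgLib.ExtraNine
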